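import Cfsg.Agent.Lib.SubfieldTwist29.Grade
import Cfsg.Agent.Lib.LieTwisted.Twist.Orth
import Cfsg.Agent.Lib.ChevFixed.Basic

/-!
Subfield points of twisted groups with orthogonal orbits: the checked facts about the highest root, the
orbit products of root elements, and their coordinates in the radical of the long-root parabolic.
-/

set_option autoImplicit false
set_option linter.unusedSectionVars false

namespace Cfsg.Agent.Lib.SubfieldTwist29

open Cfsg.Lie ChevStructure LieTwisted.Twist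
open scoped MatrixGroups Matrix

variable {D : ChevalleyDatum}

/-- The reflection formula for n_r acting on root elements. -/
theorem nR_conj (C : Core D) (K : Type*) [Field K] (r : Rt D) :
    ∀ (u : Kˣ) (s : Rt D), ∃ s' : Rt D, C.v s' = C.v s - pr D r s • C.v r ∧ ∃ c : K, c ≠ 0 ∧
      ∀ t : K, C.nR K r u * C.X K s t * (C.nR K r u)⁻¹ = C.X K s' (c * t) := by
  refine C.ind (fun r => ∀ (u : Kˣ) (s : Rt D), ∃ s' : Rt D, C.v s' = C.v s - pr D r s • C.v r ∧ ∃ c : K, c ≠ 0 ∧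
      ∀ t : K, C.nR K r u * C.X K s t * (C.nR K r u)⁻¹ = C.X K s' (c * t)) ?_ ?_ r
  · intro i u s
    refine ⟨C.w i s, by rw [C.v_w, C.pr_p, C.v_p], ?_⟩
    set T := C.T K (Pi.mulSingle i u) with hT
    have hn : C.nR K (C.p i) u = T * C.P K i * T⁻¹ := by
      rw [Core.P, C.T_nR_conj, C.chr_single, C.v_p]
      simp
    set a : K := ((C.chr K (Pi.mulSingle i u) s : Kˣ) : K) with ha
    set b : K := ((C.chr K (Pi.mulSingle i u) (C.w i s) : Kˣ) : K) with hb
    have hη : (C.η i s : K) ≠ 0 := by rcases C.η_one i s with h | h <;> simp [h]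
    refine ⟨b * (C.η i s : K) * a⁻¹, mul_ne_zero (mul_ne_zero (Units.ne_zero _) hη) (inv_ne_zero (Units.ne_zero _)),
      fun t => ?_⟩
    have h1 : T⁻¹ * C.X K s t * T = C.X K s (a⁻¹ * t) := by
      have := C.T_X_conj K (Pi.mulSingle i u) s (a⁻¹ * t)
      rw [← ha, mul_inv_cancel_left₀ (Units.ne_zero _), ← hT] at this
      rw [← this]; group
    rw [hn, show T * C.P K i * T⁻¹ * C.X K s t * (T * C.P K i * T⁻¹)⁻¹ =
      T * (C.P K i * (T⁻¹ * C.X K s t * T) * (C.P K i)⁻¹) * T⁻¹ by group, h1, C.P_X_conj, hT, C.T_X_conj]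
    congr 1
    ring
  · intro i r ih u s
    obtain ⟨s'', hv, c, hc, h⟩ := ih (C.ηU K i r * u) (C.w i s)
    refine ⟨C.w i s'', ?_, ?_⟩
    · have hA : A D i s'' = A D i (C.w i s) - pr D r (C.w i s) * A D i r := by
        rw [C.A_lin, C.A_lin i (C.w i s), C.A_lin i r, hv, Finset.mul_sum, ← Finset.sum_sub_distrib]
        refine Finset.sum_congr rfl fun m _ => ?_
        simp only [Pi.sub_apply, Pi.smul_apply, smul_eq_mul]
        ring
      have hpr : pr D (C.w i r) s = pr D r (C.w i s) := by rw [← C.pr_w i r (C.w i s), C.w_w]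
      rw [C.v_w, hA, hv, C.A_w, C.A_p, hpr, C.v_w, C.v_w]
      module
    · have hη : ∀ x, (C.η i x : K) ≠ 0 := fun x => by rcases C.η_one i x with h | h <;> simp [h]
      refine ⟨(C.η i s'' : K) * c * (C.η i (C.w i s) : K), mul_ne_zero (mul_ne_zero (hη _) hc) (hη _), fun t => ?_⟩
      have e0 : C.nR K (C.w i r) u = C.P K i * C.nR K r (C.ηU K i r * u) * (C.P K i)⁻¹ := by
        rw [C.P_nR_conj, ← mul_assoc, show C.ηU K i r * C.ηU K i r = 1 from Units.ext (C.ηU K i r).val_inv, one_mul]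
      have e1 : (C.P K i)⁻¹ * C.X K s t * C.P K i = C.X K (C.w i s) ((C.η i (C.w i s) : K) * t) := by
        have := C.P_X_conj K i (C.w i s) ((C.η i (C.w i s) : K) * t)
        rw [C.w_w, ← mul_assoc, ← Int.cast_mul, C.η_mul_self, Int.cast_one, one_mul] at this
        rw [← this]; group
      rw [e0, show C.P K i * C.nR K r (C.ηU K i r * u) * (C.P K i)⁻¹ * C.X K s t *
        (C.P K i * C.nR K r (C.ηU K i r * u) * (C.P K i)⁻¹)⁻¹ = C.P K i * (C.nR K r (C.ηU K i r * u) *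
          ((C.P K i)⁻¹ * C.X K s t * C.P K i) * (C.nR K r (C.ηU K i r * u))⁻¹) * (C.P K i)⁻¹ by group,
        e1, h, C.P_X_conj]
      congr 1
      ring

/-- The product of the signs along an orbit. -/
def eN (π : Equiv.Perm (Rt D)) (ε : Rt D → ℤ) (j : ℕ) (r : Rt D) : ℤ :=
  ((List.range j).map fun i => ε ((π : Rt D → Rt D)^[i] r)).prod

/-- The checked facts. -/
structure Cert (C : Core D) (π : Equiv.Perm (Rt D)) (ε : Rt D → ℤ) (n : ℕ) (al : Rt D) : Prop where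
  top : TD D al
  bot : TD D al.rev
  nonneg : ∀ r ∈ C.Pos, 0 ≤ pr D al r
  symm : ∀ r s : Rt D, pr D r s = pr D s r
  π_pr : ∀ r s : Rt D, pr D (π r) (π s) = pr D r s
  π_al : π al = al
  ε_sign : ∀ r, ε r = 1 ∨ ε r = -1
  ε_fix : ∀ r, π r = r → ε r = 1
  small : ∀ r s : Rt D, pr D r s ≤ -2 → s = r.rev
  comm0 : ∀ r s : Rt D, s ≠ r → s ≠ r.rev → 0 ≤ pr D r s → D.commTerms r.val s.val = []
  comm1 : ∀ r s : Rt D, pr D r s = -1 → ∃ u : Rt D,
    D.commTerms r.val s.val = [(u.val, 1, 1, 1)] ∨ D.commTerms r.val s.val = [(u.val, -1, 1, 1)]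
  per : ∀ r, (π : Rt D → Rt D)^[n] r = r ∧ eN π ε n r = 1
  orb : ∀ r, π r ≠ r → ∀ a b : Fin n, a ≠ b → (π : Rt D → Rt D)^[a.val] r ≠ (π : Rt D → Rt D)^[b.val] r ∧
    (π : Rt D → Rt D)^[a.val] r ≠ ((π : Rt D → Rt D)^[b.val] r).rev ∧
    pr D ((π : Rt D → Rt D)^[a.val] r) ((π : Rt D → Rt D)^[b.val] r) = 0

/-- A twisted group with its certificate. -/
structure Setting (C : Core D) (K : Type*) [Field K] where
  O : Orth C K
  al : Rt D
  cert : Cert C O.π O.ε O.n al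

namespace Setting

variable {C : Core D} {K : Type*} [Field K] (S : Setting C K)

/-- The field automorphism on matrices. -/
def sF : GL D.Idx K →* GL D.Idx K := Matrix.GeneralLinearGroup.map (S.O.φ : K →+* K)

/-- The subfield points. -/
def M : Subgroup (GL D.Idx K) where
  carrier := {g | g ∈ S.O.G1 ∧ S.sF g = g}
  one_mem' := ⟨one_mem _, map_one _⟩
  mul_mem' := fun {a b} ha hb => ⟨mul_mem ha.1 hb.1, by rw [map_mul, ha.2, hb.2]⟩
  inv_mem' := fun {a} ha => ⟨inv_mem ha.1, by rw [map_inv, ha.2]⟩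

/-- The radical. -/
def Q (_S : Setting C K) : Subgroup (GL D.Idx K) := C.US K (Qs _S.al.rev)

/-- The coordinates on the radical. -/
noncomputable def kp (s : Rt D) (g : GL D.Idx K) : K := kap S.al.rev s g

/-- The size of an orbit of roots. -/
def szR (r : Rt D) : ℕ := if S.O.π r = r then 1 else S.O.n

/-- The orbit product of a root element. -/
def orbR (r : Rt D) (a : K) : GL D.Idx K :=
  ((List.range (S.szR r)).map fun j => (S.O.Θ : GL D.Idx K → GL D.Idx K)^[j] (C.X K r a)).prod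

/-- The admissible parameters. -/
def Good (r : Rt D) (a : K) : Prop := S.O.π r = r → S.O.φ a = a

include S

theorem mem_M {g : GL D.Idx K} : g ∈ S.M ↔ g ∈ S.O.G1 ∧ S.sF g = g := Iff.rfl

theorem sF_X (r : Rt D) (t : K) : S.sF (C.X K r t) = C.X K r (S.O.φ t) := C.X_map K _ r t

theorem mem_G1 [Finite K] {g : GL D.Idx K} : g ∈ S.O.G1 ↔ g ∈ D.group K ∧ S.O.Θ g = g := S.O.tw.mem_W_iff

theorem sF_mem_group {g : GL D.Idx K} (hg : g ∈ D.group K) :
    S.sF g ∈ D.group K ∧ S.O.Θ (S.sF g) = S.sF (S.O.Θ g) := by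
  induction hg using Subgroup.closure_induction with
  | mem x hx =>
    obtain ⟨r, t, hx⟩ := hx
    have e : x = C.X K r t := C.eq_X (hx.trans (by simp [ChevalleyDatum.x]))
    subst e
    rw [S.sF_X]
    refine ⟨C.X_mem_group _ _, ?_⟩
    rw [S.O.Θ_X, S.O.Θ_X, S.sF_X, map_mul, map_intCast]
  | one => simp
  | mul x y _ _ hx hy => rw [map_mul]; exact ⟨mul_mem hx.1 hy.1, by rw [map_mul, hx.2, hy.2, map_mul, map_mul]⟩
  | inv x _ hx => rw [map_inv]; exact ⟨inv_mem hx.1, by rw [map_inv, hx.2, map_inv, map_inv]⟩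

theorem sF_mem_G1 [Finite K] {g : GL D.Idx K} (hg : g ∈ S.O.G1) : S.sF g ∈ S.O.G1 := by
  rw [S.mem_G1] at hg ⊢
  obtain ⟨h1, h2⟩ := S.sF_mem_group hg.1
  exact ⟨h1, by rw [h2, hg.2]⟩

theorem iter_X (j : ℕ) (r : Rt D) (a : K) : (S.O.Θ : GL D.Idx K → GL D.Idx K)^[j] (C.X K r a) =
    C.X K ((S.O.π : Rt D → Rt D)^[j] r) ((eN S.O.π S.O.ε j r : K) * (S.O.φ : K → K)^[j] a) := by
  induction j with
  | zero => simp [eN]
  | succ j ih =>
    rw [Function.iterate_succ_apply', ih, S.O.Θ_X, Function.iterate_succ_apply', Function.iterate_succ_apply',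
      map_mul, map_intCast]
    congr 1
    simp only [eN, List.range_succ, List.map_append, List.prod_append, List.map_cons, List.map_nil,
      List.prod_cons, List.prod_nil, mul_one, Int.cast_mul]
    ring

theorem eN_sign (j : ℕ) (r : Rt D) : eN S.O.π S.O.ε j r = 1 ∨ eN S.O.π S.O.ε j r = -1 := by
  induction j with
  | zero => left; simp [eN]
  | succ j ih =>
    simp only [eN, List.range_succ, List.map_append, List.prod_append, List.map_cons, List.map_nil,
      List.prod_cons, List.prod_nil, mul_one] at ih ⊢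
    rcases ih with h | h <;> rcases S.cert.ε_sign ((S.O.π : Rt D → Rt D)^[j] r) with h' | h' <;> rw [h, h'] <;> simp

theorem eN_ne (j : ℕ) (r : Rt D) : (eN S.O.π S.O.ε j r : K) ≠ 0 := by
  rcases S.eN_sign j r with h | h <;> simp [h]

theorem eN_sq (j : ℕ) (r : Rt D) : (eN S.O.π S.O.ε j r : K) * (eN S.O.π S.O.ε j r : K) = 1 := by
  rcases S.eN_sign j r with h | h <;> simp [h]

theorem szR_pos (r : Rt D) : 0 < S.szR r := by
  unfold szR; have := S.O.two_le; split_ifs <;> omega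

theorem iter_lt {r : Rt D} {a b : ℕ} (ha : a < S.szR r) (hb : b < S.szR r) (hab : a ≠ b) :
    (S.O.π : Rt D → Rt D)^[a] r ≠ (S.O.π : Rt D → Rt D)^[b] r ∧
      (S.O.π : Rt D → Rt D)^[a] r ≠ ((S.O.π : Rt D → Rt D)^[b] r).rev ∧
      pr D ((S.O.π : Rt D → Rt D)^[a] r) ((S.O.π : Rt D → Rt D)^[b] r) = 0 := by
  unfold szR at ha hb
  split_ifs at ha hb with h
  · omega
  · exact S.cert.orb r h ⟨a, ha⟩ ⟨b, hb⟩ (fun e => hab (congrArg Fin.val e))

theorem orb_commute {r : Rt D} {a b : ℕ} (ha : a < S.szR r) (hb : b < S.szR r) (x y : K) :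
    Commute ((S.O.Θ : GL D.Idx K → GL D.Idx K)^[a] (C.X K r x))
      ((S.O.Θ : GL D.Idx K → GL D.Idx K)^[b] (C.X K r y)) := by
  rw [S.iter_X, S.iter_X]
  by_cases hab : a = b
  · subst hab
    show _ * _ = _ * _
    rw [C.X_add, C.X_add, add_comm]
  obtain ⟨h1, h2, h3⟩ := S.iter_lt hb ha (Ne.symm hab)
  have := S.O.comm.comm_X _ _ h1 h2 ((eN S.O.π S.O.ε a r : K) * (S.O.φ : K → K)^[a] x)
    ((eN S.O.π S.O.ε b r : K) * (S.O.φ : K → K)^[b] y)
  rw [S.cert.comm0 _ _ h1 h2 (by rw [S.cert.symm, h3])] at this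
  simp only [List.map_nil, List.prod_nil, mul_one] at this
  exact this.symm

theorem orbR_fix {r : Rt D} {a : K} (h : S.Good r a) : S.O.Θ (S.orbR r a) = S.orbR r a := by
  rw [orbR, map_list_prod, List.map_map]
  have e : ((List.range (S.szR r)).map
      ((S.O.Θ : GL D.Idx K → GL D.Idx K) ∘ fun j => (S.O.Θ : GL D.Idx K → GL D.Idx K)^[j] (C.X K r a))) =
      (List.range (S.szR r)).map fun j => (S.O.Θ : GL D.Idx K → GL D.Idx K)^[j + 1] (C.X K r a) :=
    List.map_congr_left fun j _ => (Function.iterate_succ_apply' _ _ _).symm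
  rw [e]
  refine prod_shift (S.szR r) (fun j => (S.O.Θ : GL D.Idx K → GL D.Idx K)^[j] (C.X K r a)) ?_
    fun x hx y hy => S.orb_commute hx hy a a
  show (S.O.Θ : GL D.Idx K → GL D.Idx K)^[S.szR r] (C.X K r a) = C.X K r a
  rw [S.iter_X, szR]
  split_ifs with hr
  · simp [eN, hr, S.cert.ε_fix r hr, h hr]
  · rw [(S.cert.per r).1, (S.cert.per r).2, S.O.φ_pow, Int.cast_one, one_mul]

theorem orbR_mem_group (r : Rt D) (a : K) : S.orbR r a ∈ D.group K := by
  refine list_prod_mem fun x hx => ?_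
  rw [List.mem_map] at hx
  obtain ⟨j, -, rfl⟩ := hx
  rw [S.iter_X]
  exact C.X_mem_group _ _

theorem orbR_mem [Finite K] {r : Rt D} {a : K} (h : S.Good r a) : S.orbR r a ∈ S.O.G1 :=
  S.mem_G1.2 ⟨S.orbR_mem_group r a, S.orbR_fix h⟩

theorem sF_orbR (r : Rt D) (a : K) : S.sF (S.orbR r a) = S.orbR r (S.O.φ a) := by
  rw [orbR, orbR, map_list_prod, List.map_map]
  refine congrArg List.prod (List.map_congr_left fun j _ => ?_)
  rw [Function.comp_apply, S.iter_X, S.iter_X, S.sF_X, map_mul, map_intCast,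
    ← Function.iterate_succ_apply' (f := (S.O.φ : K → K)), Function.iterate_succ_apply]

theorem orbR_mem_M [Finite K] {r : Rt D} {a : K} (h : S.O.φ a = a) : S.orbR r a ∈ S.M :=
  S.mem_M.2 ⟨S.orbR_mem (fun _ => h), by rw [S.sF_orbR, h]⟩

theorem orbR_add (r : Rt D) (a b : K) : S.orbR r a * S.orbR r b = S.orbR r (a + b) := by
  rw [orbR, orbR, orbR, ← prod_split _ List.nodup_range _ _ fun x hx y hy _ =>
    S.orb_commute (List.mem_range.1 hx) (List.mem_range.1 hy) _ _]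
  refine congrArg List.prod (List.map_congr_left fun j _ => ?_)
  rw [S.iter_X, S.iter_X, S.iter_X, C.X_add, S.O.φ_iter_add, mul_add]

theorem orbR_fixed {r : Rt D} (h : S.O.π r = r) (a : K) : S.orbR r a = C.X K r a := by
  simp [orbR, szR, h]

theorem X_mem [Finite K] {r : Rt D} {a : K} (h : S.O.π r = r) (ha : S.O.φ a = a) : C.X K r a ∈ S.M := by
  rw [← S.orbR_fixed h a]; exact S.orbR_mem_M ha

theorem π_prA (r : Rt D) : pr D S.al (S.O.π r) = pr D S.al r := by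
  have h := S.cert.π_pr S.al r
  rwa [S.cert.π_al] at h

theorem π_prA' (j : ℕ) (r : Rt D) : pr D S.al ((S.O.π : Rt D → Rt D)^[j] r) = pr D S.al r := by
  induction j with
  | zero => rfl
  | succ j ih => rw [Function.iterate_succ_apply', S.π_prA, ih]

theorem pr_rev' (r s : Rt D) : pr D r s.rev = -pr D r s := by simp [pr, C.A_rev]

theorem prR (r : Rt D) : pr D S.al.rev r = -pr D S.al r := C.pr_rev _ _

theorem mem_Qs {r : Rt D} : r ∈ Qs S.al.rev ↔ 1 ≤ pr D S.al r := by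
  show pr D S.al.rev r ≤ -1 ↔ _
  rw [S.prR]; omega

theorem Qs_pos : Qs S.al.rev ⊆ C.Pos := by
  intro r hr
  rw [S.mem_Qs] at hr
  by_contra h
  have := S.cert.nonneg _ (C.rev_pos ((C.neg_iff_not_pos r).2 h))
  rw [S.pr_rev'] at this
  omega

theorem al_rev_fix : S.O.π S.al.rev = S.al.rev := by rw [S.O.π_rev, S.cert.π_al]

theorem al_pr : pr D S.al S.al = 2 := C.pr_self _

theorem al_mem : S.al ∈ Qs S.al.rev := by rw [S.mem_Qs, S.al_pr]; norm_num

theorem al_pos : S.al ∈ C.Pos := S.Qs_pos S.al_mem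

theorem Q_le_pos : S.Q ≤ C.US K C.Pos := C.US_mono K S.Qs_pos

theorem Q_le_group : S.Q ≤ D.group K := C.US_le_group _

/-- Hypothesis of the rigidity lemmas. -/
theorem hne {e : Rt D} (he : e = S.al ∨ e = S.al.rev) (r s : Rt D) (hr : pr D e r = -1) (hs : pr D e s = -1)
    (h1 : s ≠ r) (h2 : s ≠ r.rev) (c : ℕ × ℤ × ℕ × ℕ) (hc : c ∈ D.commTerms r.val s.val) (q : Rt D)
    (hq : q.val = c.1) : q = e.rev := by
  have T : TD D e := by rcases he with rfl | rfl; exacts [S.cert.top, S.cert.bot]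
  obtain ⟨q', hq', hi, hj, hv⟩ := S.O.comm.terms r s h1 h2 c hc
  have : q = q' := Fin.ext (hq.trans hq')
  subst this
  refine T.two q ?_
  have h := pr_lin C hv e
  rw [hr, hs] at h
  have := (T.bd q).1
  omega

theorem fixQ {v : GL D.Idx K} (hv : v ∈ S.Q) {t t' : K} (ht : t ≠ 0)
    (h : v * C.X K S.al.rev t = C.X K S.al.rev t' * v) : v = 1 :=
  fix_eq_one C S.O.comm S.cert.bot (fun r s a b c d => S.hne (Or.inr rfl) r s a b c d) hv ht h

theorem fixT {v : GL D.Idx K} (hv : v ∈ C.US K (Qs S.al)) {t t' : K} (ht : t ≠ 0)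
    (h : v * C.X K S.al t = C.X K S.al t' * v) : v = 1 :=
  fix_eq_one C S.O.comm S.cert.top (fun r s a b c d => S.hne (Or.inl rfl) r s a b c d) hv ht h

theorem bot_grade {r : Rt D} (h : pr D S.al r = 1) : pr D S.al.rev r = -1 := by rw [S.prR, h]

theorem kp_mul {g h : GL D.Idx K} (hg : g ∈ S.Q) (hh : h ∈ S.Q) {s : Rt D} (hs : pr D S.al s = 1) :
    S.kp s (g * h) = S.kp s g + S.kp s h := kap_mul C S.cert.bot hg hh (S.bot_grade hs)

theorem kp_inv {g : GL D.Idx K} (hg : g ∈ S.Q) {s : Rt D} (hs : pr D S.al s = 1) : S.kp s g⁻¹ = -S.kp s g :=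
  kap_inv C S.cert.bot hg (S.bot_grade hs)

theorem kp_one {s : Rt D} (hs : pr D S.al s = 1) : S.kp s (1 : GL D.Idx K) = 0 :=
  kap_one C S.cert.bot (S.bot_grade hs)

theorem kp_X {r s : Rt D} (hr : r ∈ Qs S.al.rev) (hs : pr D S.al s = 1) (t : K) :
    S.kp s (C.X K r t) = if r = s then t else 0 := kap_X C S.cert.bot (S.bot_grade hs) hr t

theorem exists_X {v : GL D.Idx K} (hv : v ∈ S.Q) (h : ∀ s, pr D S.al s = 1 → S.kp s v = 0) :
    ∃ c : K, v = C.X K S.al c := by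
  have := exists_word C S.O.comm S.cert.bot (fun r s a b c d => S.hne (Or.inr rfl) r s a b c d) hv
    (fun r hr => h r (by rw [S.prR] at hr; omega))
  rwa [C.rev_rev] at this

theorem normalizes_Q {r : Rt D} (hr : 0 ≤ pr D S.al r) (t : K) {v : GL D.Idx K} (hv : v ∈ S.Q) :
    C.X K r t * v * (C.X K r t)⁻¹ ∈ S.Q := by
  refine (Subgroup.mem_normalizer_iff.1 (S.O.comm.mem_normalizer ⟨?_, ?_⟩ t) v).1 hv
  · rw [S.mem_Qs, S.pr_rev']; omega
  · intro s hs _ q i j hi hj hv'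
    rw [S.mem_Qs] at hs ⊢
    rw [pr_lin C hv' S.al]
    nlinarith [(Int.ofNat_le.mpr hi : ((1 : ℕ) : ℤ) ≤ i), (Int.ofNat_le.mpr hj : ((1 : ℕ) : ℤ) ≤ j)]

theorem orbR_mem_Q {r : Rt D} (hr : 1 ≤ pr D S.al r) (a : K) : S.orbR r a ∈ S.Q := by
  refine list_prod_mem fun x hx => ?_
  rw [List.mem_map] at hx
  obtain ⟨j, -, rfl⟩ := hx
  rw [S.iter_X]
  exact C.X_mem_US K (S.mem_Qs.2 (by rw [S.π_prA']; exact hr)) _

theorem kp_orbR {r s : Rt D} (hr : pr D S.al r = 1) (hs : pr D S.al s = 1) (a : K) :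
    S.kp s (S.orbR r a) = ((List.range (S.szR r)).map fun j =>
      if (S.O.π : Rt D → Rt D)^[j] r = s then (eN S.O.π S.O.ε j r : K) * (S.O.φ : K → K)^[j] a else 0).sum := by
  unfold orbR
  induction (List.range (S.szR r)) with
  | nil => simpa using S.kp_one hs
  | cons j L ih =>
    rw [List.map_cons, List.prod_cons, List.map_cons, List.sum_cons, S.kp_mul ?_ ?_ hs, ih, S.iter_X,
      S.kp_X (S.mem_Qs.2 (by rw [S.π_prA', hr])) hs]
    · rw [S.iter_X]; exact C.X_mem_US K (S.mem_Qs.2 (by rw [S.π_prA', hr])) _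
    · refine list_prod_mem fun x hx => ?_
      rw [List.mem_map] at hx
      obtain ⟨k, -, rfl⟩ := hx
      rw [S.iter_X]; exact C.X_mem_US K (S.mem_Qs.2 (by rw [S.π_prA', hr])) _

theorem kp_orbR_self {r : Rt D} (hr : pr D S.al r = 1) (a : K) : S.kp r (S.orbR r a) = a := by
  rw [S.kp_orbR hr hr, List.sum_map_eq_nsmul_single 0]
  · simp [List.count_eq_one_of_mem List.nodup_range (List.mem_range.2 (S.szR_pos r)), eN]
  · intro j hj hjm
    exact if_neg fun h => (S.iter_lt (List.mem_range.1 hjm) (S.szR_pos r) hj).1 h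

theorem kp_orbR_off {r s : Rt D} (hr : pr D S.al r = 1) (hs : pr D S.al s = 1) (a : K)
    (h : ∀ j, (S.O.π : Rt D → Rt D)^[j] r ≠ s) : S.kp s (S.orbR r a) = 0 := by
  rw [S.kp_orbR hr hs]
  refine List.sum_eq_zero fun x hx => ?_
  rw [List.mem_map] at hx
  obtain ⟨j, -, rfl⟩ := hx
  exact if_neg (h j)

theorem kp_Θ {g : GL D.Idx K} (hg : g ∈ S.Q) {s : Rt D} (hs : pr D S.al s = 1) :
    S.O.Θ g ∈ S.Q ∧ S.kp (S.O.π s) (S.O.Θ g) = (S.O.ε s : K) * S.O.φ (S.kp s g) := by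
  have hs' : pr D S.al (S.O.π s) = 1 := by rw [S.π_prA, hs]
  induction hg using Subgroup.closure_induction with
  | mem x hx =>
    obtain ⟨r, hr, t, rfl⟩ := hx
    have hr' : S.O.π r ∈ Qs S.al.rev := by rw [S.mem_Qs, S.π_prA]; exact S.mem_Qs.1 hr
    rw [S.O.Θ_X]
    refine ⟨C.X_mem_US K hr' _, ?_⟩
    rw [S.kp_X hr' hs', S.kp_X hr hs]
    simp only [EmbeddingLike.apply_eq_iff_eq]
    split_ifs with h
    · rw [h]
    · simp
  | one =>
    rw [map_one]
    exact ⟨one_mem _, by rw [S.kp_one hs', S.kp_one hs, map_zero, mul_zero]⟩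
  | mul x y hx hy ihx ihy =>
    rw [map_mul]
    exact ⟨mul_mem ihx.1 ihy.1, by rw [S.kp_mul ihx.1 ihy.1 hs', S.kp_mul hx hy hs, ihx.2, ihy.2, map_add, mul_add]⟩
  | inv x hx ih =>
    rw [map_inv]
    exact ⟨inv_mem ih.1, by rw [S.kp_inv ih.1 hs', S.kp_inv hx hs, ih.2, map_neg, mul_neg]⟩

theorem kp_sF {g : GL D.Idx K} (hg : g ∈ S.Q) {s : Rt D} (hs : pr D S.al s = 1) :
    S.sF g ∈ S.Q ∧ S.kp s (S.sF g) = S.O.φ (S.kp s g) := by
  induction hg using Subgroup.closure_induction with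
  | mem x hx =>
    obtain ⟨r, hr, t, rfl⟩ := hx
    rw [S.sF_X]
    refine ⟨C.X_mem_US K hr _, ?_⟩
    rw [S.kp_X hr hs, S.kp_X hr hs]
    split_ifs <;> simp
  | one =>
    rw [map_one]
    exact ⟨one_mem _, by rw [S.kp_one hs, map_zero]⟩
  | mul x y hx hy ihx ihy =>
    rw [map_mul]
    exact ⟨mul_mem ihx.1 ihy.1, by rw [S.kp_mul ihx.1 ihy.1 hs, S.kp_mul hx hy hs, ihx.2, ihy.2, map_add]⟩
  | inv x hx ih =>
    rw [map_inv]
    exact ⟨inv_mem ih.1, by rw [S.kp_inv ih.1 hs, S.kp_inv hx hs, ih.2, map_neg]⟩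

theorem kp_orbit {g : GL D.Idx K} (hg : g ∈ S.Q) (hΘ : S.O.Θ g = g) {s : Rt D} (hs : pr D S.al s = 1) :
    S.kp (S.O.π s) g = (S.O.ε s : K) * S.O.φ (S.kp s g) := by
  have h := (S.kp_Θ hg hs).2
  rwa [hΘ] at h

theorem kp_iter {g : GL D.Idx K} (hg : g ∈ S.Q) (hΘ : S.O.Θ g = g) {s : Rt D} (hs : pr D S.al s = 1) (j : ℕ) :
    S.kp ((S.O.π : Rt D → Rt D)^[j] s) g = (eN S.O.π S.O.ε j s : K) * (S.O.φ : K → K)^[j] (S.kp s g) := by
  induction j with
  | zero => simp [eN]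
  | succ j ih =>
    rw [Function.iterate_succ_apply', S.kp_orbit hg hΘ (by rw [S.π_prA', hs]), ih, Function.iterate_succ_apply',
      map_mul, map_intCast]
    simp only [eN, List.range_succ, List.map_append, List.prod_append, List.map_cons, List.map_nil,
      List.prod_cons, List.prod_nil, mul_one, Int.cast_mul]
    ring

theorem kp_good {g : GL D.Idx K} (hg : g ∈ S.Q) (hΘ : S.O.Θ g = g) {s : Rt D} (hs : pr D S.al s = 1) :
    S.Good s (S.kp s g) := by
  intro h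
  have := S.kp_orbit hg hΘ hs
  rw [h, S.cert.ε_fix s h, Int.cast_one, one_mul] at this
  exact this.symm

/-- Stripping off the coordinates at a prescribed set of roots. -/
theorem exists_strip [Finite K] {v : GL D.Idx K} (hv : v ∈ S.Q) (hv' : v ∈ S.O.G1) (P : Rt D → Prop)
    (hP : ∀ r, P r → P (S.O.π r)) :
    ∃ (w : GL D.Idx K) (A : List (Rt D × K)), (∀ x ∈ A, P x.1 ∧ pr D S.al x.1 = 1 ∧ x.2 = S.kp x.1 v ∧ S.Good x.1 x.2) ∧
      w = v * (A.map fun x => S.orbR x.1 (-x.2)).prod ∧ w ∈ S.Q ∧ w ∈ S.O.G1 ∧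
      (∀ s, pr D S.al s = 1 → P s → S.kp s w = 0) ∧ ∀ s, pr D S.al s = 1 → ¬ P s → S.kp s w = S.kp s v := by
  classical
  suffices main : ∀ (N : ℕ) (w : GL D.Idx K) (A : List (Rt D × K)),
      (∀ x ∈ A, P x.1 ∧ pr D S.al x.1 = 1 ∧ x.2 = S.kp x.1 v ∧ S.Good x.1 x.2) →
      w = v * (A.map fun x => S.orbR x.1 (-x.2)).prod → w ∈ S.Q → w ∈ S.O.G1 →
      (∀ s, pr D S.al s = 1 → P s → S.kp s w = 0 ∨ S.kp s w = S.kp s v) →
      (∀ s, pr D S.al s = 1 → ¬ P s → S.kp s w = S.kp s v) →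
      (Finset.univ.filter fun s => pr D S.al s = 1 ∧ P s ∧ S.kp s w ≠ 0).card ≤ N →
      ∃ (w : GL D.Idx K) (A : List (Rt D × K)), (∀ x ∈ A, P x.1 ∧ pr D S.al x.1 = 1 ∧ x.2 = S.kp x.1 v ∧ S.Good x.1 x.2) ∧
        w = v * (A.map fun x => S.orbR x.1 (-x.2)).prod ∧ w ∈ S.Q ∧ w ∈ S.O.G1 ∧
        (∀ s, pr D S.al s = 1 → P s → S.kp s w = 0) ∧ ∀ s, pr D S.al s = 1 → ¬ P s → S.kp s w = S.kp s v by
    exact main _ v [] (by simp) (by simp) hv hv' (fun _ _ _ => Or.inr rfl) (fun _ _ _ => rfl) le_rfl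
  intro N
  induction N with
  | zero =>
    intro w A hA hw hwQ hwG _ h2 hc
    refine ⟨w, A, hA, hw, hwQ, hwG, fun s hs hPs => ?_, h2⟩
    by_contra hne
    have : s ∈ Finset.univ.filter fun s => pr D S.al s = 1 ∧ P s ∧ S.kp s w ≠ 0 := by simp [hs, hPs, hne]
    rw [Finset.card_eq_zero.1 (Nat.le_zero.1 hc)] at this
    simp at this
  | succ N ih =>
    intro w A hA hw hwQ hwG h1 h2 hc
    by_cases hall : ∀ s, pr D S.al s = 1 → P s → S.kp s w = 0
    · exact ⟨w, A, hA, hw, hwQ, hwG, hall, h2⟩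
    push Not at hall
    obtain ⟨r, hr, hPr, hne⟩ := hall
    have hval : S.kp r w = S.kp r v := (h1 r hr hPr).resolve_left hne
    set a := S.kp r w
    have hgood : S.Good r a := S.kp_good hwQ (S.mem_G1.1 hwG).2 hr
    have hgood' : S.Good r (-a) := fun h => by rw [map_neg, hgood h]
    have hQ' : S.orbR r (-a) ∈ S.Q := S.orbR_mem_Q hr.ge _
    set w' := w * S.orbR r (-a)
    have hw'Q : w' ∈ S.Q := mul_mem hwQ hQ'
    have hw'G : w' ∈ S.O.G1 := mul_mem hwG (S.orbR_mem hgood')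
    have hP' : ∀ j, P ((S.O.π : Rt D → Rt D)^[j] r) := fun j => by
      induction j with
      | zero => exact hPr
      | succ j ih => rw [Function.iterate_succ_apply']; exact hP _ ih
    have hoff : ∀ s, pr D S.al s = 1 → (∀ j, (S.O.π : Rt D → Rt D)^[j] r ≠ s) → S.kp s w' = S.kp s w := fun s hs h => by
      rw [S.kp_mul hwQ hQ' hs, S.kp_orbR_off hr hs _ h, add_zero]
    have hzero : ∀ j, S.kp ((S.O.π : Rt D → Rt D)^[j] r) w' = 0 := fun j => by
      rw [S.kp_iter hw'Q (S.mem_G1.1 hw'G).2 hr, S.kp_mul hwQ hQ' hr, S.kp_orbR_self hr, add_neg_cancel,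
        Function.iterate_fixed (map_zero S.O.φ), mul_zero]
    refine ih w' (A ++ [(r, a)]) ?_ ?_ hw'Q hw'G ?_ ?_ ?_
    · intro x hx
      rcases List.mem_append.1 hx with hx | hx
      · exact hA x hx
      · rw [List.mem_singleton] at hx
        subst hx
        exact ⟨hPr, hr, hval, hgood⟩
    · simp [w', hw, mul_assoc]
    · intro s hs hPs
      by_cases h : ∃ j, (S.O.π : Rt D → Rt D)^[j] r = s
      · obtain ⟨j, rfl⟩ := h; exact Or.inl (hzero j)
      · push Not at h; rw [hoff s hs h]; exact h1 s hs hPs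
    · intro s hs hPs
      rw [hoff s hs fun j hj => hPs (hj ▸ hP' j)]
      exact h2 s hs hPs
    · have hsub : (Finset.univ.filter fun s => pr D S.al s = 1 ∧ P s ∧ S.kp s w' ≠ 0) ⊆
          (Finset.univ.filter fun s => pr D S.al s = 1 ∧ P s ∧ S.kp s w ≠ 0).erase r := by
        intro s hs
        simp only [Finset.mem_filter, Finset.mem_univ, true_and] at hs
        obtain ⟨hs1, hs2, hs3⟩ := hs
        have hno : ∀ j, (S.O.π : Rt D → Rt D)^[j] r ≠ s := fun j hj => hs3 (hj ▸ hzero j)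
        refine Finset.mem_erase.2 ⟨fun h => hno 0 h.symm, ?_⟩
        rw [hoff s hs1 hno] at hs3
        simp [hs1, hs2, hs3]
      have := Finset.card_le_card hsub
      rw [Finset.card_erase_of_mem (by simp [hr, hPr, a, hne])] at this
      omega

/-- An element of the radical with rational coordinates is rational. -/
theorem rat_of_kp [Finite K] {v : GL D.Idx K} (hv : v ∈ S.Q) (hv' : v ∈ S.O.G1)
    (h : ∀ s, pr D S.al s = 1 → S.O.φ (S.kp s v) = S.kp s v) : v ∈ S.M := by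
  obtain ⟨w, A, hA, hw, hwQ, hwG, hz, -⟩ := S.exists_strip hv hv' (fun _ => True) (fun _ _ => trivial)
  obtain ⟨c, hc⟩ := S.exists_X hwQ fun s hs => hz s hs trivial
  have hfix : S.O.φ c = c := by
    have h2 := (S.mem_G1.1 hwG).2
    rw [hc, S.O.Θ_X, S.cert.π_al, S.cert.ε_fix _ S.cert.π_al, Int.cast_one, one_mul] at h2
    by_contra hne
    have h4 : C.X K S.al (S.O.φ c - c) = 1 := by
      rw [sub_eq_add_neg, ← C.X_add, h2, C.X_add, add_neg_cancel, C.X_zero]
    exact hne (sub_eq_zero.1 (C.X_eq_one h4))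
  have hP : (A.map fun x => S.orbR x.1 (-x.2)).prod ∈ S.M := by
    refine list_prod_mem fun g hg => ?_
    rw [List.mem_map] at hg
    obtain ⟨x, hx, rfl⟩ := hg
    obtain ⟨-, h1, h2, -⟩ := hA x hx
    exact S.orbR_mem_M (by rw [map_neg, h2, h x.1 h1])
  have : v = w * ((A.map fun x => S.orbR x.1 (-x.2)).prod)⁻¹ := by rw [hw, mul_inv_cancel_right]
  rw [this, hc]
  exact mul_mem (S.X_mem S.cert.π_al hfix) (inv_mem hP)

end Setting

end Cfsg.Agent.Lib.SubfieldTwist29
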