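import Cfsg.Agent.Lib.SubfieldTwist29.Radical
import Cfsg.Agent.Lib.LieTwisted.Twist.D4Thms

/-!
The checked tables for the triality groups.
-/

set_option autoImplicit false
set_option maxRecDepth 100000

namespace Cfsg.Agent.Lib.SubfieldTwist29.CertD4

open Cfsg.Lie ChevStructure LieTwisted.Twist

abbrev al : Rt chevD4 := ⟨23, by decide⟩
abbrev tT : Rt chevD4 := ⟨17, by decide⟩

/-- The signs. -/
abbrev εD (r : Rt chevD4) : ℤ := LieTwisted.GraphData.symD4.ε r

abbrev πD : Equiv.Perm (Rt chevD4) := Frob.rootPerm D4.g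

/-- The orbit words. -/
def JL : List (List (Fin chevD4.rank)) :=
  [[⟨1, by decide⟩], [⟨0, by decide⟩, ⟨2, by decide⟩, ⟨3, by decide⟩]]

/-- A word for the longest element. -/
def opp : List (Fin chevD4.rank) :=
  (List.replicate 3 [(⟨0, by decide⟩ : Fin chevD4.rank), ⟨1, by decide⟩, ⟨2, by decide⟩, ⟨3, by decide⟩]).flatten

theorem top_bd : ∀ r : Rt chevD4, -2 ≤ pr chevD4 al r ∧ pr chevD4 al r ≤ 2 := by decide +kernel

theorem v_al : ∀ m, D4.C.v al m = D4.C.v ⟨14, by decide⟩ m + D4.C.v ⟨22, by decide⟩ m := by decide +kernel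

theorem opp_neg' : ∀ r : Rt chevD4, chevD4.nroots ≤ 2 * r.val → 2 * (D4.C.pprod opp r).val < chevD4.nroots := by
  decide +kernel

theorem cert : Cert D4.C πD εD 3 al where
  top := ⟨top_bd, by decide +kernel, by decide +kernel⟩
  bot := ⟨by decide +kernel, by decide +kernel, by decide +kernel⟩
  nonneg := by
    show ∀ r : Rt chevD4, chevD4.nroots ≤ 2 * r.val → 0 ≤ pr chevD4 al r
    decide +kernel
  symm := by decide +kernel
  π_pr := by decide +kernel
  π_al := by decide +kernel
  ε_sign := by decide +kernel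
  ε_fix := by decide +kernel
  small := by decide +kernel
  comm0 := by decide +kernel
  comm1 := by decide +kernel
  per := by decide +kernel
  orb := by decide +kernel

theorem gen : Gen D4.C πD al opp where
  gen := by decide +kernel
  pgrade := by decide +kernel
  opp_neg := opp_neg'
  opp_simple := by decide +kernel

theorem rad : Rad D4.C πD εD 3 al tT ⟨22, by decide⟩ JL where
  t1 := by decide +kernel
  tmoved := by decide +kernel
  hπ := by decide +kernel
  topmax := by decide +kernel
  raise := by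
    have key : ∀ s, pr chevD4 al s = 1 → πD s ≠ s → hs D4.C s < hs D4.C tT →
        ∃ j : Fin 3, (πD : Rt chevD4 → Rt chevD4)^[j.val] ⟨15, by decide⟩ = s := by decide +kernel
    intro s h1 h2 h3
    exact ⟨⟨15, by decide⟩, ⟨18, by decide⟩, ⟨17, by decide⟩, key s h1 h2 h3,
      (show chevD4.nroots ≤ 2 * 18 by decide +kernel), by decide +kernel, by decide +kernel, by decide +kernel,
      by unfold GoodK; decide +kernel⟩
  β0 := by decide +kernel
  β1 := by decide +kernel
  wit := by
    have key : ∀ i : Fin chevD4.rank, πD (D4.C.p i) ≠ D4.C.p i → ∀ b : Bool, ∃ k : Fin 3,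
        D4.C.pprod ((cond b [[⟨0, by decide⟩, ⟨2, by decide⟩, ⟨3, by decide⟩], [⟨1, by decide⟩],
          [⟨0, by decide⟩, ⟨2, by decide⟩, ⟨3, by decide⟩]]
          [[⟨1, by decide⟩], [⟨0, by decide⟩, ⟨2, by decide⟩, ⟨3, by decide⟩]] :
            List (List (Fin chevD4.rank))).flatten) tT =
          (πD : Rt chevD4 → Rt chevD4)^[k.val] (sd b (D4.C.p i)) := by decide +kernel
    intro i hi b
    obtain ⟨k, hk⟩ := key i hi b
    refine ⟨_, k, ?_, hk⟩
    cases b <;> simp [JL]

end Cfsg.Agent.Lib.SubfieldTwist29.CertD4
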