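import Cfsg.Agent.Lib.SubfieldTwist29.Radical
import Cfsg.Agent.Lib.LieTwisted.Twist.E6Thms

/-!
The commutator tables of type E₆ in grade terms.
-/

set_option autoImplicit false
set_option maxRecDepth 100000

namespace Cfsg.Agent.Lib.SubfieldTwist29.CertE6

open Cfsg.Lie ChevStructure LieTwisted.Twist

theorem comm0' : ∀ r s : Rt chevE6, s ≠ r → s ≠ r.rev → 0 ≤ pr chevE6 r s → chevE6.commTerms r.val s.val = [] := by
  decide +kernel

theorem comm1' : ∀ r s : Rt chevE6, pr chevE6 r s = -1 → ∃ u : Rt chevE6,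
    chevE6.commTerms r.val s.val = [(u.val, 1, 1, 1)] ∨ chevE6.commTerms r.val s.val = [(u.val, -1, 1, 1)] := by
  have key : ∀ r s : Rt chevE6, pr chevE6 r s = -1 →
      ((chevE6.commTerms r.val s.val).headD (0, 0, 0, 0)).1 < chevE6.nroots ∧
      (chevE6.commTerms r.val s.val = [(((chevE6.commTerms r.val s.val).headD (0, 0, 0, 0)).1, 1, 1, 1)] ∨
        chevE6.commTerms r.val s.val = [(((chevE6.commTerms r.val s.val).headD (0, 0, 0, 0)).1, -1, 1, 1)]) := by
    decide +kernel
  intro r s h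
  exact ⟨⟨_, (key r s h).1⟩, (key r s h).2⟩

end Cfsg.Agent.Lib.SubfieldTwist29.CertE6
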