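import Cfsg.Agent.Lib.SubfieldTwist29.Grow
import Cfsg.Agent.Lib.SubfieldTwist29.CertE6Comm
import Cfsg.Agent.Lib.LieTwisted.Twist.E6Thms

/-!
The checked tables and maximality for the twisted groups of type E₆.
-/

set_option autoImplicit false
set_option maxRecDepth 100000

namespace Cfsg.Agent.Lib.SubfieldTwist29.CertE6

open Cfsg.Lie ChevStructure LieTwisted.Twist
open scoped MatrixGroups Matrix

abbrev al : Rt chevE6 := ⟨71, by decide⟩
abbrev tT : Rt chevE6 := ⟨66, by decide⟩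

/-- The signs. -/
abbrev εE (r : Rt chevE6) : ℤ := LieTwisted.GraphData.symE6.ε r

abbrev πE : Equiv.Perm (Rt chevE6) := Frob.rootPerm E6.g

/-- The orbit words. -/
def JL : List (List (Fin chevE6.rank)) :=
  [[⟨1, by decide⟩], [⟨3, by decide⟩], [⟨2, by decide⟩, ⟨4, by decide⟩], [⟨0, by decide⟩, ⟨5, by decide⟩]]

/-- A word for the longest element. -/
def opp : List (Fin chevE6.rank) :=
  (List.replicate 6 ([⟨0, by decide⟩, ⟨3, by decide⟩, ⟨5, by decide⟩, ⟨1, by decide⟩, ⟨2, by decide⟩, ⟨4, by decide⟩] : List (Fin chevE6.rank))).flatten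

/-- The raising table. -/
def tab : List (Rt chevE6 × Rt chevE6 × Rt chevE6) :=
  [(⟨48, by decide⟩, ⟨56, by decide⟩, ⟨49, by decide⟩), (⟨49, by decide⟩, ⟨42, by decide⟩, ⟨52, by decide⟩), (⟨52, by decide⟩, ⟨39, by decide⟩, ⟨54, by decide⟩), (⟨54, by decide⟩, ⟨42, by decide⟩, ⟨55, by decide⟩), (⟨55, by decide⟩, ⟨56, by decide⟩, ⟨66, by decide⟩)]

/-- The words reaching the simple roots. -/
def wits (i : Fin chevE6.rank) (b : Bool) : List (List (Fin chevE6.rank)) :=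
  if i.val = 0 then cond b [[⟨0, by decide⟩, ⟨5, by decide⟩], [⟨2, by decide⟩, ⟨4, by decide⟩], [⟨3, by decide⟩], [⟨2, by decide⟩, ⟨4, by decide⟩], [⟨1, by decide⟩], [⟨3, by decide⟩], [⟨2, by decide⟩, ⟨4, by decide⟩], [⟨0, by decide⟩, ⟨5, by decide⟩], [⟨2, by decide⟩, ⟨4, by decide⟩]]
    [[⟨2, by decide⟩, ⟨4, by decide⟩], [⟨3, by decide⟩], [⟨2, by decide⟩, ⟨4, by decide⟩], [⟨1, by decide⟩], [⟨3, by decide⟩], [⟨2, by decide⟩, ⟨4, by decide⟩], [⟨0, by decide⟩, ⟨5, by decide⟩], [⟨2, by decide⟩, ⟨4, by decide⟩]] else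
  if i.val = 2 then cond b [[⟨2, by decide⟩, ⟨4, by decide⟩], [⟨0, by decide⟩, ⟨5, by decide⟩], [⟨3, by decide⟩], [⟨2, by decide⟩, ⟨4, by decide⟩], [⟨1, by decide⟩], [⟨3, by decide⟩], [⟨2, by decide⟩, ⟨4, by decide⟩], [⟨0, by decide⟩, ⟨5, by decide⟩], [⟨2, by decide⟩, ⟨4, by decide⟩]]
    [[⟨0, by decide⟩, ⟨5, by decide⟩], [⟨3, by decide⟩], [⟨2, by decide⟩, ⟨4, by decide⟩], [⟨1, by decide⟩], [⟨3, by decide⟩], [⟨2, by decide⟩, ⟨4, by decide⟩], [⟨0, by decide⟩, ⟨5, by decide⟩], [⟨2, by decide⟩, ⟨4, by decide⟩]] else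
  if i.val = 4 then cond b [[⟨2, by decide⟩, ⟨4, by decide⟩], [⟨0, by decide⟩, ⟨5, by decide⟩], [⟨3, by decide⟩], [⟨2, by decide⟩, ⟨4, by decide⟩], [⟨1, by decide⟩], [⟨3, by decide⟩], [⟨2, by decide⟩, ⟨4, by decide⟩], [⟨0, by decide⟩, ⟨5, by decide⟩]]
    [[⟨0, by decide⟩, ⟨5, by decide⟩], [⟨3, by decide⟩], [⟨2, by decide⟩, ⟨4, by decide⟩], [⟨1, by decide⟩], [⟨3, by decide⟩], [⟨2, by decide⟩, ⟨4, by decide⟩], [⟨0, by decide⟩, ⟨5, by decide⟩]] else
  if i.val = 5 then cond b [[⟨0, by decide⟩, ⟨5, by decide⟩], [⟨2, by decide⟩, ⟨4, by decide⟩], [⟨3, by decide⟩], [⟨2, by decide⟩, ⟨4, by decide⟩], [⟨1, by decide⟩], [⟨3, by decide⟩], [⟨2, by decide⟩, ⟨4, by decide⟩], [⟨0, by decide⟩, ⟨5, by decide⟩]]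
    [[⟨2, by decide⟩, ⟨4, by decide⟩], [⟨3, by decide⟩], [⟨2, by decide⟩, ⟨4, by decide⟩], [⟨1, by decide⟩], [⟨3, by decide⟩], [⟨2, by decide⟩, ⟨4, by decide⟩], [⟨0, by decide⟩, ⟨5, by decide⟩]] else
  []

theorem top_bd : ∀ r : Rt chevE6, -2 ≤ pr chevE6 al r ∧ pr chevE6 al r ≤ 2 := by decide +kernel

theorem v_al : ∀ m, E6.C.v al m = E6.C.v ⟨46, by decide⟩ m + E6.C.v ⟨70, by decide⟩ m := by decide +kernel

theorem cert : Cert E6.C πE εE 2 al where
  top := ⟨top_bd, by decide +kernel, by decide +kernel⟩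
  bot := ⟨by decide +kernel, by decide +kernel, by decide +kernel⟩
  nonneg := by
    show ∀ r : Rt chevE6, chevE6.nroots ≤ 2 * r.val → 0 ≤ pr chevE6 al r
    decide +kernel
  symm := by decide +kernel
  π_pr := by decide +kernel
  π_al := by decide +kernel
  ε_sign := by decide +kernel
  ε_fix := by decide +kernel
  small := by decide +kernel
  comm0 := comm0'
  comm1 := comm1'
  per := by decide +kernel
  orb := by decide +kernel

theorem gen : Gen E6.C πE al opp where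
  gen := by decide +kernel
  pgrade := by decide +kernel
  opp_neg := by
    show ∀ r : Rt chevE6, chevE6.nroots ≤ 2 * r.val → 2 * (E6.C.pprod opp r).val < chevE6.nroots
    decide +kernel
  opp_simple := by decide +kernel

theorem tab_ok : ∀ t ∈ tab, chevE6.nroots ≤ 2 * t.2.1.val ∧ pr chevE6 al t.2.1 = 0 ∧ pr chevE6 al t.2.2 = 1 ∧
    orbIdx πE 2 t.1 t.1 = some 0 ∧
    (pullR (R := ℤ) al (orbL πE εE 2 t.2.1) t.2.2 = [(t.1, 1)] ∨
      pullR (R := ℤ) al (orbL πE εE 2 t.2.1) t.2.2 = [(t.1, -1)]) := by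
  intro t ht
  simp only [tab, List.mem_cons, List.not_mem_nil, or_false] at ht
  rcases ht with rfl | rfl | rfl | rfl | rfl <;> decide +kernel

theorem rad : Rad E6.C πE εE 2 al tT ⟨70, by decide⟩ JL where
  t1 := by decide +kernel
  tmoved := by decide +kernel
  hπ := by decide +kernel
  topmax := by decide +kernel
  raise := by
    have key : ∀ s, pr chevE6 al s = 1 → πE s ≠ s → hs E6.C s < hs E6.C tT →
        ∃ t ∈ tab, ∃ j : Fin 2, (πE : Rt chevE6 → Rt chevE6)^[j.val] t.1 = s := by decide +kernel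
    intro s h1 h2 h3
    obtain ⟨t, ht, hj⟩ := key s h1 h2 h3
    obtain ⟨a, b, c, d, e⟩ := tab_ok t ht
    refine ⟨t.1, t.2.1, t.2.2, hj, a, b, c, fun x hx hn => ?_, Or.inl ⟨0, ?_⟩⟩
    · rcases e with e | e <;> rw [e, List.mem_singleton] at hx <;> subst hx <;> simp [d] at hn
    · rcases e with e | e <;> rw [e] <;> simp [kList, d, eN]
  β0 := by decide +kernel
  β1 := by decide +kernel
  wit := by
    have key : ∀ i : Fin chevE6.rank, πE (E6.C.p i) ≠ E6.C.p i → ∀ b : Bool,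
        (∀ l ∈ wits i b, l ∈ JL) ∧ E6.C.pprod (wits i b).flatten tT = sd b (E6.C.p i) := by decide +kernel
    intro i hi b
    exact ⟨_, 0, (key i hi b).1, (key i hi b).2⟩

variable {K : Type*} [Field K] [Fintype K] {q : ℕ} {φ : K ≃+* K} (F : Frob.Facts K q 2 φ) (hq1 : 1 < q)
  (hK : Fintype.card K = q ^ 2)

/-- The setting. -/
noncomputable def set : Setting E6.C K := ⟨E6.orth F hq1 hK, al, cert⟩

theorem JL_spec : ∀ l ∈ JL, ∃ m, (set F hq1 hK).O.Jl m = l := by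
  have key : ∀ l ∈ JL, ∃ m : Fin 4, ((List.range (if Frob.nodePerm E6.g (E6.osD m) = E6.osD m then 1 else 2)).map
      fun k => (Frob.nodePerm E6.g : _ → _)^[k] (E6.osD m)) = l := by decide +kernel
  intro l hl
  obtain ⟨m, hm⟩ := key l hl
  exact ⟨m, hm⟩

/-- The subfield points are maximal. -/
theorem maximal : (set F hq1 hK).M ≠ (set F hq1 hK).O.G1 ∧ ∀ H : Subgroup (GL chevE6.Idx K),
    (set F hq1 hK).M ≤ H → H ≤ (set F hq1 hK).O.G1 → H = (set F hq1 hK).M ∨ H = (set F hq1 hK).O.G1 := by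
  have hb : πE ⟨46, by decide⟩ = ⟨46, by decide⟩ ∧ πE ⟨70, by decide⟩ = ⟨70, by decide⟩ ∧ pr chevE6 al ⟨46, by decide⟩ = 1 ∧
      pr chevE6 al ⟨70, by decide⟩ = 1 := by decide +kernel
  exact (set F hq1 hK).maximal (tT := tT) (β := ⟨70, by decide⟩) (JL := JL) rad (JL_spec F hq1 hK) gen
    (b := ⟨46, by decide⟩) (ε0 := ⟨70, by decide⟩) hb.1 hb.2.1 hb.2.2.1 hb.2.2.2 (funext v_al)
    fun H hMH hHW a ha haH => (set F hq1 hK).grow_two (tT := tT) (β := ⟨70, by decide⟩) (JL := JL) rad hMH hHW rfl ha haH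

end Cfsg.Agent.Lib.SubfieldTwist29.CertE6
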