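import Cfsg.Agent.Lib.ChevStructure.Parabolic
import Cfsg.Agent.Lib.ChevStructure.RankOne

/-!
The grading of the adjoint representation by the coroot of a long root `e` in the simply laced case, the
coordinates of the abelian quotient of the opposite radical, and the rigidity of that radical.
-/

set_option autoImplicit false
set_option linter.unusedSectionVars false
set_option maxRecDepth 8000

namespace Cfsg.Agent.Lib.SubfieldTwist29

open Cfsg.Lie ChevStructure
open scoped MatrixGroups Matrix

variable {D : ChevalleyDatum}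

/-- The grade of a basis vector. -/
def gr (e : Rt D) : D.Idx → ℤ := Sum.elim (fun _ => 0) (fun s => pr D e s)

/-- The roots of negative grade. -/
def Qs (e : Rt D) : Set (Rt D) := {r | pr D e r ≤ -1}

/-- The checked facts about a long root. -/
structure TD (D : ChevalleyDatum) (e : Rt D) : Prop where
  bd : ∀ r : Rt D, -2 ≤ pr D e r ∧ pr D e r ≤ 2
  two : ∀ r : Rt D, pr D e r = -2 → r = e.rev
  high : ∀ r : Rt D, pr D e r = -1 → ∃ u : Rt D, E D 1 r (Sum.inr u) (Sum.inr e) = 1 ∨ E D 1 r (Sum.inr u) (Sum.inr e) = -1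

/-- The chosen target and sign of a root of grade -1. -/
noncomputable def tgt (e r : Rt D) : Rt D × ℤ := by
  classical
  exact if h : ∃ u : Rt D, E D 1 r (Sum.inr u) (Sum.inr e) = 1 ∨ E D 1 r (Sum.inr u) (Sum.inr e) = -1 then
    (h.choose, E D 1 r (Sum.inr h.choose) (Sum.inr e)) else (r, 0)

/-- The coordinate at a root of grade -1. -/
noncomputable def kap {K : Type*} [Field K] (e r : Rt D) (g : GL D.Idx K) : K :=
  ((tgt e r).2 : K) * (g : Matrix D.Idx D.Idx K) (Sum.inr (tgt e r).1) (Sum.inr e)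

variable (C : Core D)
include C

theorem pr_lin {r s u : Rt D} {i j : ℤ} (h : C.v u = i • C.v r + j • C.v s) (e : Rt D) :
    pr D e u = i * pr D e r + j * pr D e s := by
  have hA : ∀ k, A D k u = i * A D k r + j * A D k s := fun k => by
    rw [C.A_lin, h, C.A_lin k r, C.A_lin k s, Finset.mul_sum, Finset.mul_sum, ← Finset.sum_add_distrib]
    refine Finset.sum_congr rfl fun m _ => ?_
    simp only [Pi.add_apply, Pi.smul_apply, smul_eq_mul]
    ring
  simp only [pr, hA, Finset.mul_sum, ← Finset.sum_add_distrib]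
  exact Finset.sum_congr rfl fun m _ => by ring

theorem gr_of_wt {e r : Rt D} {k : ℤ} {a b : D.Idx} (h : C.wt a = C.wt b + k • C.v r) :
    gr e a = gr e b + k * pr D e r := by
  have key : ∀ x : D.Idx, gr e x = ∑ j, co D e j * ∑ m, C.wt x m * A D j (C.p m) := by
    intro x
    rcases x with x | x
    · simp [gr, Core.wt]
    · show pr D e x = _
      exact Finset.sum_congr rfl fun j _ => by rw [C.A_lin]; rfl
  rw [key, key b, h, show pr D e r = ∑ j, co D e j * ∑ m, C.v r m * A D j (C.p m) from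
    Finset.sum_congr rfl fun j _ => by rw [C.A_lin], Finset.mul_sum, ← Finset.sum_add_distrib]
  refine Finset.sum_congr rfl fun j _ => ?_
  simp only [Pi.add_apply, Pi.smul_apply, smul_eq_mul, add_mul, Finset.sum_add_distrib, mul_add, Finset.mul_sum]
  congr 1
  exact Finset.sum_congr rfl fun m _ => by ring

theorem pr_pprod (L : List (Fin D.rank)) (r s : Rt D) : pr D (C.pprod L r) (C.pprod L s) = pr D r s := by
  induction L with
  | nil => rfl
  | cons i L ih =>
    rw [C.pprod_cons]
    simp only [Equiv.Perm.mul_apply, Core.sref_apply]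
    rw [C.pr_w, ih]

theorem pr_WG {σ : Equiv.Perm (Rt D)} (h : σ ∈ C.WG) (r s : Rt D) : pr D (σ r) (σ s) = pr D r s := by
  obtain ⟨L, rfl⟩ := C.mem_WG_iff.1 h
  exact pr_pprod C L r s

theorem TD.e_rev_grade (e : Rt D) : pr D e e.rev = -2 := by
  rw [show pr D e e.rev = ∑ j, co D e j * A D j e.rev from rfl]
  simp only [C.A_rev, mul_neg, Finset.sum_neg_distrib]
  exact congrArg Neg.neg (C.pr_self e)

variable {K : Type*} [Field K]

theorem X_mem_gr {e r : Rt D} (h : pr D e r ≤ -1) (t : K) :
    C.X K r t ∈ upperU K (fun a => -gr e a) 0 le_rfl := by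
  have key : ∀ t : K, Above (fun a => -gr e a) 0 (xI D K r t - 1) := by
    intro t
    have e1 : xI D K r t - 1 = ∑ k ∈ Finset.range 3, t ^ (k + 1) • Ek D K (k + 1) r := by
      rw [xI, Finset.sum_range_succ' _ 3, C.Ek_zero]
      simp
    rw [e1]
    intro a b hab
    rw [Matrix.sum_apply] at hab
    obtain ⟨k, -, hk⟩ := Finset.exists_ne_zero_of_sum_ne_zero hab
    have hE : E D (k + 1) r a b ≠ 0 := fun h0 => hk (by simp [Ek, h0])
    have := gr_of_wt C (e := e) (C.E_weight (k + 1) r a b hE)
    push_cast at this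
    show -gr e b + 0 < -gr e a
    nlinarith
  exact ⟨key t, by rw [C.X_inv]; exact key (-t)⟩

theorem US_le_gr (e : Rt D) : C.US K (Qs e) ≤ upperU K (fun a => -gr e a) 0 le_rfl := by
  refine (Subgroup.closure_le _).2 ?_
  rintro g ⟨r, hr, t, rfl⟩
  exact X_mem_gr C hr t

variable {e : Rt D}

theorem gr_bd (T : TD D e) (x : D.Idx) : -2 ≤ gr e x ∧ gr e x ≤ 2 := by
  rcases x with x | x
  · simp [gr]
  · exact T.bd x

theorem gr_e : gr e (Sum.inr e) = 2 := C.pr_self e

theorem gr_two (T : TD D e) {x : D.Idx} (h : gr e x = 2) : x = Sum.inr e := by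
  rcases x with x | x
  · simp [gr] at h
  · have h' : pr D e x = 2 := h
    have := T.two x.rev (by
      rw [show pr D e x.rev = ∑ j, co D e j * A D j x.rev from rfl]
      simp only [C.A_rev, mul_neg, Finset.sum_neg_distrib]
      exact congrArg Neg.neg h')
    rw [Fin.rev_inj] at this
    rw [this]

theorem entry_eq (g : GL D.Idx K) (hg : g ∈ upperU K (fun a => -gr e a) 0 le_rfl) {a b : D.Idx}
    (h : gr e b ≤ gr e a) : (g : Matrix D.Idx D.Idx K) a b = (1 : Matrix D.Idx D.Idx K) a b := by
  by_contra hne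
  have := hg.1 a b (by simpa [sub_eq_zero] using hne)
  simp only at this
  omega

/-- The coordinates are additive. -/
theorem entry_mul (T : TD D e) {g h : GL D.Idx K} (hg : g ∈ upperU K (fun a => -gr e a) 0 le_rfl)
    (hh : h ∈ upperU K (fun a => -gr e a) 0 le_rfl) {u : Rt D} (hu : pr D e u = 1) :
    ((g * h : GL D.Idx K) : Matrix D.Idx D.Idx K) (Sum.inr u) (Sum.inr e) =
      (g : Matrix D.Idx D.Idx K) (Sum.inr u) (Sum.inr e) + (h : Matrix D.Idx D.Idx K) (Sum.inr u) (Sum.inr e) := by
  have hne : (Sum.inr u : D.Idx) ≠ Sum.inr e := fun hh => by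
    have := congrArg (gr e) hh
    simp only [gr, Sum.elim_inr, C.pr_self, hu] at this
    omega
  rw [Units.val_mul, Matrix.mul_apply, Finset.sum_eq_add (Sum.inr e : D.Idx) (Sum.inr u) hne.symm]
  · rw [entry_eq C h hh (a := Sum.inr e) (b := Sum.inr e) le_rfl, entry_eq C g hg (a := Sum.inr u) (b := Sum.inr u) le_rfl,
      Matrix.one_apply_eq, Matrix.one_apply_eq, mul_one, one_mul]
  · intro z _ ⟨hze, hzu⟩
    by_cases hz : gr e z ≤ 1
    · rw [entry_eq C g hg (a := Sum.inr u) (b := z) (hu.symm ▸ hz : gr e z ≤ pr D e u), Matrix.one_apply_ne hzu.symm,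
        zero_mul]
    · exact absurd (gr_two C T (le_antisymm (gr_bd C T z).2 (by omega))) hze
  · simp
  · simp

theorem tgt_spec (T : TD D e) {r : Rt D} (hr : pr D e r = -1) :
    pr D e (tgt e r).1 = 1 ∧ C.v (tgt e r).1 = C.v e + C.v r ∧ (tgt e r).2 * (tgt e r).2 = 1 ∧
      E D 1 r (Sum.inr (tgt e r).1) (Sum.inr e) = (tgt e r).2 := by
  have h := T.high r hr
  have hc := h.choose_spec
  have e1 : tgt e r = (h.choose, E D 1 r (Sum.inr h.choose) (Sum.inr e)) := by simp [tgt, h]
  rw [e1]
  have hne : E D 1 r (Sum.inr h.choose) (Sum.inr e) ≠ 0 := by rcases hc with h | h <;> rw [h] <;> decide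
  have hw := C.E_weight 1 r _ _ hne
  have hg := gr_of_wt C (e := e) hw
  refine ⟨?_, ?_, ?_, rfl⟩
  · have : gr e (Sum.inr e : D.Idx) = 2 := gr_e C
    simp only [gr, Sum.elim_inr, Nat.cast_one, one_mul] at hg this ⊢
    omega
  · simpa [Core.wt] using hw
  · rcases hc with h | h <;> simp [h]

theorem kap_mul (T : TD D e) {g h : GL D.Idx K} (hg : g ∈ C.US K (Qs e)) (hh : h ∈ C.US K (Qs e)) {r : Rt D}
    (hr : pr D e r = -1) : kap e r (g * h) = kap e r g + kap e r h := by
  rw [kap, entry_mul C T (US_le_gr C e hg) (US_le_gr C e hh) (tgt_spec C T hr).1, mul_add]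
  rfl

theorem kap_one (T : TD D e) {r : Rt D} (hr : pr D e r = -1) : kap e r (1 : GL D.Idx K) = 0 := by
  have h := kap_mul C T (K := K) (one_mem (C.US K (Qs e))) (one_mem _) hr
  rw [one_mul] at h
  exact left_eq_add.1 h

theorem kap_inv (T : TD D e) {g : GL D.Idx K} (hg : g ∈ C.US K (Qs e)) {r : Rt D} (hr : pr D e r = -1) :
    kap e r g⁻¹ = -kap e r g := by
  have := kap_mul C T (inv_mem hg) hg hr
  rw [inv_mul_cancel, kap_one C T hr] at this
  linear_combination -this

theorem kap_X (T : TD D e) {r : Rt D} (hr : pr D e r = -1) {s : Rt D} (hs : s ∈ Qs e) (t : K) :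
    kap e r (C.X K s t) = if s = r then t else 0 := by
  obtain ⟨hu, hv, hc, hE⟩ := tgt_spec C T hr
  set u := (tgt e r).1
  have hne : (Sum.inr u : D.Idx) ≠ Sum.inr e := fun hh => by
    have := congrArg (gr e) hh
    simp only [gr, Sum.elim_inr, C.pr_self, hu] at this
    omega
  have e1 : ∀ k, E D k s (Sum.inr u) (Sum.inr e) ≠ 0 → k = 1 ∧ s = r := by
    intro k hk
    have hw := C.E_weight k s _ _ hk
    have hg := gr_of_wt C (e := e) hw
    simp only [gr, Sum.elim_inr, C.pr_self, hu] at hg
    have hs' : pr D e s ≤ -1 := hs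
    have hk1 : k = 1 := by
      rcases k with _ | _ | k
      · simp at hg
      · rfl
      · push_cast at hg; nlinarith
    subst hk1
    refine ⟨rfl, C.v_inj ?_⟩
    simp only [Core.wt, Nat.cast_one, one_smul] at hw
    rw [hv] at hw
    exact (add_left_cancel hw).symm
  have hX : ((C.X K s t : GL D.Idx K) : Matrix D.Idx D.Idx K) (Sum.inr u) (Sum.inr e) =
      t * ((E D 1 s (Sum.inr u) (Sum.inr e) : ℤ) : K) := by
    have h0 : ∀ k, k ≠ 1 → E D k s (Sum.inr u) (Sum.inr e) = 0 := fun k hk =>
      by_contra fun h => hk (e1 k h).1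
    rw [C.X_val, xI, Matrix.sum_apply, Finset.sum_eq_single 1]
    · simp [Ek]
    · intro k _ hk; simp [Ek, h0 k hk]
    · simp
  rw [kap, hX]
  split_ifs with hsr
  · subst hsr
    rw [hE, mul_comm t, ← mul_assoc, ← Int.cast_mul, hc, Int.cast_one, one_mul]
  · rw [show E D 1 s (Sum.inr u) (Sum.inr e) = 0 from by_contra fun h => hsr (e1 1 h).2]
    simp

/-- The coordinate map of a list of grade -1 roots. -/
theorem exists_word (H : CommOK C) (T : TD D e) (hne : ∀ r s : Rt D, pr D e r = -1 → pr D e s = -1 →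
      s ≠ r → s ≠ r.rev → ∀ c ∈ D.commTerms r.val s.val, ∀ q : Rt D, q.val = c.1 → q = e.rev)
    {v : GL D.Idx K} (hv : v ∈ C.US K (Qs e)) :
    (∀ r, pr D e r = -1 → kap e r v = 0) → ∃ c : K, v = C.X K e.rev c := by
  classical
  set Z := C.US K {e.rev}
  have hZ : ∀ z ∈ Z, ∀ g ∈ C.US K (Qs e), g * z = z * g := by
    have hcen : ∀ s ∈ Qs e, ∀ t u : K, C.X K s t * C.X K e.rev u = C.X K e.rev u * C.X K s t := by
      intro s hs t u
      by_cases hse : s = e.rev
      · subst hse; rw [C.X_add, C.X_add, add_comm]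
      have hs' : pr D e s ≤ -1 := hs
      have h1 : e.rev ≠ s := fun h => hse h.symm
      have h2 : e.rev ≠ s.rev := fun h => by
        rw [Fin.rev_inj] at h
        subst h
        rw [C.pr_self] at hs'
        omega
      have hh := H.comm_X s e.rev h1 h2 t u
      have hnil : D.commTerms s.val e.rev.val = [] := by
        rw [List.eq_nil_iff_forall_not_mem]
        intro c hc
        obtain ⟨q, -, hi, hj, hvq⟩ := H.terms s e.rev h1 h2 c hc
        have := pr_lin C hvq e
        have := (T.bd q).1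
        have := TD.e_rev_grade C e
        nlinarith [(Int.ofNat_le.mpr hi : ((1 : ℕ) : ℤ) ≤ c.2.2.1), (Int.ofNat_le.mpr hj : ((1 : ℕ) : ℤ) ≤ c.2.2.2)]
      rw [hnil] at hh
      simpa using hh.symm
    intro z hz g hg
    induction hg using Subgroup.closure_induction with
    | mem x hx =>
      obtain ⟨s, hs, t, rfl⟩ := hx
      induction hz using Subgroup.closure_induction with
      | mem y hy => obtain ⟨_, rfl, u, rfl⟩ := hy; exact hcen s hs t u
      | one => simp
      | mul a b _ _ ha hb => rw [← mul_assoc, ha, mul_assoc, hb, mul_assoc]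
      | inv a _ ha => exact (Commute.inv_right (show Commute _ a from ha)).eq
    | one => simp
    | mul a b _ _ ha hb => rw [mul_assoc, hb, ← mul_assoc, ha, mul_assoc]
    | inv a _ ha => exact (Commute.inv_left (show Commute a z from ha)).eq
  let L : List (Rt D) := (List.finRange D.nroots).filter fun r => decide (pr D e r = -1)
  have hL : ∀ r, r ∈ L ↔ pr D e r = -1 := by simp [L]
  have hnd : L.Nodup := (List.nodup_finRange _).filter _
  have hmem : ∀ (L' : List (Rt D)) (s : Rt D → K), (∀ r ∈ L', pr D e r = -1) → C.wordX K L' s ∈ C.US K (Qs e) :=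
    fun L' s h => C.wordX_mem K (fun r hr => show pr D e r ≤ -1 by rw [h r hr]) s
  have hstep : ∀ r, pr D e r = -1 → ∀ (t : K) (L' : List (Rt D)), (∀ q ∈ L', pr D e q = -1) → ∀ s : Rt D → K,
      ∃ z ∈ Z, C.wordX K L' s * C.X K r t = C.X K r t * C.wordX K L' s * z := by
    intro r hr t L'
    induction L' with
    | nil => intro _ s; exact ⟨1, one_mem _, by simp [Core.wordX]⟩
    | cons q L' ih =>
      intro h s
      obtain ⟨z, hz, e2⟩ := ih (fun x hx => h x (List.mem_cons_of_mem _ hx)) s
      have hq := h q List.mem_cons_self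
      obtain ⟨z', hz', e3⟩ : ∃ z' ∈ Z, C.X K q (s q) * C.X K r t = C.X K r t * C.X K q (s q) * z' := by
        by_cases hqr : q = r
        · subst hqr; exact ⟨1, one_mem _, by rw [C.X_add, C.X_add, add_comm, mul_one]⟩
        have h2 : q ≠ r.rev := fun h => by
          rw [h, show pr D e r.rev = -pr D e r by simp [pr, C.A_rev]] at hq
          omega
        refine ⟨_, list_prod_mem fun g hg => ?_, H.comm_X r q hqr h2 t (s q)⟩
        rw [List.mem_map] at hg
        obtain ⟨c, hc, rfl⟩ := hg
        obtain ⟨w, hw, -⟩ := H.terms r q hqr h2 c hc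
        exact C.XN_mem_US K (S := {e.rev}) (hne r q hr hq hqr h2 c hc w hw.symm) hw _
      refine ⟨z' * z, mul_mem hz' hz, ?_⟩
      have ec : C.wordX K L' s * z' = z' * C.wordX K L' s :=
        hZ z' hz' _ (hmem L' s fun x hx => h x (List.mem_cons_of_mem _ hx))
      show C.X K q (s q) * C.wordX K L' s * C.X K r t = C.X K r t * (C.X K q (s q) * C.wordX K L' s) * (z' * z)
      calc C.X K q (s q) * C.wordX K L' s * C.X K r t
          = C.X K q (s q) * C.X K r t * (C.wordX K L' s * z) := by rw [mul_assoc, e2]; simp only [mul_assoc]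
        _ = C.X K r t * C.X K q (s q) * (z' * C.wordX K L' s) * z := by rw [e3]; simp only [mul_assoc]
        _ = _ := by rw [← ec]; simp only [mul_assoc]
  have hadd : ∀ (L' : List (Rt D)), (∀ q ∈ L', pr D e q = -1) → ∀ s s' : Rt D → K,
      ∃ z ∈ Z, C.wordX K L' s * C.wordX K L' s' = C.wordX K L' (s + s') * z := by
    intro L'
    induction L' with
    | nil => intro _ s s'; exact ⟨1, one_mem _, by simp [Core.wordX]⟩
    | cons q L' ih =>
      intro h s s'
      have h' : ∀ x ∈ L', pr D e x = -1 := fun x hx => h x (List.mem_cons_of_mem _ hx)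
      obtain ⟨z1, hz1, e1⟩ := hstep q (h q List.mem_cons_self) (s' q) L' h' s
      obtain ⟨z2, hz2, e2⟩ := ih h' s s'
      refine ⟨z2 * z1, mul_mem hz2 hz1, ?_⟩
      show C.X K q (s q) * C.wordX K L' s * (C.X K q (s' q) * C.wordX K L' s') =
        C.X K q ((s + s') q) * C.wordX K L' (s + s') * (z2 * z1)
      rw [Pi.add_apply, ← C.X_add]
      calc C.X K q (s q) * C.wordX K L' s * (C.X K q (s' q) * C.wordX K L' s')
          = C.X K q (s q) * (C.wordX K L' s * C.X K q (s' q)) * C.wordX K L' s' := by simp only [mul_assoc]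
        _ = C.X K q (s q) * C.X K q (s' q) * (C.wordX K L' s * (z1 * C.wordX K L' s')) := by
            rw [e1]; simp only [mul_assoc]
        _ = C.X K q (s q) * C.X K q (s' q) * (C.wordX K L' s * C.wordX K L' s') * z1 := by
            rw [← hZ z1 hz1 _ (hmem L' s' h')]; simp only [mul_assoc]
        _ = _ := by rw [e2]; simp only [mul_assoc]
  have hform : ∃ s : Rt D → K, ∃ z ∈ Z, v = C.wordX K L s * z := by
    have hz0 : C.wordX K L (fun _ => 0) = 1 := List.prod_eq_one fun x hx => by
      rw [List.mem_map] at hx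
      obtain ⟨r, -, rfl⟩ := hx
      exact C.X_zero K r
    induction hv using Subgroup.closure_induction with
    | mem x hx =>
      obtain ⟨r, hr, t, rfl⟩ := hx
      by_cases h2 : pr D e r = -2
      · exact ⟨fun _ => 0, _, C.X_mem_US K (S := {e.rev}) (T.two r h2) t, by rw [hz0, one_mul]⟩
      · have hr' : pr D e r ≤ -1 := hr
        have h1 : pr D e r = -1 := by have := (T.bd r).1; omega
        refine ⟨fun q => if q = r then t else 0, 1, one_mem _, ?_⟩
        rw [mul_one, Core.wordX, List.prod_map_eq_pow_single r]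
        · rw [List.count_eq_one_of_mem hnd ((hL r).2 h1), if_pos rfl, pow_one]
        · intro q hq _; rw [if_neg hq, C.X_zero]
    | one => exact ⟨fun _ => 0, 1, one_mem _, by rw [hz0, one_mul]⟩
    | mul x y _ _ hx hy =>
      obtain ⟨s, z, hz, rfl⟩ := hx
      obtain ⟨s', z', hz', rfl⟩ := hy
      obtain ⟨z2, hz2, e2⟩ := hadd L (fun q hq => (hL q).1 hq) s s'
      refine ⟨s + s', z2 * z * z', mul_mem (mul_mem hz2 hz) hz', ?_⟩
      have hc := hZ z hz _ (hmem L s' fun q hq => (hL q).1 hq)
      calc C.wordX K L s * z * (C.wordX K L s' * z')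
          = C.wordX K L s * (z * C.wordX K L s') * z' := by simp only [mul_assoc]
        _ = C.wordX K L s * C.wordX K L s' * z * z' := by rw [← hc]; simp only [mul_assoc]
        _ = _ := by rw [e2]; simp only [mul_assoc]
    | inv x hx' hx =>
      obtain ⟨s, z, hz, rfl⟩ := hx
      obtain ⟨z2, hz2, e2⟩ := hadd L (fun q hq => (hL q).1 hq) s (-s)
      rw [add_neg_cancel, show C.wordX K L 0 = 1 from hz0, one_mul] at e2
      have hW : (C.wordX K L s)⁻¹ = C.wordX K L (-s) * z2⁻¹ := by
        refine inv_eq_of_mul_eq_one_right ?_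
        rw [← mul_assoc, e2, mul_inv_cancel]
      refine ⟨-s, z2⁻¹ * z⁻¹, mul_mem (inv_mem hz2) (inv_mem hz), ?_⟩
      rw [mul_inv_rev, hW, ← hZ z⁻¹ (inv_mem hz) _ (mul_mem (hmem L _ fun q hq => (hL q).1 hq)
        (inv_mem (C.US_mono K (Set.singleton_subset_iff.2 (show e.rev ∈ Qs e by
          show pr D e e.rev ≤ -1; rw [TD.e_rev_grade C e]; norm_num)) hz2))), mul_assoc]
  intro hk
  obtain ⟨s, z, hz, rfl⟩ := hform
  have hzQ : ∀ z ∈ Z, z ∈ C.US K (Qs e) := fun z hz => C.US_mono K (Set.singleton_subset_iff.2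
    (show e.rev ∈ Qs e by show pr D e e.rev ≤ -1; rw [TD.e_rev_grade C e]; norm_num)) hz
  have hZX : ∀ z ∈ Z, ∃ c, z = C.X K e.rev c := by
    intro z hz
    induction hz using Subgroup.closure_induction with
    | mem y hy => obtain ⟨_, rfl, u, rfl⟩ := hy; exact ⟨u, rfl⟩
    | one => exact ⟨0, (C.X_zero K _).symm⟩
    | mul a b _ _ ha hb => obtain ⟨x, rfl⟩ := ha; obtain ⟨y, rfl⟩ := hb; exact ⟨x + y, C.X_add K _ x y⟩
    | inv a _ ha => obtain ⟨x, rfl⟩ := ha; exact ⟨-x, C.X_inv K _ x⟩
  have hs0 : ∀ r ∈ L, s r = 0 := by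
    intro r hr
    have hr' := (hL r).1 hr
    have hkw : ∀ L' : List (Rt D), (∀ q ∈ L', pr D e q = -1) → L'.Nodup →
        kap e r (C.wordX K L' s) = if r ∈ L' then s r else 0 := by
      intro L'
      induction L' with
      | nil => intros; simpa [Core.wordX] using kap_one C T hr'
      | cons q L' ih =>
        intro h hnd'
        obtain ⟨hq, hnd''⟩ := List.nodup_cons.1 hnd'
        show kap e r (C.X K q (s q) * C.wordX K L' s) = _
        have hqm : q ∈ Qs e := show pr D e q ≤ -1 by rw [h q List.mem_cons_self]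
        rw [kap_mul C T (C.X_mem_US K hqm _) (hmem L' s fun x hx => h x (List.mem_cons_of_mem _ hx)) hr',
          kap_X C T hr' hqm, ih (fun x hx => h x (List.mem_cons_of_mem _ hx)) hnd'']
        by_cases hqr : q = r
        · subst hqr; simp [hq]
        · simp [hqr, Ne.symm hqr]
    have h0 := hk r hr'
    obtain ⟨c, rfl⟩ := hZX z hz
    rw [kap_mul C T (hmem L s fun q hq => (hL q).1 hq) (hzQ _ hz) hr', hkw L (fun q hq => (hL q).1 hq) hnd,
      if_pos hr, kap_X C T hr' (show e.rev ∈ Qs e by show pr D e e.rev ≤ -1; rw [TD.e_rev_grade C e]; norm_num),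
      if_neg (fun h => by rw [← h, TD.e_rev_grade C e] at hr'; omega), add_zero] at h0
    exact h0
  obtain ⟨c, rfl⟩ := hZX z hz
  refine ⟨c, ?_⟩
  rw [C.wordX_congr K (t' := fun _ => 0) hs0, show C.wordX K L (fun _ => 0) = 1 from
    List.prod_eq_one fun x hx => by
      rw [List.mem_map] at hx
      obtain ⟨r, -, rfl⟩ := hx
      exact C.X_zero K r, one_mul]

/-- An element of the radical conjugating `x_e(t)` into the root group of `e` is trivial. -/
theorem fix_eq_one (H : CommOK C) (T : TD D e) (hne : ∀ r s : Rt D, pr D e r = -1 → pr D e s = -1 →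
      s ≠ r → s ≠ r.rev → ∀ c ∈ D.commTerms r.val s.val, ∀ q : Rt D, q.val = c.1 → q = e.rev)
    {v : GL D.Idx K} (hv : v ∈ C.US K (Qs e)) {t t' : K} (ht : t ≠ 0)
    (h : v * C.X K e t = C.X K e t' * v) : v = 1 := by
  have hv' := US_le_gr C e hv
  have hm : ∀ a b, ((v : Matrix D.Idx D.Idx K) * (C.X K e t : GL D.Idx K)) a b =
      (((C.X K e t' : GL D.Idx K) : Matrix D.Idx D.Idx K) * (v : Matrix D.Idx D.Idx K)) a b := fun a b => by
    rw [← Units.val_mul, ← Units.val_mul, h]
  have hne' : e.rev ≠ e := C.ne_rev e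
  have hcol : ∀ (s : K) (a : D.Idx), ((C.X K e s : GL D.Idx K) : Matrix D.Idx D.Idx K) a (Sum.inr e.rev) =
      Sum.elim (fun j => (co D e j : K) * s) (fun u => if u = e then -s ^ 2 else if u = e.rev then 1 else 0) a := by
    intro s a
    rw [C.X_val, xI, Matrix.sum_apply]
    rcases a with j | u
    · simp only [Sum.elim_inl, Finset.sum_range_succ, Finset.sum_range_zero, Matrix.smul_apply, Ek, Matrix.map_apply,
        E, Matrix.of_apply, smul_eq_mul]
      simp [mul_comm]
    · simp only [Sum.elim_inr, Finset.sum_range_succ, Finset.sum_range_zero, Matrix.smul_apply, Ek, Matrix.map_apply,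
        E, Matrix.of_apply, smul_eq_mul, if_true, Nat.succ_ne_zero, false_and, if_false,
        zero_ne_one, OfNat.ofNat_ne_one, Nat.reduceEqDiff, true_and]
      by_cases hu : u = e
      · subst hu; simp [Matrix.one_apply, hne'.symm]
      · by_cases hur : u = e.rev
        · subst hur; simp [hu]
        · simp [Matrix.one_apply, hu, hur]
  have hvcol : ∀ a : D.Idx, (v : Matrix D.Idx D.Idx K) a (Sum.inr e.rev) = (1 : Matrix D.Idx D.Idx K) a (Sum.inr e.rev) := by
    intro a
    refine entry_eq C v hv' ?_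
    have h1 : gr e (Sum.inr e.rev : D.Idx) = -2 := TD.e_rev_grade C e
    rw [h1]
    exact (gr_bd C T a).1
  have hk : ∀ r, pr D e r = -1 → kap e r v = 0 := by
    intro r hr
    obtain ⟨hu, -, -, -⟩ := tgt_spec C T hr
    set u := (tgt e r).1
    have hue : u ≠ e := fun hh => by rw [hh, C.pr_self] at hu; omega
    have hur : u ≠ e.rev := fun hh => by rw [hh, TD.e_rev_grade C e] at hu; omega
    have h1 := hm (Sum.inr u) (Sum.inr e.rev)
    have hr2 : (((C.X K e t' : GL D.Idx K) : Matrix D.Idx D.Idx K) * (v : Matrix D.Idx D.Idx K)) (Sum.inr u) (Sum.inr e.rev) =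
        0 := by
      rw [Matrix.mul_apply, Finset.sum_eq_single (Sum.inr e.rev : D.Idx)]
      · rw [hcol, hvcol]; simp [hue, hur]
      · intro b _ hb; rw [hvcol, Matrix.one_apply_ne hb, mul_zero]
      · simp
    have hl : ((v : Matrix D.Idx D.Idx K) * (C.X K e t : GL D.Idx K)) (Sum.inr u) (Sum.inr e.rev) =
        (v : Matrix D.Idx D.Idx K) (Sum.inr u) (Sum.inr e) * (-t ^ 2) := by
      rw [Matrix.mul_apply, Finset.sum_eq_single (Sum.inr e : D.Idx)]
      · rw [hcol]; simp
      · intro b _ hb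
        rcases b with j | w
        · rw [entry_eq C v hv' (a := Sum.inr u) (b := Sum.inl j) (by show (0 : ℤ) ≤ pr D e u; omega),
            Matrix.one_apply_ne (by simp), zero_mul]
        · rw [hcol]
          have hw : w ≠ e := fun hh => hb (by rw [hh])
          by_cases hw' : w = e.rev
          · rw [hw', hvcol, Matrix.one_apply_ne (by simpa using hur), zero_mul]
          · simp [hw, hw']
      · simp
    rw [hl, hr2] at h1
    have : (v : Matrix D.Idx D.Idx K) (Sum.inr u) (Sum.inr e) = 0 := by simpa [ht] using h1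
    rw [kap, this, mul_zero]
  obtain ⟨c, rfl⟩ := exists_word C H T hne hv hk
  suffices c = 0 by rw [this, C.X_zero]
  have ht' : t' ≠ 0 := fun h0 => by
    rw [h0, C.X_zero, one_mul] at h
    exact ht (C.X_eq_one (mul_eq_left.1 h))
  refine C.eq_zero_of_co_mul K (k := e) fun j => ?_
  have h1 := hm (Sum.inl j) (Sum.inr e)
  have hcol2 : ∀ a, ((C.X K e.rev c : GL D.Idx K) : Matrix D.Idx D.Idx K) a (Sum.inr e) =
      Sum.elim (fun j => -((co D e j : K) * c)) (fun u => if u = e.rev then -c ^ 2 else if u = e then 1 else 0) a := by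
    intro a
    rw [C.X_val, xI, Matrix.sum_apply]
    rcases a with i | u <;> simp [Finset.sum_range_succ, Ek, E, Matrix.one_apply, C.rev_rev, C.co_rev]
    · ring
    · split_ifs <;> simp_all
  have htop : ∀ b : D.Idx, ((C.X K e t : GL D.Idx K) : Matrix D.Idx D.Idx K) b (Sum.inr e) =
      (1 : Matrix D.Idx D.Idx K) b (Sum.inr e) := by
    intro b
    rw [C.X_val, xI, Matrix.sum_apply]
    rcases b with i | u <;> simp [Finset.sum_range_succ, Ek, E, Matrix.one_apply, hne'.symm, C.chM_self]
  have hl : ((C.X K e.rev c : GL D.Idx K) : Matrix D.Idx D.Idx K) * (C.X K e t : GL D.Idx K) = _ := rfl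
  rw [Matrix.mul_apply, Finset.sum_eq_single (Sum.inr e : D.Idx) (fun b _ hb => by
      rw [htop, Matrix.one_apply_ne hb, mul_zero]) (by simp), htop, Matrix.one_apply_eq, mul_one, hcol2] at h1
  rw [Matrix.mul_apply] at h1
  simp only [hcol2, Sum.elim_inl] at h1
  rw [Fintype.sum_sum_type, Finset.sum_eq_single j, Finset.sum_eq_single e.rev] at h1
  · simp only [Sum.elim_inl, Sum.elim_inr, if_pos] at h1
    rw [hcol] at h1
    simp only [Sum.elim_inl] at h1
    have hjj : ((C.X K e t' : GL D.Idx K) : Matrix D.Idx D.Idx K) (Sum.inl j) (Sum.inl j) = 1 := by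
      rw [C.X_val, xI, Matrix.sum_apply]; simp [Finset.sum_range_succ, Ek, E]
    rw [hjj] at h1
    have : (co D e j : K) * t' * c ^ 2 = 0 := by linear_combination h1
    have h2 : (co D e j : K) * c * (t' * c) = 0 := by linear_combination this
    rcases mul_eq_zero.1 h2 with h3 | h3
    · exact h3
    · rw [(mul_eq_zero.1 h3).resolve_left ht', mul_zero]
  · intro u _ hu
    simp only [Sum.elim_inr, if_neg hu]
    split_ifs with hue
    · subst hue
      have : ((C.X K u t' : GL D.Idx K) : Matrix D.Idx D.Idx K) (Sum.inl j) (Sum.inr u) = 0 := by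
        rw [C.X_val, xI, Matrix.sum_apply]; simp [Finset.sum_range_succ, Ek, E, hne'.symm]
      rw [this, zero_mul]
    · rw [mul_zero]
  · simp
  · intro i _ hi
    have : ((C.X K e t' : GL D.Idx K) : Matrix D.Idx D.Idx K) (Sum.inl j) (Sum.inl i) = 0 := by
      rw [C.X_val, xI, Matrix.sum_apply]; simp [Finset.sum_range_succ, Ek, E, Ne.symm hi]
    rw [this, zero_mul]
  · simp

end Cfsg.Agent.Lib.SubfieldTwist29
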