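import Cfsg.Agent.Lib.SubfieldTwist29.Radical

/-!
Growing a set of parameters to the whole field.
-/

set_option autoImplicit false
set_option linter.unusedSectionVars false
set_option maxHeartbeats 1000000

namespace Cfsg.Agent.Lib.SubfieldTwist29

open Cfsg.Lie ChevStructure LieTwisted.Twist
open scoped MatrixGroups Matrix

namespace Setting

variable {D : ChevalleyDatum} {C : Core D} {K : Type*} [Field K] [Finite K] (S : Setting C K)
  {tT β : Rt D} {JL : List (List (Fin D.rank))} (R : Rad C S.O.π S.O.ε S.O.n S.al tT β JL)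
  {H : Subgroup (GL D.Idx K)} (hMH : S.M ≤ H) (hHW : H ≤ S.O.G1)
  (hJL : ∀ l ∈ JL, ∃ m, S.O.Jl m = l)

include R hMH hHW hJL

/-- Moving a parameter from the top orbit to an orbit reached by a word. -/
theorem move {r : Rt D} (W : List (List (Fin D.rank))) (hW : ∀ l ∈ W, l ∈ JL) (hr : C.pprod W.flatten tT = r)
    {a x : K} (ha : S.orbR tT a ∈ H) (hx : S.O.φ x = x) : S.orbR r (x * a) ∈ H := by
  obtain ⟨c, hc, hcf, n, hn, hconj⟩ := S.transport R hMH hHW hJL W hW hr
  have h1 := hconj (c⁻¹ * x * a)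
  rw [← mul_assoc, ← mul_assoc, mul_inv_cancel₀ hc, one_mul] at h1
  rw [← h1]
  exact mul_mem (mul_mem (hMH hn) (S.scale R hMH hHW ha (by rw [map_mul, map_inv₀, hcf, hx]))) (inv_mem (hMH hn))

omit hJL in
theorem grow_two (hn : S.O.n = 2) {a : K} (ha : S.O.φ a ≠ a) (haH : S.orbR tT a ∈ H) (c : K) :
    S.orbR tT c ∈ H := by
  have inj : Function.Injective fun p : {t : K // S.O.φ t = t} × {t : K // S.O.φ t = t} => p.1.1 + p.2.1 * a := by
    rintro ⟨⟨x, hx⟩, ⟨y, hy⟩⟩ ⟨⟨x', hx'⟩, ⟨y', hy'⟩⟩ h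
    simp only at h
    have h2 : (y - y') * a = x' - x := by linear_combination h
    by_cases hyy : y = y'
    · subst hyy
      rw [sub_self, zero_mul] at h2
      obtain rfl : x' = x := sub_eq_zero.1 h2.symm
      rfl
    · refine absurd ?_ ha
      have h3 : a = (x' - x) / (y - y') := by
        rw [eq_div_iff (sub_ne_zero.2 hyy), mul_comm, h2]
      rw [h3, map_div₀, map_sub, map_sub, hx, hx', hy, hy']
  have hb := inj.bijective_of_nat_card_le (by rw [Nat.card_prod, S.O.card_fix, S.O.card_K, hn, pow_two])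
  obtain ⟨⟨⟨x, hx⟩, ⟨y, hy⟩⟩, rfl⟩ := hb.2 c
  rw [← S.orbR_add]
  exact mul_mem (hMH (S.orbR_mem_M hx)) (S.scale R hMH hHW haH hy)

omit hJL in
theorem grow_three (hn : S.O.n = 3) {a : K} (ha : S.O.φ a ≠ a) (haH : S.orbR tT a ∈ H)
    (hbH : S.orbR tT (S.O.φ a * S.O.φ (S.O.φ a)) ∈ H) (c : K) : S.orbR tT c ∈ H := by
  set b := S.O.φ a * S.O.φ (S.O.φ a) with hb
  have h3 : S.O.φ (S.O.φ (S.O.φ a)) = a := by
    have := S.O.φ_pow a
    rw [hn] at this
    exact this
  have indep : ∀ x y z : K, S.O.φ x = x → S.O.φ y = y → S.O.φ z = z → x + y * a + z * b = 0 →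
      x = 0 ∧ y = 0 ∧ z = 0 := by
    intro x y z hx hy hz h
    by_cases hz0 : z = 0
    · subst hz0
      rw [zero_mul, add_zero] at h
      by_cases hy0 : y = 0
      · subst hy0
        rw [zero_mul, add_zero] at h
        exact ⟨h, rfl, rfl⟩
      · refine absurd ?_ ha
        have h4 : a = -x / y := by rw [eq_div_iff hy0]; linear_combination h
        rw [h4, map_div₀, map_neg, hx, hy]
    · exfalso
      have hN : S.O.φ (a * b) = a * b := by
        rw [hb, map_mul, map_mul, h3]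
        ring
      have h5 : x * a + y * (a * a) = -z * (a * b) := by linear_combination a * h
      have h6 : x * S.O.φ a + y * (S.O.φ a * S.O.φ a) = x * a + y * (a * a) := by
        have := congrArg S.O.φ h5
        rw [map_add, map_mul, map_mul, map_mul, map_mul, map_neg, hN, hx, hy, hz, ← h5] at this
        exact this
      have h7 : x + y * (S.O.φ a + a) = 0 := by
        have : (S.O.φ a - a) * (x + y * (S.O.φ a + a)) = 0 := by linear_combination h6
        exact (mul_eq_zero.1 this).resolve_left (sub_ne_zero.2 ha)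
      have h8 : x + y * (S.O.φ (S.O.φ a) + S.O.φ a) = 0 := by
        have := congrArg S.O.φ h7
        rwa [map_add, map_mul, map_add, hx, hy, map_zero] at this
      have hy0 : y = 0 := by
        have h9 : y * (S.O.φ (S.O.φ a) - a) = 0 := by linear_combination h8 - h7
        refine (mul_eq_zero.1 h9).resolve_right (sub_ne_zero.2 fun e => ha ?_)
        have h10 := congrArg S.O.φ e
        rw [h3] at h10
        exact h10.symm
      have ha0 : a ≠ 0 := fun e => ha (by rw [e, map_zero])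
      subst hy0
      rw [zero_mul, add_zero] at h7
      subst h7
      rw [zero_mul, add_zero, zero_add] at h
      exact mul_ne_zero hz0 (mul_ne_zero ((map_ne_zero S.O.φ).2 ha0)
        ((map_ne_zero S.O.φ).2 ((map_ne_zero S.O.φ).2 ha0))) h
  have inj : Function.Injective fun p : {t : K // S.O.φ t = t} × {t : K // S.O.φ t = t} × {t : K // S.O.φ t = t} =>
      p.1.1 + p.2.1.1 * a + p.2.2.1 * b := by
    rintro ⟨⟨x, hx⟩, ⟨y, hy⟩, ⟨z, hz⟩⟩ ⟨⟨x', hx'⟩, ⟨y', hy'⟩, ⟨z', hz'⟩⟩ h
    simp only at h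
    obtain ⟨h1, h2, h4⟩ := indep (x - x') (y - y') (z - z') (by rw [map_sub, hx, hx']) (by rw [map_sub, hy, hy'])
      (by rw [map_sub, hz, hz']) (by linear_combination h)
    obtain rfl := sub_eq_zero.1 h1
    obtain rfl := sub_eq_zero.1 h2
    obtain rfl := sub_eq_zero.1 h4
    rfl
  have hbij := inj.bijective_of_nat_card_le (by
    rw [Nat.card_prod, Nat.card_prod, S.O.card_fix, S.O.card_K, hn]
    exact le_of_eq (by ring))
  obtain ⟨⟨⟨x, hx⟩, ⟨y, hy⟩, ⟨z, hz⟩⟩, rfl⟩ := hbij.2 c
  rw [← S.orbR_add, ← S.orbR_add]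
  exact mul_mem (mul_mem (hMH (S.orbR_mem_M hx)) (S.scale R hMH hHW haH hy)) (S.scale R hMH hHW hbH hz)

end Setting

end Cfsg.Agent.Lib.SubfieldTwist29
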