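import Cfsg.Agent.Lib.SubfieldTwist29.Grow
import Cfsg.Agent.Lib.SubfieldTwist29.CertD4

/-!
The subfield points of the triality groups are maximal.
-/

set_option autoImplicit false
set_option maxRecDepth 100000
set_option maxHeartbeats 1000000

namespace Cfsg.Agent.Lib.SubfieldTwist29.CertD4

open Cfsg.Lie ChevStructure LieTwisted.Twist
open scoped MatrixGroups Matrix

abbrev r18 : Rt chevD4 := ⟨18, by decide⟩
abbrev r14 : Rt chevD4 := ⟨14, by decide⟩
abbrev r19 : Rt chevD4 := ⟨19, by decide⟩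

theorem src_facts : srcOf al r18 tT = none ∧ srcOf al (πD (πD r18)) r14 = none ∧ srcOf al (πD r18) r14 = none ∧
    srcOf al r18 r14 = none ∧ srcOf al (πD r18) r19 = none ∧ srcOf al (πD (πD r18)) r19 = none ∧
    (∃ c : ℤ, (c = 1 ∨ c = -1) ∧ srcOf al r18 r19 = some (r14, c)) ∧
    (∃ c : ℤ, (c = 1 ∨ c = -1) ∧ srcOf al (πD r18) tT = some (⟨15, by decide⟩, c)) ∧
    (∃ c : ℤ, (c = 1 ∨ c = -1) ∧ srcOf al (πD (πD r18)) ⟨15, by decide⟩ = some (r14, c)) ∧
    (∃ c : ℤ, (c = 1 ∨ c = -1) ∧ srcOf al (πD (πD r18)) tT = some (⟨16, by decide⟩, c)) := by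
  have h : ∀ (a T s : Rt chevD4), srcOf al a T = some (s, 1) ∨ srcOf al a T = some (s, -1) →
      ∃ c : ℤ, (c = 1 ∨ c = -1) ∧ srcOf al a T = some (s, c) := fun a T s h =>
    h.elim (fun h => ⟨1, Or.inl rfl, h⟩) (fun h => ⟨-1, Or.inr rfl, h⟩)
  exact ⟨by decide +kernel, by decide +kernel, by decide +kernel, by decide +kernel, by decide +kernel,
    by decide +kernel, h _ _ _ (by decide +kernel), h _ _ _ (by decide +kernel), h _ _ _ (by decide +kernel),
    h _ _ _ (by decide +kernel)⟩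

variable {K : Type*} [Field K] [Fintype K] {q : ℕ} {φ : K ≃+* K} (F : Frob.Facts K q 3 φ) (hq1 : 1 < q)
  (hK : Fintype.card K = q ^ 3)

/-- The setting. -/
noncomputable def set : Setting D4.C K := ⟨D4.orth F hq1 hK, al, cert⟩

theorem JL_spec : ∀ l ∈ JL, ∃ m, (set F hq1 hK).O.Jl m = l := by
  have key : ∀ l ∈ JL, ∃ m : Fin 2, ((List.range (if Frob.nodePerm D4.g (D4.osD m) = D4.osD m then 1 else 3)).map
      fun k => (Frob.nodePerm D4.g : _ → _)^[k] (D4.osD m)) = l := by decide +kernel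
  intro l hl
  obtain ⟨m, hm⟩ := key l hl
  exact ⟨m, hm⟩

theorem grow (H : Subgroup (GL chevD4.Idx K)) (hMH : (set F hq1 hK).M ≤ H) (hHW : H ≤ (set F hq1 hK).O.G1)
    (a : K) (ha : (set F hq1 hK).O.φ a ≠ a) (haH : (set F hq1 hK).orbR tT a ∈ H) :
    ∀ c, (set F hq1 hK).orbR tT c ∈ H := by
  set S := set F hq1 hK
  have hR : Rad D4.C S.O.π S.O.ε S.O.n S.al tT ⟨22, by decide⟩ JL := rad
  have hJL := JL_spec F hq1 hK
  have hW18 : D4.C.pprod ([[⟨1, by decide⟩], [⟨0, by decide⟩, ⟨2, by decide⟩, ⟨3, by decide⟩]] :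
      List (List (Fin chevD4.rank))).flatten tT = r18 := by decide +kernel
  have hW19 : D4.C.pprod ([[⟨0, by decide⟩, ⟨2, by decide⟩, ⟨3, by decide⟩]] :
      List (List (Fin chevD4.rank))).flatten tT = r19 := by decide +kernel
  have h18 : S.orbR r18 a ∈ H := by
    have := S.move hR hMH hHW hJL _ (by simp [JL]) hW18 haH (map_one _)
    rwa [one_mul] at this
  have hsz : S.szR r18 = 3 := if_neg (show ¬ πD r18 = r18 by decide +kernel)
  set L : List (Rt chevD4 × K) := [(r18, (eN S.O.π S.O.ε 0 r18 : K) * a),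
    (πD r18, (eN S.O.π S.O.ε 1 r18 : K) * S.O.φ a),
    (πD (πD r18), (eN S.O.π S.O.ε 2 r18 : K) * S.O.φ (S.O.φ a))]
  have hL : S.orbR r18 a = (L.map fun p => D4.C.X K p.1 p.2).prod := by
    rw [Setting.orbR, hsz]
    simp only [L, List.range_succ, List.range_zero, List.nil_append, List.cons_append, List.map_cons, List.map_nil,
      S.iter_X]
    rfl
  have hL0 : ∀ p ∈ L, pr chevD4 S.al p.1 = 0 := by
    have key : pr chevD4 al r18 = 0 ∧ pr chevD4 al (πD r18) = 0 ∧ pr chevD4 al (πD (πD r18)) = 0 := by decide +kernel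
    intro p hp
    simp only [L, List.mem_cons, List.not_mem_nil, or_false] at hp
    rcases hp with rfl | rfl | rfl
    exacts [key.1, key.2.1, key.2.2]
  have h14 : pr chevD4 S.al r14 = 1 := show pr chevD4 al r14 = 1 by decide +kernel
  set v := D4.C.X K r14 (1 : K)
  have hvM : v ∈ S.M := S.X_mem (show πD r14 = r14 by decide +kernel) (map_one _)
  have hvQ : v ∈ S.Q := D4.C.X_mem_US K (S.mem_Qs.2 h14.ge) _
  have hkv : ∀ s, pr chevD4 S.al s = 1 → S.kp s v = if r14 = s then (1 : K) else 0 := fun s hs =>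
    S.kp_X (S.mem_Qs.2 h14.ge) hs 1
  set u := S.orbR r18 a * v * (S.orbR r18 a)⁻¹ * v⁻¹
  have huH : u ∈ H := mul_mem (mul_mem (mul_mem h18 (hMH hvM)) (inv_mem h18)) (inv_mem (hMH hvM))
  have hpull : ∀ {s : Rt chevD4}, pr chevD4 S.al s = 1 → S.orbR r18 a * v * (S.orbR r18 a)⁻¹ ∈ S.Q ∧
      S.kp s u = ((pullR S.al L s).map fun x => x.2 * S.kp x.1 v).sum := by
    intro s hs
    obtain ⟨h1, h2⟩ := S.kp_pull L hL0 hs hvQ
    rw [← hL] at h1 h2
    refine ⟨h1, ?_⟩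
    rw [S.kp_mul h1 (inv_mem hvQ) hs, h2, S.kp_inv hvQ hs]
    ring
  have huQ : u ∈ S.Q := mul_mem (hpull h14).1 (inv_mem hvQ)
  have hpr : pr chevD4 al ⟨15, by decide⟩ = 1 ∧ pr chevD4 al ⟨16, by decide⟩ = 1 ∧ pr chevD4 al r19 = 1 := by
    decide +kernel
  obtain ⟨f1, f2, f3, f4, f5, f6, ⟨c1, hc1, g1⟩, ⟨c2, hc2, g2⟩, ⟨c3, hc3, g3⟩, ⟨c4, hc4, g4⟩⟩ := src_facts
  have hal : S.al = al := rfl
  have h19 : S.kp r19 u = ((c1 * eN S.O.π S.O.ε 0 r18 : ℤ) : K) * a := by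
    rw [(hpull hpr.2.2).2]
    simp only [L, pullR, hal, g1, f2, f3, f5, f6, List.nil_append, List.map_nil, List.map_cons, List.append_nil,
      List.sum_cons, List.sum_nil]
    rw [hkv _ h14, if_pos rfl]
    push_cast
    ring
  have h17 : S.kp tT u = ((c2 * c3 * eN S.O.π S.O.ε 1 r18 * eN S.O.π S.O.ε 2 r18 : ℤ) : K) *
      (S.O.φ a * S.O.φ (S.O.φ a)) := by
    rw [(hpull hR.t1).2]
    simp only [L, pullR, hal, f1, g2, g3, g4, List.nil_append, List.map_nil, List.map_cons, List.append_nil,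
      List.cons_append, List.sum_cons, List.sum_nil]
    rw [hkv _ h14, if_pos rfl, hkv _ hpr.1, if_neg (by decide), hkv _ hpr.2.1, if_neg (by decide)]
    push_cast
    ring
  have huΘ : S.O.Θ u = u := (S.mem_G1.1 (hHW huH)).2
  have hoffkey : ∀ s, pr chevD4 al s = 1 → (∀ j : Fin 3, (πD : Rt chevD4 → Rt chevD4)^[j.val] tT ≠ s) →
      πD s = s ∨ ∃ j : Fin 3, (πD : Rt chevD4 → Rt chevD4)^[j.val] r19 = s := by decide +kernel
  have h := S.isolate hR hMH hHW huH huQ fun s h1 h2 => by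
    have hg := S.kp_good huQ huΘ h1
    rcases hoffkey s h1 (fun j => h2 j.val) with hs | ⟨j, hj⟩
    · exact hMH (S.orbR_mem_M (by rw [map_neg, hg hs]))
    · have e : -S.kp s u = (eN S.O.π S.O.ε j.val r19 : K) * (S.O.φ : K → K)^[j.val] (-S.kp r19 u) := by
        rw [← show (S.O.π : Rt chevD4 → Rt chevD4)^[j.val] r19 = s from hj, S.kp_iter huQ huΘ hpr.2.2,
          iterate_map_neg, mul_neg]
      rw [e, ← show (S.O.π : Rt chevD4 → Rt chevD4)^[j.val] r19 = s from hj,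
        S.orbR_shift (fun h => absurd h (show ¬ πD r19 = r19 by decide +kernel)), h19, ← neg_mul]
      exact S.move hR hMH hHW hJL _ (by simp [JL]) hW19 haH (by rw [map_neg, map_intCast])
  rw [h17] at h
  refine S.grow_three hR hMH hHW rfl ha haH ?_
  set e : ℤ := c2 * c3 * eN S.O.π S.O.ε 1 r18 * eN S.O.π S.O.ε 2 r18
  have he : (e : K) * e = 1 := by
    have sq : ∀ x : ℤ, x = 1 ∨ x = -1 → x * x = 1 := by rintro x (rfl | rfl) <;> rfl
    rw [← Int.cast_mul, show e * e = 1 from ?_, Int.cast_one]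
    have := sq _ hc2
    have := sq _ hc3
    have := sq _ (S.eN_sign 1 r18)
    have := sq _ (S.eN_sign 2 r18)
    simp only [e]
    grind
  have h2 := S.scale hR hMH hHW h (map_intCast S.O.φ e)
  rwa [← mul_assoc, he, one_mul] at h2

/-- The subfield points are maximal. -/
theorem maximal : (set F hq1 hK).M ≠ (set F hq1 hK).O.G1 ∧ ∀ H : Subgroup (GL chevD4.Idx K),
    (set F hq1 hK).M ≤ H → H ≤ (set F hq1 hK).O.G1 → H = (set F hq1 hK).M ∨ H = (set F hq1 hK).O.G1 := by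
  have hb : πD r14 = r14 ∧ πD ⟨22, by decide⟩ = ⟨22, by decide⟩ ∧ pr chevD4 al r14 = 1 ∧
      pr chevD4 al ⟨22, by decide⟩ = 1 := by decide +kernel
  exact (set F hq1 hK).maximal (tT := tT) (β := ⟨22, by decide⟩) (JL := JL) rad (JL_spec F hq1 hK) gen
    (b := r14) (ε0 := ⟨22, by decide⟩) hb.1 hb.2.1 hb.2.2.1 hb.2.2.2 (funext v_al) (grow F hq1 hK)

end Cfsg.Agent.Lib.SubfieldTwist29.CertD4
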