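import Cfsg.Agent.Lib.SubfieldTwist29.Stab

/-!
Overgroups of the subfield points meeting the radical in rational elements only are rational: stabiliser of
the long root group, long root elements, and the opposition argument.
-/

set_option autoImplicit false
set_option linter.unusedSectionVars false
set_option maxHeartbeats 1000000

namespace Cfsg.Agent.Lib.SubfieldTwist29

open Cfsg.Lie ChevStructure LieTwisted.Twist
open scoped MatrixGroups Matrix

variable {D : ChevalleyDatum}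

namespace Setting

variable {C : Core D} {K : Type*} [Field K] [Finite K] (S : Setting C K)
include S

theorem Θ_al (c : K) : S.O.Θ (C.X K S.al c) = C.X K S.al (S.O.φ c) := by
  rw [S.O.Θ_X, S.cert.π_al, S.cert.ε_fix _ S.cert.π_al, Int.cast_one, one_mul]

theorem Θ_rev (c : K) : S.O.Θ (C.X K S.al.rev c) = C.X K S.al.rev (S.O.φ c) := by
  rw [S.O.Θ_X, S.al_rev_fix, S.cert.ε_fix _ S.al_rev_fix, Int.cast_one, one_mul]

theorem X_inj {r : Rt D} {a b : K} (h : C.X K r a = C.X K r b) : a = b :=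
  sub_eq_zero.1 (C.X_eq_one (r := r) (by rw [sub_eq_add_neg, ← C.X_add, h, C.X_add, add_neg_cancel, C.X_zero]))

/-- A grade preserving element centralising one of the root groups acts trivially on the opposite one. -/
theorem scal_eq_one {l : GL D.Idx K} (hl : l ∈ Gr0 K S.al) {c : K}
    (ha : l * C.X K S.al 1 * l⁻¹ = C.X K S.al 1) (hr : l * C.X K S.al.rev 1 * l⁻¹ = C.X K S.al.rev c) : c = 1 := by
  set top : D.Idx := Sum.inr S.al
  set bot : D.Idx := Sum.inr S.al.rev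
  have hgt : gr S.al top = 2 := gr_e C
  have hgb : gr S.al bot = -2 := by simp [bot, gr, S.pr_rev', S.al_pr]
  have hne : S.al.rev ≠ S.al := C.ne_rev _
  have htop : ∀ z, z ≠ top → (l : Matrix D.Idx D.Idx K) z top = 0 ∧ (l : Matrix D.Idx D.Idx K) top z = 0 :=
    fun z hz => by
      have hz' : gr S.al z ≠ 2 := fun e => hz (gr_two C S.cert.top e)
      exact ⟨hl.1 _ _ (by rw [hgt]; exact hz'), hl.1 _ _ (by rw [hgt]; exact fun e => hz' e.symm)⟩
  have hbot : ∀ z, z ≠ bot → (l : Matrix D.Idx D.Idx K) z bot = 0 := fun z hz => by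
    refine hl.1 _ _ fun e => ?_
    rw [hgb] at e
    rcases z with z | z
    · simp [gr] at e
    · exact hz (by rw [S.cert.top.two z e])
  set a := (l : Matrix D.Idx D.Idx K) top top
  set b := (l : Matrix D.Idx D.Idx K) bot bot
  have ha0 : a ≠ 0 := by
    intro h0
    have h1 : ((l⁻¹ * l : GL D.Idx K) : Matrix D.Idx D.Idx K) top top = 0 := by
      rw [Units.val_mul, Matrix.mul_apply]
      refine Finset.sum_eq_zero fun z _ => ?_
      by_cases hz : z = top
      · subst hz; rw [show (l : Matrix D.Idx D.Idx K) top top = 0 from h0, mul_zero]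
      · rw [(htop z hz).1, mul_zero]
    simp at h1
  have e1 : l * C.X K S.al 1 = C.X K S.al 1 * l := mul_inv_eq_iff_eq_mul.1 ha
  have e2 : l * C.X K S.al.rev 1 = C.X K S.al.rev c * l := mul_inv_eq_iff_eq_mul.1 hr
  have hcol1 : ∀ z : D.Idx, ((C.X K S.al 1 : GL D.Idx K) : Matrix D.Idx D.Idx K) z bot =
      Sum.elim (fun i => (co D S.al i : K)) (fun u => if u = S.al then -1 else if u = S.al.rev then 1 else 0) z := by
    intro z
    rw [C.X_val, xI, Matrix.sum_apply]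
    rcases z with i | u
    · simp [Finset.sum_range_succ, Ek, E, bot]
    · by_cases hu : u = S.al
      · subst hu; simp [Finset.sum_range_succ, Ek, E, bot, Matrix.one_apply, hne.symm]
      · by_cases hur : u = S.al.rev
        · subst hur; simp [Finset.sum_range_succ, Ek, E, bot, hu]
        · simp [Finset.sum_range_succ, Ek, E, bot, Matrix.one_apply, hu, hur]
  have hcol2 : ∀ (x : K) (z : D.Idx), ((C.X K S.al.rev x : GL D.Idx K) : Matrix D.Idx D.Idx K) z top =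
      Sum.elim (fun i => -((co D S.al i : K) * x)) (fun u => if u = S.al.rev then -x ^ 2 else if u = S.al then 1 else 0) z := by
    intro x z
    rw [C.X_val, xI, Matrix.sum_apply]
    rcases z with i | u
    · simp [Finset.sum_range_succ, Ek, E, top, C.rev_rev, C.co_rev]
      ring
    · by_cases hur : u = S.al.rev
      · subst hur; simp [Finset.sum_range_succ, Ek, E, top, C.rev_rev, Matrix.one_apply, hne]
      · by_cases hu : u = S.al
        · subst hu; simp [Finset.sum_range_succ, Ek, E, top, C.rev_rev, hne.symm]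
        · simp [Finset.sum_range_succ, Ek, E, top, C.rev_rev, Matrix.one_apply, hu, hur]
  have hab : a = b := by
    have := congrArg (fun g : GL D.Idx K => (g : Matrix D.Idx D.Idx K) top bot) e1
    rw [Units.val_mul, Units.val_mul, Matrix.mul_apply, Matrix.mul_apply,
      Finset.sum_eq_single top (fun z _ hz => by rw [(htop z hz).2, zero_mul]) (by simp),
      Finset.sum_eq_single bot (fun z _ hz => by rw [hbot z hz, mul_zero]) (by simp), hcol1] at this
    simpa [top, a, b] using this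
  have hj : ∀ j, (co D S.al j : K) * (b - c * a) = 0 := by
    intro j
    have f1 := congrArg (fun g : GL D.Idx K => (g : Matrix D.Idx D.Idx K) (Sum.inl j) bot) e1
    rw [Units.val_mul, Units.val_mul, Matrix.mul_apply, Matrix.mul_apply,
      Finset.sum_eq_single (a := bot) (f := fun z => ((C.X K S.al 1 : GL D.Idx K) : Matrix D.Idx D.Idx K) (Sum.inl j) z *
        (l : Matrix D.Idx D.Idx K) z bot) (fun z _ hz => by rw [hbot z hz, mul_zero]) (by simp),
      hcol1, Fintype.sum_sum_type] at f1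
    have f2 := congrArg (fun g : GL D.Idx K => (g : Matrix D.Idx D.Idx K) (Sum.inl j) top) e2
    rw [Units.val_mul, Units.val_mul, Matrix.mul_apply, Matrix.mul_apply,
      Finset.sum_eq_single (a := top) (f := fun z => ((C.X K S.al.rev c : GL D.Idx K) : Matrix D.Idx D.Idx K) (Sum.inl j) z *
        (l : Matrix D.Idx D.Idx K) z top) (fun z _ hz => by rw [(htop z hz).1, mul_zero]) (by simp),
      hcol2, Fintype.sum_sum_type] at f2
    have z1 : ∀ u : Rt D, (l : Matrix D.Idx D.Idx K) (Sum.inl j) (Sum.inr u) *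
        ((C.X K S.al 1 : GL D.Idx K) : Matrix D.Idx D.Idx K) (Sum.inr u) bot = 0 := by
      intro u
      rw [hcol1]
      by_cases hu : u = S.al
      · subst hu; rw [(htop (Sum.inl j) (by simp [top])).1, zero_mul]
      · by_cases hur : u = S.al.rev
        · subst hur; rw [hbot (Sum.inl j) (by simp [bot]), zero_mul]
        · simp [hu, hur]
    have z2 : ∀ u : Rt D, (l : Matrix D.Idx D.Idx K) (Sum.inl j) (Sum.inr u) *
        ((C.X K S.al.rev 1 : GL D.Idx K) : Matrix D.Idx D.Idx K) (Sum.inr u) top = 0 := by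
      intro u
      rw [hcol2]
      by_cases hu : u = S.al
      · subst hu; rw [(htop (Sum.inl j) (by simp [top])).1, zero_mul]
      · by_cases hur : u = S.al.rev
        · subst hur; rw [hbot (Sum.inl j) (by simp [bot]), zero_mul]
        · simp [hu, hur]
    rw [Finset.sum_eq_zero (fun u _ => z1 u), add_zero] at f1
    rw [Finset.sum_eq_zero (fun u _ => z2 u), add_zero] at f2
    simp only [hcol1, hcol2, Sum.elim_inl, mul_one, mul_neg, Finset.sum_neg_distrib] at f1 f2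
    linear_combination -f1 - f2
  have h0 := C.eq_zero_of_co_mul K (k := S.al) hj
  rw [← hab] at h0
  have h1 : a * (1 - c) = 0 := by linear_combination h0
  exact (sub_eq_zero.1 ((mul_eq_zero.1 h1).resolve_left ha0)).symm

variable {opp : List (Fin D.rank)} (G : Gen C S.O.π S.al opp) {H : Subgroup (GL D.Idx K)}
  (hMH : S.M ≤ H) (hHW : H ≤ S.O.G1) (hHQ : ∀ v ∈ H, v ∈ S.Q → v ∈ S.M)
include G hMH hHW hHQ

/-- An element of the overgroup stabilising the long root group is rational. -/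
theorem stab {h : GL D.Idx K} (hh : h ∈ H) {c1 c2 : K} (h1 : c1 ≠ 0) (hc1 : S.O.φ c1 = c1)
    (e : h * C.X K S.al c1 * h⁻¹ = C.X K S.al c2) : h ∈ S.M := by
  obtain ⟨hhg, hhΘ⟩ := S.mem_G1.1 (hHW hh)
  obtain ⟨q, hq, l, hql, hlg, hl0, hlQ, ⟨c, hc, hcr⟩, -⟩ := S.levi hhg h1 e
  have hqg : q ∈ D.group K := S.Q_le_group hq
  have hlfix : S.O.Θ l = l := by
    set v := (S.O.Θ q)⁻¹ * q
    have hv : v = S.O.Θ l * l⁻¹ := by
      have : S.O.Θ q * S.O.Θ l = q * l := by rw [← map_mul, ← hql, hhΘ]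
      calc v = (S.O.Θ q)⁻¹ * (q * l) * l⁻¹ := by simp only [v]; group
        _ = _ := by rw [← this]; group
    have hvQ : v ∈ S.Q := by
      rcases isEmpty_or_nonempty {s // pr D S.al s = 1} with hE | ⟨⟨s, hs⟩⟩
      · refine mul_mem (inv_mem ?_) hq
        have h2 : ∀ g, g ∈ C.US K (Qs S.al.rev) → S.O.Θ g ∈ C.US K (Qs S.al.rev) := fun g hg =>
          S.O.tw.τ_US (fun r hr => by rw [S.mem_Qs] at hr ⊢; rw [show S.O.tw.π = S.O.π from rfl, S.π_prA]; exact hr) hg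
        exact h2 q hq
      · exact mul_mem (inv_mem (S.kp_Θ hq hs).1) hq
    have h3 : v * C.X K S.al.rev c = C.X K S.al.rev (S.O.φ c) * v := by
      have h4 := congrArg S.O.Θ hcr
      rw [map_mul, map_mul, map_inv, S.Θ_rev, S.Θ_rev, map_one] at h4
      rw [← h4, ← hcr, hv]; group
    have h5 := S.fixQ hvQ hc h3
    rw [hv, mul_inv_eq_one] at h5
    exact h5
  have hlW : l ∈ S.O.G1 := S.mem_G1.2 ⟨hlg, hlfix⟩
  have hc2 : S.O.φ c2 = c2 := by
    have h2 := congrArg S.O.Θ e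
    rw [map_mul, map_mul, map_inv, hhΘ, S.Θ_al, S.Θ_al, hc1, e] at h2
    exact (S.X_inj h2).symm
  have hσX : ∀ x, S.O.φ x = x → S.sF (C.X K S.al x) = C.X K S.al x := fun x hx => by rw [S.sF_X, hx]
  set k := (S.sF h)⁻¹ * h with hk
  have hkW : k ∈ S.O.G1 := mul_mem (inv_mem (S.sF_mem_G1 (hHW hh))) (hHW hh)
  have hke : k * C.X K S.al c1 * k⁻¹ = C.X K S.al c1 := by
    have h2 := congrArg S.sF e
    rw [map_mul, map_mul, map_inv, hσX c1 hc1, hσX c2 hc2] at h2
    calc k * C.X K S.al c1 * k⁻¹ = (S.sF h)⁻¹ * (h * C.X K S.al c1 * h⁻¹) * S.sF h := by rw [hk]; group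
      _ = _ := by rw [e, ← h2]; group
  obtain ⟨q', hq', l', hql', hlg', hl0', hlQ', ⟨c', hc', hcr'⟩, ⟨f, hf, hfl⟩⟩ := S.levi (S.mem_G1.1 hkW).1 h1 hke
  have hf1 : f = 1 := by
    have h2 : l' * C.X K S.al c1 * l'⁻¹ = C.X K S.al c1 := by
      have h3 := S.commute_posUS (S.Q_le_pos hq') c1
      calc l' * C.X K S.al c1 * l'⁻¹ = q'⁻¹ * (k * C.X K S.al c1 * k⁻¹) * q' := by rw [hql']; group
        _ = _ := by rw [hke, mul_assoc, ← h3.eq, inv_mul_cancel_left]
    rw [hfl] at h2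
    exact (mul_eq_right₀ h1).1 (S.X_inj h2)
  subst hf1
  have hcA : ∀ t, l' * C.X K S.al t * l'⁻¹ = C.X K S.al t := fun t => by rw [hfl, one_mul]
  have hc1' : c' = 1 := S.scal_eq_one hl0' (hcA 1) hcr'
  have hx : ∀ x ∈ S.M, x ∈ S.Q → ∃ d, l' * x * l'⁻¹ = x * C.X K S.al d := by
    intro x hxM hxQ
    have h2 : h * x * h⁻¹ ∈ S.Q := by
      rw [hql, show q * l * x * (q * l)⁻¹ = q * (l * x * l⁻¹) * q⁻¹ by group]
      exact mul_mem (mul_mem hq (hlQ x hxQ)) (inv_mem hq)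
    have h3 := (S.mem_M.1 (hHQ _ (mul_mem (mul_mem hh (hMH hxM)) (inv_mem hh)) h2)).2
    rw [map_mul, map_mul, map_inv, (S.mem_M.1 hxM).2] at h3
    have h4 : k * x * k⁻¹ = x := by
      calc k * x * k⁻¹ = (S.sF h)⁻¹ * (h * x * h⁻¹) * S.sF h := by rw [hk]; group
        _ = _ := by rw [← h3]; group
    have h5 : l' * x * l'⁻¹ = q'⁻¹ * x * q' := by
      calc l' * x * l'⁻¹ = q'⁻¹ * (k * x * k⁻¹) * q' := by rw [hql']; group
        _ = _ := by rw [h4]
    set w := x⁻¹ * (q'⁻¹ * x * q')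
    have hwQ : w ∈ S.Q := mul_mem (inv_mem hxQ) (mul_mem (mul_mem (inv_mem hq') hxQ) hq')
    obtain ⟨d, hd⟩ := S.exists_X hwQ fun s hs => by
      rw [S.kp_mul (inv_mem hxQ) (mul_mem (mul_mem (inv_mem hq') hxQ) hq') hs,
        S.kp_mul (mul_mem (inv_mem hq') hxQ) hq' hs, S.kp_mul (inv_mem hq') hxQ hs, S.kp_inv hxQ hs, S.kp_inv hq' hs]
      ring
    exact ⟨d, by rw [h5, ← hd]; simp only [w]; group⟩
  have hLev : S.Lev l' := ⟨hlg', hl0', hlQ', hcA, by rw [hcr', hc1'], hx⟩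
  have hl1 := hLev.eq_one G
  rw [hl1, mul_one] at hql'
  set v := S.sF l * l⁻¹
  have hvQ : v ∈ S.Q := by
    have h2 : v = (S.sF q)⁻¹ * q * (l * q' * l⁻¹)⁻¹ := by
      have h3 : h = S.sF h * q' := by rw [← hql', hk]; group
      rw [hql, map_mul] at h3
      have h4 : S.sF l = (S.sF q)⁻¹ * (q * l) * q'⁻¹ := by rw [h3]; group
      simp only [v]; rw [h4]; group
    rw [h2]
    refine mul_mem (mul_mem (inv_mem ?_) hq) (inv_mem (hlQ _ hq'))
    exact ChevFixed.Basic.map_mem_US _ hq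
  have h6 : v * C.X K S.al.rev c = C.X K S.al.rev (S.O.φ c) * v := by
    have h4 := congrArg S.sF hcr
    rw [map_mul, map_mul, map_inv, S.sF_X, S.sF_X, map_one] at h4
    rw [← h4, ← hcr]; simp only [v]; group
  have h7 := S.fixQ hvQ hc h6
  rw [mul_inv_eq_one] at h7
  have hlM : l ∈ S.M := S.mem_M.2 ⟨hlW, h7⟩
  have hqH : q ∈ H := by
    have h8 : q = h * l⁻¹ := by rw [hql, mul_inv_cancel_right]
    rw [h8]; exact mul_mem hh (inv_mem (hMH hlM))
  rw [hql]
  exact mul_mem (hHQ q hqH hq) hlM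

omit G hMH hHW hHQ in
/-- A representative of an element of the twisted Weyl group among the rational elements. -/
theorem exists_repM {σ : Equiv.Perm (Rt D)} (hσ : σ ∈ S.O.tw.WT) :
    ∃ n ∈ S.M, n ∈ D.monomialSubgroup K ∧ C.Acts n σ := by
  refine S.O.tw.WT_induction (fun σ => ∃ n ∈ S.M, n ∈ D.monomialSubgroup K ∧ C.Acts n σ)
    ⟨1, one_mem _, one_mem _, fun r => ⟨1, fun t => by simp⟩⟩ ?_ σ hσ
  rintro σ - i - ⟨n, hn, hnm, hna⟩
  have hO : S.O.tw.nO (S.O.tw.idx i) ∈ S.M :=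
    S.mem_M.2 ⟨S.O.tw.nO_mem _, ChevFixed.Basic.map_wprod (C := C) _ _⟩
  refine ⟨n * S.O.tw.nO (S.O.tw.idx i), mul_mem hn hO, mul_mem hnm (S.O.tw.nO_mono _), ?_⟩
  have := C.acts_mul K hna (S.O.tw.nO_acts (S.O.tw.idx i))
  rwa [mul_assoc, show S.O.tw.wO (S.O.tw.idx i) * C.pprod (S.O.tw.J (S.O.tw.idx i)) = 1 from S.O.tw.J_inv _,
    mul_one] at this

omit G hMH hHW hHQ in
/-- The conjugates of the long root elements. -/
theorem conj_form {g : GL D.Idx K} (hg : g ∈ S.O.G1) {c : K} (hc : c ≠ 0) (hcf : S.O.φ c = c) :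
    ∃ u ∈ C.US K C.Pos, ∃ n ∈ S.M, ∃ γ : Rt D, ∃ t : K, S.O.Θ u = u ∧ t ≠ 0 ∧ S.O.φ t = t ∧ S.O.π γ = γ ∧
      (∃ σ : Equiv.Perm (Rt D), C.Acts n σ ∧ σ γ = S.al ∧ ∀ r, pr D S.al (σ r) = pr D γ r) ∧
      g * C.X K S.al c * g⁻¹ = u * C.X K γ t * u⁻¹ := by
  obtain ⟨hgg, hgΘ⟩ := S.mem_G1.1 hg
  obtain ⟨σ, hσ, h⟩ := S.O.tw.exists_nf (inv_mem hgg) (show S.O.Θ g⁻¹ = g⁻¹ by rw [map_inv, hgΘ])
  obtain ⟨n, hn, hnm, hna⟩ := S.exists_repM hσ
  obtain ⟨b, hb, hbf, u, hu, huf, e⟩ := h n (S.mem_M.1 hn).1 hnm hna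
  obtain ⟨v, hv, k, hk, rfl⟩ := C.mem_borel_iff.1 hb
  obtain ⟨cT, hcT⟩ := C.mem_diagonal_iff.1 (inv_mem hk)
  set γ := σ⁻¹ S.al with hγ
  have hσWG := (S.O.tw.mem_WT.1 hσ).1
  have hπγ : S.O.π γ = γ := by
    have h1 := (S.O.tw.mem_WT.1 (inv_mem hσ)).2
    have h2 := Equiv.Perm.congr_fun h1 S.al
    simp only [Equiv.Perm.mul_apply] at h2
    rw [show S.O.tw.π = S.O.π from rfl, S.cert.π_al] at h2
    exact h2
  have hσγ : σ γ = S.al := by rw [hγ, ← Equiv.Perm.mul_apply, mul_inv_cancel, Equiv.Perm.one_apply]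
  obtain ⟨e', he'⟩ := C.acts_inv K hna S.al
  have hgi : g = u⁻¹ * n⁻¹ * (v * k)⁻¹ := by rw [← inv_inv g, e]; group
  set t := (e' : K) * ((C.chA cT S.al : K) * c) with ht
  have hform : g * C.X K S.al c * g⁻¹ = u⁻¹ * C.X K γ t * u⁻¹⁻¹ := by
    have h1 : v⁻¹ * C.X K S.al c * v = C.X K S.al c := by
      rw [mul_assoc, ← (S.commute_posUS hv c).eq, inv_mul_cancel_left]
    have h2 : k⁻¹ * C.X K S.al c * k = C.X K S.al ((C.chA cT S.al : K) * c) := by
      rw [← C.HT_X_conj, ← hcT, inv_inv]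
    calc g * C.X K S.al c * g⁻¹ = u⁻¹ * (n⁻¹ * (k⁻¹ * (v⁻¹ * C.X K S.al c * v) * k) * n⁻¹⁻¹) * u⁻¹⁻¹ := by
          rw [hgi]; group
      _ = _ := by rw [h1, h2, he']
  have htf : S.O.φ t = t := by
    have h1 := congrArg S.O.Θ hform
    have huf' : S.O.Θ u⁻¹ = u⁻¹ := by rw [map_inv]; exact congrArg _ huf
    rw [map_mul, map_mul, map_inv, hgΘ, S.Θ_al, hcf, hform] at h1
    rw [map_mul, map_mul, map_inv S.O.Θ u⁻¹, huf', S.O.Θ_X, hπγ, S.cert.ε_fix γ hπγ, Int.cast_one, one_mul] at h1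
    exact (S.X_inj (mul_left_cancel (mul_right_cancel h1))).symm
  refine ⟨u⁻¹, inv_mem (C.US_mono K (fun r hr => hr.1) hu), n, hn, γ, t, by rw [map_inv]; exact congrArg _ huf,
    mul_ne_zero (Units.ne_zero _) (mul_ne_zero (Units.ne_zero _) hc), htf, hπγ, ⟨σ, hna, hσγ, fun r => ?_⟩, hform⟩
  rw [← hσγ, pr_WG C hσWG]

omit G hMH hHW hHQ in
/-- Rational long root elements are rationally conjugate into the long root group. -/
theorem rat_long {g : GL D.Idx K} (hg : g ∈ S.O.G1) {c : K} (hc : c ≠ 0) (hcf : S.O.φ c = c)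
    (hz : S.sF (g * C.X K S.al c * g⁻¹) = g * C.X K S.al c * g⁻¹) :
    ∃ m ∈ S.M, ∃ c' : K, c' ≠ 0 ∧ S.O.φ c' = c' ∧ g * C.X K S.al c * g⁻¹ = m * C.X K S.al c' * m⁻¹ := by
  obtain ⟨u, hu, n, hn, γ, t, huf, ht, htf, hπγ, ⟨σ, hna, hσγ, hσpr⟩, hform⟩ := S.conj_form hg hc hcf
  obtain ⟨a, ha, b, hb, hab⟩ := ChevFixed.Basic.exists_split S.O.comm (A := {r | r ∈ C.Pos ∧ pr D γ r ≤ -1})
    (B := {r | r ∈ C.Pos ∧ 0 ≤ pr D γ r}) (fun r hr => hr.1)
    (fun r hr => (le_or_gt 0 (pr D γ r)).elim (fun h => Or.inr ⟨hr, h⟩) fun h => Or.inl ⟨hr, by omega⟩) hu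
  have hbc : Commute b (C.X K γ t) := by
    clear hab
    induction hb using Subgroup.closure_induction with
    | mem x hx =>
      obtain ⟨r, ⟨-, hr⟩, s, rfl⟩ := hx
      show _ * _ = _ * _
      by_cases h : r = γ
      · subst h; rw [C.X_add, C.X_add, add_comm]
      have h2 : r ≠ γ.rev := fun e' => by rw [e', S.pr_rev', C.pr_self] at hr; omega
      have := S.O.comm.comm_X γ r h h2 t s
      rw [S.cert.comm0 _ _ h h2 hr] at this
      simpa using this
    | one => exact Commute.one_left _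
    | mul x y _ _ hx hy => exact hx.mul_left hy
    | inv x _ hx => exact hx.inv_left
  have hz' : g * C.X K S.al c * g⁻¹ = a * C.X K γ t * a⁻¹ := by
    rw [hform, hab, show a * b * C.X K γ t * (a * b)⁻¹ = a * (b * C.X K γ t * b⁻¹) * a⁻¹ by group, hbc.eq,
      mul_inv_cancel_right]
  obtain ⟨e', he'⟩ := hna γ
  rw [hσγ] at he'
  have key : ∀ w ∈ C.US K {r | r ∈ C.Pos ∧ pr D γ r ≤ -1}, w * C.X K γ t * w⁻¹ = C.X K γ t → w = 1 := by
    intro w hw hwc
    have h1 : n * w * n⁻¹ ∈ C.US K (Qs S.al) :=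
      C.conj_mem_US K hna (fun r hr => by show pr D S.al (σ r) ≤ -1; rw [hσpr]; exact hr.2) hw
    have h2 := S.fixT h1 (t := (e' : K) * t) (t' := (e' : K) * t) (mul_ne_zero (Units.ne_zero _) ht) (by
      rw [← he']
      conv_rhs => rw [← hwc]
      group)
    rwa [conj_eq_one_iff] at h2
  have hgΘ := (S.mem_G1.1 hg).2
  have hpi : ∀ r, r ∈ C.Pos ∧ pr D γ r ≤ -1 → S.O.π r ∈ C.Pos ∧ pr D γ (S.O.π r) ≤ -1 := fun r hr =>
    ⟨S.O.π_pos r hr.1, by
      have := S.cert.π_pr γ r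
      rw [hπγ] at this
      rw [this]; exact hr.2⟩
  have haP : a ∈ C.US K C.Pos := C.US_mono K (fun r hr => hr.1) ha
  have haΘ : S.O.Θ a = a := by
    have h1 := S.O.tw.τ_US (S' := {r | r ∈ C.Pos ∧ pr D γ r ≤ -1}) hpi ha
    have h2 := congrArg S.O.Θ hz'
    rw [map_mul, map_mul, map_inv, hgΘ, S.Θ_al, hcf, hz', map_mul, map_mul, map_inv, S.O.Θ_X, hπγ,
      S.cert.ε_fix γ hπγ, Int.cast_one, one_mul, htf] at h2
    have h3 := key (a⁻¹ * S.O.Θ a) (mul_mem (inv_mem ha) h1) (by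
      calc a⁻¹ * S.O.Θ a * C.X K γ t * (a⁻¹ * S.O.Θ a)⁻¹ = a⁻¹ * (S.O.Θ a * C.X K γ t * (S.O.Θ a)⁻¹) * a := by group
        _ = _ := by rw [← h2]; group)
    exact (inv_mul_eq_one.1 h3).symm
  have haM : a ∈ S.M := by
    refine S.mem_M.2 ⟨S.mem_G1.2 ⟨C.US_le_group _ ha, haΘ⟩, ?_⟩
    have h2 := hz
    rw [hz', map_mul, map_mul, map_inv, S.sF_X, htf] at h2
    have h3 := key (a⁻¹ * S.sF a) (mul_mem (inv_mem ha) (ChevFixed.Basic.map_mem_US _ ha)) (by
      calc a⁻¹ * S.sF a * C.X K γ t * (a⁻¹ * S.sF a)⁻¹ = a⁻¹ * (S.sF a * C.X K γ t * (S.sF a)⁻¹) * a := by group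
        _ = _ := by rw [h2]; group)
    exact (inv_mul_eq_one.1 h3).symm
  refine ⟨a * n⁻¹, mul_mem haM (inv_mem hn), (e' : K) * t, mul_ne_zero (Units.ne_zero _) ht, ?_, ?_⟩
  · have h1 := congrArg S.sF (he' t)
    rw [map_mul, map_mul, map_inv, (S.mem_M.1 hn).2, S.sF_X, htf, he', S.sF_X] at h1
    exact (S.X_inj h1).symm
  · rw [hz', ← he']; group

/-- Centralisers of rational long root elements in the overgroup are rational. -/
theorem cent {h g : GL D.Idx K} (hh : h ∈ H) (hg : g ∈ S.O.G1) {c : K} (hc : c ≠ 0) (hcf : S.O.φ c = c)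
    (hz : S.sF (g * C.X K S.al c * g⁻¹) = g * C.X K S.al c * g⁻¹)
    (hcomm : h * (g * C.X K S.al c * g⁻¹) * h⁻¹ = g * C.X K S.al c * g⁻¹) : h ∈ S.M := by
  obtain ⟨m, hm, c', hc', hcf', e⟩ := S.rat_long hg hc hcf hz
  have h1 : m⁻¹ * h * m ∈ S.M := S.stab G hMH hHW hHQ (mul_mem (mul_mem (inv_mem (hMH hm)) hh) (hMH hm))
    (c2 := c') hc' hcf' (by
      calc m⁻¹ * h * m * C.X K S.al c' * (m⁻¹ * h * m)⁻¹ = m⁻¹ * (h * (m * C.X K S.al c' * m⁻¹) * h⁻¹) * m := by group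
        _ = _ := by rw [← e, hcomm, e]; group)
  have h2 : h = m * (m⁻¹ * h * m) * m⁻¹ := by group
  rw [h2]
  exact mul_mem (mul_mem hm h1) (inv_mem hm)

/-- An element moving the long root element to a rational one is rational. -/
theorem of_rat {h : GL D.Idx K} (hh : h ∈ H) (hy : h * C.X K S.al 1 * h⁻¹ ∈ S.M) : h ∈ S.M := by
  obtain ⟨m, hm, c', hc', hcf', e⟩ := S.rat_long (hHW hh) one_ne_zero (map_one _) (S.mem_M.1 hy).2
  have h1 := S.stab G hMH hHW hHQ (mul_mem (inv_mem (hMH hm)) hh) (c2 := c') one_ne_zero (map_one _) (by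
    calc m⁻¹ * h * C.X K S.al 1 * (m⁻¹ * h)⁻¹ = m⁻¹ * (h * C.X K S.al 1 * h⁻¹) * m := by group
      _ = _ := by rw [e]; group)
  have h2 : h = m * (m⁻¹ * h) := by group
  rw [h2]
  exact mul_mem hm h1

/-- The overgroup is the group of rational points. -/
theorem le_M {β ε0 : Rt D} (hβ : S.O.π β = β) (hε : S.O.π ε0 = ε0) (hβ1 : pr D S.al β = 1)
    (hε1 : pr D S.al ε0 = 1) (hsum : C.v S.al = C.v β + C.v ε0) : H ≤ S.M := by
  intro h hh
  have hx0 : C.X K S.al 1 ∈ S.M := S.X_mem S.cert.π_al (map_one _)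
  have hone : (1 : GL D.Idx K) * C.X K S.al 1 * 1⁻¹ = C.X K S.al 1 := by group
  have centx : ∀ {y}, y ∈ H → Commute y (C.X K S.al 1) → y ∈ S.M := fun {y} hy hyc =>
    S.cent G hMH hHW hHQ hy (one_mem _) one_ne_zero (map_one _) (by rw [hone]; exact (S.mem_M.1 hx0).2)
      (by rw [hone, hyc.eq, mul_inv_cancel_right])
  obtain ⟨u, hu, n, hn, γ, t, huf, ht, htf, hπγ, ⟨σ, hna, hσγ, hσpr⟩, hform⟩ :=
    S.conj_form (hHW hh) one_ne_zero (map_one _)
  set y := h * C.X K S.al 1 * h⁻¹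
  have hyH : y ∈ H := mul_mem (mul_mem hh (hMH hx0)) (inv_mem hh)
  have huW : u ∈ S.O.G1 := S.mem_G1.2 ⟨C.US_le_group _ hu, huf⟩
  -- a root element of a root in the orbit of γ as a conjugate of a long root element
  have long : ∀ {g : GL D.Idx K}, g ∈ S.O.G1 → ∀ d : K, d ≠ 0 → S.O.Θ (g * C.X K γ d * g⁻¹) = g * C.X K γ d * g⁻¹ →
      ∃ g' ∈ S.O.G1, ∃ d' : K, d' ≠ 0 ∧ S.O.φ d' = d' ∧ g * C.X K γ d * g⁻¹ = g' * C.X K S.al d' * g'⁻¹ := by
    intro g hg d hd hfix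
    obtain ⟨e, he⟩ := hna γ
    rw [hσγ] at he
    have heq : g * C.X K γ d * g⁻¹ = g * n⁻¹ * C.X K S.al ((e : K) * d) * (g * n⁻¹)⁻¹ := by rw [← he]; group
    refine ⟨g * n⁻¹, mul_mem hg (inv_mem (S.mem_M.1 hn).1), (e : K) * d, mul_ne_zero (Units.ne_zero _) hd, ?_, heq⟩
    rw [heq, map_mul, map_mul, map_inv, (S.mem_G1.1 (mul_mem hg (inv_mem (S.mem_M.1 hn).1))).2, S.Θ_al] at hfix
    exact S.X_inj (mul_left_cancel (mul_right_cancel hfix))
  rcases le_or_gt 0 (pr D S.al γ) with hγ0 | hγ0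
  · refine S.of_rat G hMH hHW hHQ hh (centx hyH ?_)
    have h1 : Commute (C.X K γ t) (C.X K S.al 1) := by
      show _ * _ = _ * _
      by_cases hh' : γ = S.al
      · subst hh'; rw [C.X_add, C.X_add, add_comm]
      have h2 : γ ≠ S.al.rev := fun e => by rw [e, S.pr_rev', S.al_pr] at hγ0; omega
      have := S.O.comm.comm_X S.al γ hh' h2 1 t
      rw [S.cert.comm0 _ _ hh' h2 hγ0] at this
      simpa using this
    have h3 := S.commute_posUS hu (1 : K)
    show Commute y _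
    rw [hform]
    exact (h3.mul_left h1).mul_left h3.inv_left
  by_cases hγ1 : pr D S.al γ = -1
  · refine S.of_rat G hMH hHW hHQ hh ?_
    obtain ⟨w, c0, hc0, hvw, hconj⟩ := S.conj_one (K := K) (a := S.al) (s := γ) hγ1
    have h3 := S.commute_posUS hu (1 : K)
    set z := u * C.X K w (c0 * 1 * t) * u⁻¹
    have hz : z = y⁻¹ * (C.X K S.al 1 * y * (C.X K S.al 1)⁻¹) := by
      have h4 : C.X K S.al 1 * y * (C.X K S.al 1)⁻¹ = u * (C.X K S.al 1 * C.X K γ t * (C.X K S.al 1)⁻¹) * u⁻¹ := by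
        rw [show y = u * C.X K γ t * u⁻¹ from hform]
        calc C.X K S.al 1 * (u * C.X K γ t * u⁻¹) * (C.X K S.al 1)⁻¹
            = (C.X K S.al 1 * u) * C.X K γ t * (C.X K S.al 1 * u)⁻¹ := by group
          _ = _ := by rw [← h3.eq]; group
      rw [h4, hconj, show y = u * C.X K γ t * u⁻¹ from hform]
      simp only [z]; group
    have hzH : z ∈ H := by
      rw [hz]; exact mul_mem (inv_mem hyH) (mul_mem (mul_mem (hMH hx0) hyH) (inv_mem (hMH hx0)))
    have hzv : C.v w = (1 : ℤ) • C.v S.al + (1 : ℤ) • C.v γ := by rw [hvw]; module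
    have hw1 : pr D S.al w = 1 := by rw [pr_lin C hzv, S.al_pr, hγ1]; norm_num
    have hzc : Commute z (C.X K S.al 1) := by
      have h5 : Commute (C.X K w (c0 * 1 * t)) (C.X K S.al 1) :=
        S.commute_pos (S.Qs_pos (S.mem_Qs.2 hw1.ge)) _ 1
      exact (h3.mul_left h5).mul_left h3.inv_left
    have hzM := centx hzH hzc
    have hc0' : (c0 : K) * 1 * t ≠ 0 := by rcases hc0 with e | e <;> simp [e, ht]
    obtain ⟨s, hvs, -, -, cc, hcc, hcconj⟩ := S.nA_root γ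
    have hsw : s = w := C.v_inj (by rw [hvs, hγ1, hvw]; module)
    subst hsw
    have hze : z = (u * S.nA) * C.X K γ (cc⁻¹ * (c0 * 1 * t)) * (u * S.nA)⁻¹ := by
      have := hcconj (cc⁻¹ * (c0 * 1 * t))
      rw [mul_inv_cancel_left₀ hcc] at this
      simp only [z]; rw [← this]; group
    obtain ⟨g', hg', d', hd', hdf', heq⟩ := long (mul_mem huW (S.mem_M.1 S.nA_mem).1) _
      (mul_ne_zero (inv_ne_zero hcc) hc0') (by rw [← hze]; exact S.fix_Θ hzM)
    refine S.cent G hMH hHW hHQ hyH hg' hd' hdf' (by rw [← heq, ← hze]; exact (S.mem_M.1 hzM).2) ?_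
    rw [← heq, ← hze]
    have h6 : Commute (C.X K γ t) (C.X K s (c0 * 1 * t)) := by
      show _ * _ = _ * _
      have e1 : s ≠ γ := fun e => by rw [e, hγ1] at hw1; omega
      have e2 : s ≠ γ.rev := fun e => by
        have h8 := pr_lin C hzv γ
        rw [e, S.pr_rev', C.pr_self, S.cert.symm γ S.al, hγ1] at h8
        omega
      have h8 := pr_lin C hzv γ
      rw [C.pr_self, S.cert.symm γ S.al, hγ1] at h8
      have := S.O.comm.comm_X γ s e1 e2 t (c0 * 1 * t)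
      rw [S.cert.comm0 _ _ e1 e2 (by rw [h8]; norm_num)] at this
      simpa using this.symm
    have h9 : y * z = z * y := by
      rw [show y = u * C.X K γ t * u⁻¹ from hform]
      simp only [z]
      calc u * C.X K γ t * u⁻¹ * (u * C.X K s (c0 * 1 * t) * u⁻¹) = u * (C.X K γ t * C.X K s (c0 * 1 * t)) * u⁻¹ := by group
        _ = _ := by rw [h6.eq]; group
    rw [h9, mul_inv_cancel_right]
  -- the opposite case
  have hγr : γ = S.al.rev := S.cert.top.two γ (by have := (S.cert.top.bd γ).1; omega)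
  subst hγr
  obtain ⟨q, hq, v0, hv0, huv⟩ := ChevFixed.Basic.exists_split S.O.comm (A := Qs S.al.rev)
    (B := {r | pr D S.al r = 0}) S.Qs_pos (fun r hr => by
      rcases (S.cert.nonneg r hr).eq_or_lt with h | h
      · exact Or.inr h.symm
      · exact Or.inl (S.mem_Qs.2 h)) hu
  have hy : y = q * C.X K S.al.rev t * q⁻¹ := by
    rw [show y = u * C.X K S.al.rev t * u⁻¹ from hform, huv,
      show q * v0 * C.X K S.al.rev t * (q * v0)⁻¹ = q * (v0 * C.X K S.al.rev t * v0⁻¹) * q⁻¹ by group,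
      (S.commute_zero hv0 t).eq, mul_inv_cancel_right]
  have hyW := hHW hyH
  have hqf : S.O.Θ q = q := by
    have h1 : S.O.Θ q ∈ S.Q := (S.kp_Θ hq hε1).1
    have h2 := (S.mem_G1.1 hyW).2
    rw [hy, map_mul, map_mul, map_inv, S.Θ_rev, htf] at h2
    have h3 := S.fixQ (mul_mem (inv_mem hq) h1) ht (t' := t) (by
      calc q⁻¹ * S.O.Θ q * C.X K S.al.rev t = q⁻¹ * (S.O.Θ q * C.X K S.al.rev t * (S.O.Θ q)⁻¹) * S.O.Θ q := by group
        _ = _ := by rw [h2]; group)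
    exact (inv_mul_eq_one.1 h3).symm
  set s := S.kp ε0 q
  have hsf : S.O.φ s = s := S.kp_good hq hqf hε1 hε
  have hm : C.X K ε0 (-s) ∈ S.M := S.X_mem hε (by rw [map_neg, hsf])
  set q1 := C.X K ε0 (-s) * q
  have hq1 : q1 ∈ S.Q := mul_mem (C.X_mem_US K (S.mem_Qs.2 hε1.ge) _) hq
  have hk1 : S.kp ε0 q1 = 0 := by
    rw [S.kp_mul (C.X_mem_US K (S.mem_Qs.2 hε1.ge) _) hq hε1, S.kp_X (S.mem_Qs.2 hε1.ge) hε1, if_pos rfl,
      neg_add_cancel]
  set h' := C.X K ε0 (-s) * h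
  have hh' : h' ∈ H := mul_mem (hMH hm) hh
  suffices h' ∈ S.M by
    have e : h = (C.X K ε0 (-s))⁻¹ * h' := by simp only [h']; group
    rw [e]; exact mul_mem (inv_mem hm) this
  refine S.of_rat G hMH hHW hHQ hh' ?_
  have hy' : h' * C.X K S.al 1 * h'⁻¹ = q1 * C.X K S.al.rev t * q1⁻¹ := by
    calc h' * C.X K S.al 1 * h'⁻¹ = C.X K ε0 (-s) * y * (C.X K ε0 (-s))⁻¹ := by simp only [h', y]; group
      _ = _ := by rw [hy]; simp only [q1]; group
  set y1 := h' * C.X K S.al 1 * h'⁻¹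
  have hy1H : y1 ∈ H := mul_mem (mul_mem hh' (hMH hx0)) (inv_mem hh')
  have hsum' : C.v S.al = (1 : ℤ) • C.v β + (1 : ℤ) • C.v ε0 := by rw [hsum]; module
  have hβε : pr D β ε0 = -1 := by
    have h1 := pr_lin C hsum' β
    rw [S.cert.symm β S.al, hβ1, C.pr_self] at h1
    omega
  have hεβ : pr D ε0 β = -1 := by rw [S.cert.symm]; exact hβε
  have hβM : C.X K β 1 ∈ S.M := S.X_mem hβ (map_one _)
  -- q1 centralises x_β(1)
  obtain ⟨wa, ca, hca, hva, hconja⟩ := S.conj_one (K := K) (a := β) (s := ε0) hβε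
  have hwaal : wa = S.al := C.v_inj (by rw [hva, hsum])
  subst hwaal
  have hcomβ : ∀ v ∈ S.Q, C.X K β 1 * v * (C.X K β 1)⁻¹ = v * C.X K S.al ((ca : K) * S.kp ε0 v) := by
    intro v hv
    induction hv using Subgroup.closure_induction with
    | mem x hx =>
      obtain ⟨r, hr, d, rfl⟩ := hx
      rw [S.kp_X hr hε1]
      split_ifs with hrε
      · subst hrε; rw [hconja, mul_one]
      · rw [mul_zero, C.X_zero, mul_one]
        by_cases hrβ : r = β
        · subst hrβ; rw [C.X_add, C.X_inv, C.X_add]; congr 1; ring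
        have hr' := S.mem_Qs.1 hr
        have hrβ' : r ≠ β.rev := fun e => by rw [e, S.pr_rev', hβ1] at hr'; omega
        have h0 : 0 ≤ pr D β r := by
          by_contra hn
          have h2 : pr D β r = -1 := by
            by_contra hne
            exact hrβ' (S.cert.small β r (by omega))
          obtain ⟨w', c', -, hv', -⟩ := S.conj_one (K := K) (a := β) (s := r) h2
          have h3 := pr_lin C (show C.v w' = (1 : ℤ) • C.v β + (1 : ℤ) • C.v r by rw [hv']; module) S.al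
          rw [hβ1] at h3
          have h4 : w' = S.al := by
            have h5 := (S.cert.top.bd w').2
            exact Sum.inr_injective (gr_two C S.cert.top (x := Sum.inr w') (show pr D S.al w' = 2 by omega))
          rw [h4, hsum] at hv'
          exact hrε (C.v_inj (add_left_cancel hv').symm)
        have := S.O.comm.comm_X β r hrβ hrβ' 1 d
        rw [S.cert.comm0 _ _ hrβ hrβ' h0] at this
        simp only [List.map_nil, List.prod_nil, mul_one] at this
        rw [← this, mul_inv_cancel_right]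
    | one => rw [S.kp_one hε1]; simp [C.X_zero]
    | mul x y hx hy ihx ihy =>
      rw [S.kp_mul hx hy hε1, mul_add, ← C.X_add,
        show C.X K β 1 * (x * y) * (C.X K β 1)⁻¹ = (C.X K β 1 * x * (C.X K β 1)⁻¹) * (C.X K β 1 * y * (C.X K β 1)⁻¹) by group,
        ihx, ihy]
      have hc := S.commute_posUS (S.Q_le_pos hy) ((ca : K) * S.kp ε0 x)
      rw [mul_assoc x, ← mul_assoc (C.X K S.al _) y, ← hc.eq]
      simp only [mul_assoc]
    | inv x hx ih =>
      rw [S.kp_inv hx hε1, mul_neg, ← C.X_inv,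
        show C.X K β 1 * x⁻¹ * (C.X K β 1)⁻¹ = (C.X K β 1 * x * (C.X K β 1)⁻¹)⁻¹ by group, ih, mul_inv_rev]
      exact ((S.commute_posUS (S.Q_le_pos hx) _).inv_inv).eq.symm
  have hqβ : Commute q1 (C.X K β 1) := by
    have := hcomβ q1 hq1
    rw [hk1, mul_zero, C.X_zero, mul_one] at this
    show _ * _ = _ * _
    conv_lhs => rw [← this]
    group
  have hβr : pr D β S.al.rev = -1 := by rw [S.pr_rev', S.cert.symm, hβ1]
  obtain ⟨w, c0, hc0, hvw, hconj⟩ := S.conj_one (K := K) (a := β) (s := S.al.rev) hβr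
  set z := q1 * C.X K w (c0 * 1 * t) * q1⁻¹
  have hz : z = y1⁻¹ * (C.X K β 1 * y1 * (C.X K β 1)⁻¹) := by
    have h4 : C.X K β 1 * y1 * (C.X K β 1)⁻¹ = q1 * (C.X K β 1 * C.X K S.al.rev t * (C.X K β 1)⁻¹) * q1⁻¹ := by
      rw [hy']
      calc C.X K β 1 * (q1 * C.X K S.al.rev t * q1⁻¹) * (C.X K β 1)⁻¹
          = (C.X K β 1 * q1) * C.X K S.al.rev t * (C.X K β 1 * q1)⁻¹ := by group
        _ = _ := by rw [← hqβ.eq]; group
    rw [h4, hconj, hy']
    simp only [z]; group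
  have hzH : z ∈ H := by
    rw [hz]; exact mul_mem (inv_mem hy1H) (mul_mem (mul_mem (hMH hβM) hy1H) (inv_mem (hMH hβM)))
  have hzv : C.v w = (1 : ℤ) • C.v β + (1 : ℤ) • C.v S.al.rev := by rw [hvw]; module
  -- x_β(1) is a rational long root element
  have hεM : C.nR K ε0 1 ∈ S.M := by
    unfold Core.nR
    have hεr : S.O.π ε0.rev = ε0.rev := by rw [S.O.π_rev, hε]
    exact mul_mem (mul_mem (S.X_mem hε (by simp)) (S.X_mem hεr (by simp))) (S.X_mem hε (by simp))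
  obtain ⟨sb, hvsb, cb, hcb, hcbconj⟩ := nR_conj C K ε0 1 S.al
  have hsb : sb = β := C.v_inj (by
    rw [hvsb, S.cert.symm ε0 S.al, hε1, hsum]; module)
  subst hsb
  have hcbf : S.O.φ cb = cb := by
    have h1 := congrArg S.sF (hcbconj 1)
    rw [map_mul, map_mul, map_inv, (S.mem_M.1 hεM).2, (S.mem_M.1 hx0).2, hcbconj, S.sF_X, mul_one] at h1
    exact (S.X_inj h1).symm
  have hβe : C.X K sb 1 = C.nR K ε0 1 * C.X K S.al cb⁻¹ * (C.nR K ε0 1)⁻¹ := by
    rw [hcbconj, mul_inv_cancel₀ hcb]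
  have hcomm : ∀ {r : Rt D}, 0 ≤ pr D r w → ∀ a b : K, Commute (C.X K r a) (C.X K w b) := by
    intro r hr a b
    show _ * _ = _ * _
    by_cases e1 : w = r
    · subst e1; rw [C.X_add, C.X_add, add_comm]
    have e2 : w ≠ r.rev := fun e => by rw [e, S.pr_rev', C.pr_self] at hr; omega
    have := S.O.comm.comm_X r w e1 e2 a b
    rw [S.cert.comm0 _ _ e1 e2 hr] at this
    simpa using this.symm
  have hzM : z ∈ S.M := by
    refine S.cent G hMH hHW hHQ hzH (S.mem_M.1 hεM).1 (inv_ne_zero hcb) (by rw [map_inv₀, hcbf])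
      (by rw [← hβe]; exact (S.mem_M.1 hβM).2) ?_
    rw [← hβe]
    have h5 : Commute (C.X K sb 1) (C.X K w (c0 * 1 * t)) := hcomm (by
      rw [pr_lin C hzv, C.pr_self, hβr]; norm_num) _ _
    have h6 : Commute z (C.X K sb 1) := (hqβ.mul_left h5.symm).mul_left hqβ.inv_left
    rw [h6.eq, mul_inv_cancel_right]
  obtain ⟨s2, hvs2, -, -, cc, hcc, hcconj⟩ := S.nA_root sb
  have hs2 : s2 = w := C.v_inj (by rw [hvs2, hβ1, hvw, C.v_rev]; module)
  subst hs2
  set g := q1 * S.nA * C.nR K ε0 1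
  have hgW : g ∈ S.O.G1 := mul_mem (mul_mem (mul_mem (S.mem_M.1 hm).1 (S.mem_G1.2 ⟨S.Q_le_group hq, hqf⟩))
    (S.mem_M.1 S.nA_mem).1) (S.mem_M.1 hεM).1
  set d := cb⁻¹ * (cc⁻¹ * ((c0 : K) * 1 * t))
  have hze : z = g * C.X K S.al d * g⁻¹ := by
    have h1 := hcbconj d
    rw [show cb * d = cc⁻¹ * ((c0 : K) * 1 * t) from mul_inv_cancel_left₀ hcb _] at h1
    have h2 := hcconj (cc⁻¹ * ((c0 : K) * 1 * t))
    rw [mul_inv_cancel_left₀ hcc] at h2
    simp only [z]; rw [← h2, ← h1]; simp only [g]; group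
  have hd : d ≠ 0 := mul_ne_zero (inv_ne_zero hcb) (mul_ne_zero (inv_ne_zero hcc)
    (by rcases hc0 with e | e <;> simp [e, ht]))
  have hdf : S.O.φ d = d := by
    have h1 := S.fix_Θ hzM
    rw [hze, map_mul, map_mul, map_inv, (S.mem_G1.1 hgW).2, S.Θ_al] at h1
    exact S.X_inj (mul_left_cancel (mul_right_cancel h1))
  refine S.cent G hMH hHW hHQ hy1H hgW hd hdf (by rw [← hze]; exact (S.mem_M.1 hzM).2) ?_
  rw [← hze]
  have h6 : Commute (C.X K S.al.rev t) (C.X K s2 (c0 * 1 * t)) := hcomm (by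
    rw [pr_lin C hzv, C.pr_self, S.cert.symm, hβr]; norm_num) _ _
  have h9 : y1 * z = z * y1 := by
    rw [hy']
    simp only [z]
    calc q1 * C.X K S.al.rev t * q1⁻¹ * (q1 * C.X K s2 (c0 * 1 * t) * q1⁻¹)
        = q1 * (C.X K S.al.rev t * C.X K s2 (c0 * 1 * t)) * q1⁻¹ := by group
      _ = _ := by rw [h6.eq]; group
  rw [h9, mul_inv_cancel_right]

end Setting

end Cfsg.Agent.Lib.SubfieldTwist29
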