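import Cfsg.Agent.Lib.SubfieldTwist29.Main

/-!
An overgroup of the subfield points containing an irrational element of the radical is the whole group.
-/

set_option autoImplicit false
set_option linter.unusedSectionVars false
set_option maxHeartbeats 1000000

namespace Cfsg.Agent.Lib.SubfieldTwist29

open Cfsg.Lie ChevStructure LieTwisted.Twist
open scoped MatrixGroups Matrix

variable {D : ChevalleyDatum}

/-- The height. -/
def hs (C : Core D) (r : Rt D) : ℤ := ∑ m, C.v r m

/-- The root of grade one raised to `T` by `a`, with the structure constant. -/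
def srcOf (al a T : Rt D) : Option (Rt D × ℤ) :=
  (List.finRange D.nroots).findSome? fun s =>
    if pr D al s = 1 ∧ s ≠ a ∧ s ≠ a.rev then
      match D.commTerms a.val s.val with
      | [c] => if c.1 = T.val then some (s, c.2.1) else none
      | _ => none
    else none

/-- The non-identity part of the linear map on coordinates induced by conjugation. -/
def pullR {R : Type*} [CommRing R] (al : Rt D) : List (Rt D × R) → Rt D → List (Rt D × R)
  | [], _ => []
  | (a, e) :: L, T => pullR al L T ++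
      match srcOf al a T with
      | none => []
      | some (s, c) => (s, (c : R) * e) :: (pullR al L s).map fun x => (x.1, (c : R) * e * x.2)

/-- The orbit of a root with its signs. -/
def orbL (π : Equiv.Perm (Rt D)) (ε : Rt D → ℤ) (n : ℕ) (a : Rt D) : List (Rt D × ℤ) :=
  (List.range (if π a = a then 1 else n)).map fun j => ((π : Rt D → Rt D)^[j] a, eN π ε j a)

/-- The position in an orbit. -/
def orbIdx (π : Equiv.Perm (Rt D)) (n : ℕ) (δ s : Rt D) : Option ℕ :=
  (List.range n).find? fun j => decide ((π : Rt D → Rt D)^[j] δ = s)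

/-- The coefficients on the orbit of δ. -/
def kList (π : Equiv.Perm (Rt D)) (ε : Rt D → ℤ) (n : ℕ) (δ : Rt D) (L : List (Rt D × ℤ)) : List (ℕ × ℤ) :=
  L.filterMap fun x => (orbIdx π n δ x.1).map fun j => (j, x.2 * eN π ε j δ)

/-- A combination of conjugates determining the argument up to the fixed field. -/
def GoodK (n : ℕ) (L : List (ℕ × ℤ)) : Prop :=
  (∃ k : Fin n, L = [(k.val, 1)] ∨ L = [(k.val, -1)]) ∨
    (n = 3 ∧ ∃ k l : Fin 3, k ≠ l ∧ (L = [(k.val, 1), (l.val, 1)] ∨ L = [(k.val, -1), (l.val, -1)]))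

/-- A raising step. -/
structure Step (C : Core D) (π : Equiv.Perm (Rt D)) (ε : Rt D → ℤ) (n : ℕ) (al δ a T : Rt D) : Prop where
  apos : a ∈ C.Pos
  a0 : pr D al a = 0
  T1 : pr D al T = 1
  src : ∀ x ∈ pullR (R := ℤ) al (orbL π ε n a) T,
    orbIdx π n δ x.1 = none → π x.1 = x.1 ∨ hs C x.1 < hs C δ
  good : GoodK n (kList π ε n δ (pullR (R := ℤ) al (orbL π ε n a) T))

/-- The facts about the radical. -/
structure Rad (C : Core D) (π : Equiv.Perm (Rt D)) (ε : Rt D → ℤ) (n : ℕ) (al tT β : Rt D)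
    (JL : List (List (Fin D.rank))) : Prop where
  t1 : pr D al tT = 1
  tmoved : π tT ≠ tT
  hπ : ∀ r, hs C (π r) = hs C r
  topmax : ∀ s, pr D al s = 1 → π s ≠ s → hs C tT ≤ hs C s → ∃ j : Fin n, (π : Rt D → Rt D)^[j.val] tT = s
  raise : ∀ s, pr D al s = 1 → π s ≠ s → hs C s < hs C tT → ∃ δ a T : Rt D,
    (∃ j : Fin n, (π : Rt D → Rt D)^[j.val] δ = s) ∧ Step C π ε n al δ a T
  β0 : π β = β
  β1 : pr D β tT = 1
  wit : ∀ i : Fin D.rank, π (C.p i) ≠ C.p i → ∀ b : Bool, ∃ (W : List (List (Fin D.rank))) (k : Fin n),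
    (∀ l ∈ W, l ∈ JL) ∧ C.pprod W.flatten tT = (π : Rt D → Rt D)^[k.val] (sd b (C.p i))

namespace Setting

variable {C : Core D} {K : Type*} [Field K] [Finite K] (S : Setting C K)
include S

theorem srcOf_some {a T s : Rt D} {c : ℤ} (h : srcOf S.al a T = some (s, c)) :
    pr D S.al s = 1 ∧ C.v T = C.v a + C.v s ∧
      ∀ x u : K, C.X K a x * C.X K s u * (C.X K a x)⁻¹ = C.X K s u * C.X K T (c * x * u) := by
  obtain ⟨s', -, h'⟩ := List.exists_of_findSome?_eq_some h
  split_ifs at h' with hc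
  obtain ⟨hs, hne, hne'⟩ := hc
  split at h'
  case h_2 => simp at h'
  case h_1 c0 hc0 =>
    split_ifs at h' with hT
    simp only [Option.some.injEq, Prod.mk.injEq] at h'
    obtain ⟨rfl, rfl⟩ := h'
    have hpr : pr D a s' = -1 := by
      rcases le_or_gt 0 (pr D a s') with h0 | h0
      · rw [S.cert.comm0 a s' hne hne' h0] at hc0; simp at hc0
      · by_contra hne1
        exact hne' (S.cert.small a s' (by omega))
    obtain ⟨q, c1, -, hv, hconj⟩ := S.conj_one (K := K) hpr
    obtain ⟨q', hq'⟩ := S.cert.comm1 a s' hpr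
    have hqT : q' = T := Fin.ext (by
      rcases hq' with e | e <;> rw [e] at hc0 <;>
        (simp only [List.cons.injEq, and_true] at hc0; rw [← hc0] at hT; exact hT))
    subst hqT
    have hv' : C.v q' = C.v a + C.v s' := by
      obtain ⟨w, hw, -, -, hvw⟩ := S.O.comm.terms a s' hne hne' c0 (by rw [hc0]; exact List.mem_singleton_self _)
      have : w = q' := Fin.ext (hw.symm.trans hT)
      subst this
      rcases hq' with e | e <;> rw [e] at hc0 <;>
        (simp only [List.cons.injEq, and_true] at hc0; rw [← hc0] at hvw; simpa using hvw)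
    refine ⟨hs, hv', fun x u => ?_⟩
    have e := S.O.comm.comm_X a s' hne hne' (-x) u
    rw [hc0] at e
    simp only [List.map_cons, List.map_nil, List.prod_cons, List.prod_nil, mul_one, neg_neg] at e
    have hexp : c0.2.2.1 = 1 ∧ c0.2.2.2 = 1 := by
      rcases hq' with e | e <;> rw [e] at hc0 <;>
        (simp only [List.cons.injEq, and_true] at hc0; rw [← hc0]; simp)
    rw [hexp.1, hexp.2, pow_one, pow_one, hT, C.XN_fin] at e
    rw [C.X_inv, mul_assoc, e, ← mul_assoc, ← mul_assoc, C.X_add, add_neg_cancel, C.X_zero, one_mul]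

theorem srcOf_none {a T s : Rt D} (h : srcOf S.al a T = none) (hs : pr D S.al s = 1) (hne : s ≠ a) (hne' : s ≠ a.rev)
    (hpr : pr D a s = -1) : C.v T ≠ C.v a + C.v s := by
  intro hv
  have h1 := List.findSome?_eq_none_iff.1 h s (List.mem_finRange s)
  rw [if_pos ⟨hs, hne, hne'⟩] at h1
  obtain ⟨q, hq⟩ := S.cert.comm1 a s hpr
  have hvq : C.v q = C.v a + C.v s := by
    rcases hq with e | e <;>
      (obtain ⟨w, hw, -, -, hvw⟩ := S.O.comm.terms a s hne hne' _ (e ▸ List.mem_singleton_self _)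
       have : w = q := Fin.ext hw.symm
       subst this
       simpa using hvw)
  have hqT : q = T := C.v_inj (hvq.trans hv.symm)
  subst hqT
  rcases hq with e | e <;> rw [e] at h1 <;> simp at h1

theorem conj_Q {a : Rt D} (ha : 0 ≤ pr D S.al a) (x : K) {v : GL D.Idx K} (hv : v ∈ S.Q) :
    C.X K a x * v * (C.X K a x)⁻¹ ∈ S.Q := S.normalizes_Q ha x hv

/-- The effect of one root element on a coordinate. -/
theorem kp_conj {a : Rt D} (ha : pr D S.al a = 0) (x : K) {T : Rt D} (hT : pr D S.al T = 1) {v : GL D.Idx K}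
    (hv : v ∈ S.Q) : S.kp T (C.X K a x * v * (C.X K a x)⁻¹) = S.kp T v +
      match srcOf S.al a T with
      | none => 0
      | some (s, c) => (c : K) * x * S.kp s v := by
  induction hv using Subgroup.closure_induction with
  | mem y hy =>
    obtain ⟨r, hr, d, rfl⟩ := hy
    have hr1 := S.mem_Qs.1 hr
    have hne : r ≠ a := fun e => by rw [e, ha] at hr1; omega
    have hne' : r ≠ a.rev := fun e => by rw [e, S.pr_rev', ha] at hr1; omega
    have hTr : ∀ {q : Rt D}, C.v q = C.v a + C.v r → pr D S.al q = pr D S.al r := fun {q} hq => by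
      rw [pr_lin C (show C.v q = (1 : ℤ) • C.v a + (1 : ℤ) • C.v r by rw [hq]; module), ha]; ring
    rcases le_or_gt 0 (pr D a r) with h0 | h0
    · have := S.O.comm.comm_X a r hne hne' x d
      rw [S.cert.comm0 _ _ hne hne' h0] at this
      simp only [List.map_nil, List.prod_nil, mul_one] at this
      rw [← this, mul_inv_cancel_right]
      rcases hsrc : srcOf S.al a T with _ | ⟨s, c⟩
      · simp
      · obtain ⟨hs, hvT, -⟩ := S.srcOf_some hsrc
        have hsr : r ≠ s := by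
          rintro rfl
          have h2 := pr_lin C (show C.v T = (1 : ℤ) • C.v a + (1 : ℤ) • C.v r by rw [hvT]; module) a
          rw [C.pr_self] at h2
          have h3 := S.cert.small a T.rev (by rw [S.pr_rev']; omega)
          rw [Fin.rev_inj] at h3
          rw [h3, ha] at hT
          omega
        simp [S.kp_X hr hs, hsr]
    · have hpr : pr D a r = -1 := by
        by_contra hne1
        exact hne' (S.cert.small a r (by omega))
      obtain ⟨q, c0, -, hvq, hconj⟩ := S.conj_one (K := K) hpr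
      have hq : q ∈ Qs S.al.rev := S.mem_Qs.2 (by rw [hTr hvq]; exact hr1)
      rw [hconj, S.kp_mul (C.X_mem_US K hr d) (C.X_mem_US K hq _) hT, S.kp_X hq hT]
      rcases hsrc : srcOf S.al a T with _ | ⟨s, c⟩
      · rw [if_neg, add_zero]
        rintro rfl
        exact S.srcOf_none hsrc (by rw [← hTr hvq]; exact hT) hne hne' hpr hvq
      · obtain ⟨hs, hvT, hc⟩ := S.srcOf_some hsrc
        simp only [S.kp_X hr hs]
        congr 1
        by_cases hrs : r = s
        · subst hrs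
          have hqT : q = T := C.v_inj (hvq.trans hvT.symm)
          subst hqT
          rw [if_pos rfl, if_pos rfl]
          have h5 := (hconj x d).symm.trans (hc x d)
          exact S.X_inj (mul_left_cancel h5)
        · rw [if_neg hrs, mul_zero, if_neg]
          rintro rfl
          exact hrs (C.v_inj (add_left_cancel (hvq.symm.trans hvT)))
  | one =>
    rw [mul_one, mul_inv_cancel, S.kp_one hT, zero_add]
    rcases hsrc : srcOf S.al a T with _ | ⟨s, c⟩
    · rfl
    · simp [S.kp_one (S.srcOf_some hsrc).1]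
  | mul y z hy hz ihy ihz =>
    have hy' := S.normalizes_Q (r := a) ha.ge x hy
    have hz' := S.normalizes_Q (r := a) ha.ge x hz
    rw [show C.X K a x * (y * z) * (C.X K a x)⁻¹ = (C.X K a x * y * (C.X K a x)⁻¹) * (C.X K a x * z * (C.X K a x)⁻¹) by group,
      S.kp_mul hy' hz' hT, S.kp_mul hy hz hT, ihy, ihz]
    rcases hsrc : srcOf S.al a T with _ | ⟨s, c⟩
    · simp; 
    · simp only [S.kp_mul hy hz (S.srcOf_some hsrc).1]; ring
  | inv y hy ih =>
    have hy' := S.normalizes_Q (r := a) ha.ge x hy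
    rw [show C.X K a x * y⁻¹ * (C.X K a x)⁻¹ = (C.X K a x * y * (C.X K a x)⁻¹)⁻¹ by group, S.kp_inv hy' hT,
      S.kp_inv hy hT, ih]
    rcases hsrc : srcOf S.al a T with _ | ⟨s, c⟩
    · simp
    · simp only [S.kp_inv hy (S.srcOf_some hsrc).1]; ring

theorem kp_pull : ∀ (L : List (Rt D × K)), (∀ p ∈ L, pr D S.al p.1 = 0) → ∀ {T : Rt D}, pr D S.al T = 1 →
    ∀ {v : GL D.Idx K}, v ∈ S.Q →
      (L.map fun p => C.X K p.1 p.2).prod * v * ((L.map fun p => C.X K p.1 p.2).prod)⁻¹ ∈ S.Q ∧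
      S.kp T ((L.map fun p => C.X K p.1 p.2).prod * v * ((L.map fun p => C.X K p.1 p.2).prod)⁻¹) =
        S.kp T v + ((pullR S.al L T).map fun x => x.2 * S.kp x.1 v).sum
  | [], _, T, _, v, hv => by simp [pullR, hv]
  | (a, e) :: L, hL, T, hT, v, hv => by
    have ha : pr D S.al a = 0 := hL (a, e) List.mem_cons_self
    have hL' : ∀ p ∈ L, pr D S.al p.1 = 0 := fun p hp => hL p (List.mem_cons_of_mem _ hp)
    obtain ⟨ih1, ih2⟩ := kp_pull L hL' hT hv
    set R := (L.map fun p => C.X K p.1 p.2).prod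
    simp only [List.map_cons, List.prod_cons]
    have e1 : C.X K a e * R * v * (C.X K a e * R)⁻¹ = C.X K a e * (R * v * R⁻¹) * (C.X K a e)⁻¹ := by group
    rw [e1]
    refine ⟨S.normalizes_Q ha.ge e ih1, ?_⟩
    rw [S.kp_conj ha e hT ih1, ih2, pullR]
    rcases hsrc : srcOf S.al a T with _ | ⟨s, c⟩
    · simp
    · obtain ⟨hs, -, -⟩ := S.srcOf_some hsrc
      have ih3 := (kp_pull L hL' hs hv).2
      simp only [List.map_append, List.sum_append, List.map_cons, List.sum_cons, List.map_map, Function.comp_def]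
      rw [ih3]
      have hmap : ((pullR S.al L s).map fun x => (c : K) * e * x.2 * S.kp x.1 v).sum =
          (c : K) * e * ((pullR S.al L s).map fun x => x.2 * S.kp x.1 v).sum := by
        rw [← List.sum_map_mul_left]
        exact congrArg List.sum (List.map_congr_left fun x _ => by ring)
      rw [hmap]
      ring

theorem pull_cast : ∀ (L : List (Rt D × ℤ)) (T : Rt D),
    pullR (R := K) S.al (L.map fun p => (p.1, (p.2 : K))) T =
      (pullR (R := ℤ) S.al L T).map fun x => (x.1, (x.2 : K))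
  | [], T => rfl
  | (a, e) :: L, T => by
    simp only [List.map_cons, pullR, List.map_append, pull_cast L T]
    rcases srcOf S.al a T with _ | ⟨s, c⟩
    · rfl
    · simp [pull_cast L s, List.map_map, Function.comp_def, mul_assoc]

theorem pull_low : ∀ (L : List (Rt D × ℤ)), (∀ p ∈ L, p.1 ∈ C.Pos) → ∀ (T : Rt D),
    ∀ x ∈ pullR (R := ℤ) S.al L T, pr D S.al x.1 = 1 ∧ hs C x.1 < hs C T
  | [], _, T, x, hx => by simp [pullR] at hx
  | (a, e) :: L, hL, T, x, hx => by
    have hL' : ∀ p ∈ L, p.1 ∈ C.Pos := fun p hp => hL p (List.mem_cons_of_mem _ hp)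
    simp only [pullR, List.mem_append] at hx
    rcases hx with hx | hx
    · exact pull_low L hL' T x hx
    rcases hsrc : srcOf S.al a T with _ | ⟨s, c⟩
    · simp [hsrc] at hx
    · simp only [hsrc, List.mem_cons, List.mem_map] at hx
      obtain ⟨hs', hvT, -⟩ := S.srcOf_some (K := K) hsrc
      have hlt : hs C s < hs C T := by
        have := hwt_one C (hL (a, e) List.mem_cons_self)
        simp only [hs, hvT, Pi.add_apply, Finset.sum_add_distrib]
        simp only at this
        omega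
      rcases hx with rfl | ⟨y, hy, rfl⟩
      · exact ⟨hs', hlt⟩
      · obtain ⟨h1, h2⟩ := pull_low L hL' s y hy
        exact ⟨h1, h2.trans hlt⟩

variable {tT β : Rt D} {JL : List (List (Fin D.rank))} (R : Rad C S.O.π S.O.ε S.O.n S.al tT β JL)
  {H : Subgroup (GL D.Idx K)} (hMH : S.M ≤ H) (hHW : H ≤ S.O.G1)

theorem irr_iter {v : GL D.Idx K} (hv : v ∈ S.Q) (hΘ : S.O.Θ v = v) {s : Rt D} (hs : pr D S.al s = 1) (j : ℕ)
    (h : S.O.φ (S.kp s v) = S.kp s v) :
    S.O.φ (S.kp ((S.O.π : Rt D → Rt D)^[j] s) v) = S.kp ((S.O.π : Rt D → Rt D)^[j] s) v := by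
  rw [S.kp_iter hv hΘ hs, Function.iterate_fixed h, map_mul, map_intCast, h]

theorem φ_back {x : K} (k : ℕ) (h : S.O.φ ((S.O.φ : K → K)^[k] x) = (S.O.φ : K → K)^[k] x) : S.O.φ x = x := by
  rw [← Function.iterate_succ_apply' (f := (S.O.φ : K → K)), Function.iterate_succ_apply] at h
  exact S.O.φ.injective.iterate k h

/-- Two conjugates with fixed sum. -/
theorem pair_back (hn : S.O.n = 3) (i l : Fin 3) (hil : i ≠ l) (A : K)
    (h : S.O.φ ((S.O.φ : K → K)^[i.val] A) + S.O.φ ((S.O.φ : K → K)^[l.val] A) =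
      (S.O.φ : K → K)^[i.val] A + (S.O.φ : K → K)^[l.val] A) : S.O.φ A = A := by
  have h3 : S.O.φ (S.O.φ (S.O.φ A)) = A := by
    have := S.O.φ_pow A
    rw [hn] at this
    exact this
  fin_cases i <;> fin_cases l <;>
    first
    | exact absurd rfl hil
    | (simp only [Function.iterate_succ_apply', Function.iterate_zero_apply, h3] at h
       first
       | exact S.O.φ.injective (S.O.φ.injective (by rw [h3]; linear_combination h))
       | exact S.O.φ.injective (by linear_combination h)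
       | linear_combination h
       | linear_combination -h
       | exact S.O.φ.injective (by linear_combination -h)
       | exact S.O.φ.injective (S.O.φ.injective (by rw [h3]; linear_combination -h)))


/-- An orbit product does not depend on the chosen member. -/
theorem orbR_shift {r : Rt D} {a : K} (h : S.Good r a) (j : ℕ) :
    S.orbR ((S.O.π : Rt D → Rt D)^[j] r) ((eN S.O.π S.O.ε j r : K) * (S.O.φ : K → K)^[j] a) = S.orbR r a := by
  have hsz : ∀ j, S.szR ((S.O.π : Rt D → Rt D)^[j] r) = S.szR r := fun j => by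
    simp only [szR, ← Function.iterate_succ_apply' (f := (S.O.π : Rt D → Rt D)),
      Function.iterate_succ_apply, (S.O.π.injective.iterate j).eq_iff]
  have hmap : ∀ (k : ℕ) (L : List (GL D.Idx K)), (S.O.Θ : GL D.Idx K → GL D.Idx K)^[k] L.prod =
      (L.map (S.O.Θ : GL D.Idx K → GL D.Idx K)^[k]).prod := fun k L => by
    induction L with
    | nil => simp [S.iter_fix (map_one S.O.Θ)]
    | cons x L ih => rw [List.prod_cons, S.iter_mul, ih, List.map_cons, List.prod_cons]
  conv_rhs => rw [← S.iter_fix (S.orbR_fix h) j, orbR, hmap, List.map_map]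
  rw [orbR, hsz]
  refine congrArg List.prod (List.map_congr_left fun k _ => ?_)
  rw [Function.comp_apply, ← S.iter_X, ← Function.iterate_add_apply, ← Function.iterate_add_apply, add_comm]

theorem orb_conj {n : GL D.Idx K} (hn : n ∈ S.M) {σ : Equiv.Perm (Rt D)} (hna : C.Acts n σ) (r : Rt D) :
    ∃ c : K, c ≠ 0 ∧ S.O.φ c = c ∧ ∀ a, n * S.orbR r a * n⁻¹ = S.orbR (σ r) (c * a) := by
  obtain ⟨e, he⟩ := hna r
  have hn' := S.fix_Θ hn
  refine ⟨e, Units.ne_zero e, ?_, fun a => ?_⟩
  · have h1 := congrArg S.sF (he 1)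
    rw [map_mul, map_mul, map_inv, (S.mem_M.1 hn).2, S.sF_X, map_one, he, S.sF_X, mul_one] at h1
    exact (S.X_inj h1).symm
  have hπ : S.O.π (σ r) = σ (S.O.π r) := by
    obtain ⟨e2, he2⟩ := hna (S.O.π r)
    have h1 := congrArg S.O.Θ (he 1)
    rw [map_mul, map_mul, map_inv, hn', S.O.Θ_X, he2, S.O.Θ_X] at h1
    by_contra hne
    exact mul_ne_zero (Units.ne_zero e2) (mul_ne_zero (S.O.ε_ne r) (by simp)) (C.X_eq_X K h1 (Ne.symm hne))
  have hsz : S.szR (σ r) = S.szR r := by simp only [szR, hπ, σ.injective.eq_iff]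
  rw [show n * S.orbR r a * n⁻¹ = MulAut.conj n (S.orbR r a) from rfl, orbR, orbR, map_list_prod, List.map_map, hsz]
  refine congrArg List.prod (List.map_congr_left fun k _ => ?_)
  rw [Function.comp_apply, MulAut.conj_apply, ← he, S.iter_mul, S.iter_mul, S.iter_fix hn',
    S.iter_fix (g := n⁻¹) (by rw [map_inv, hn'])]

include R hMH hHW

/-- Moving an irrational coordinate to the top orbit. -/
theorem push {v : GL D.Idx K} (hvH : v ∈ H) (hv : v ∈ S.Q)
    (hne : ∃ s, pr D S.al s = 1 ∧ S.O.φ (S.kp s v) ≠ S.kp s v) :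
    ∃ w ∈ H, w ∈ S.Q ∧ S.O.φ (S.kp tT w) ≠ S.kp tT w ∧
      ∀ s, pr D S.al s = 1 → (∀ j, (S.O.π : Rt D → Rt D)^[j] tT ≠ s) → S.O.φ (S.kp s w) = S.kp s w := by
  classical
  suffices main : ∀ (k : ℕ) (v : GL D.Idx K), v ∈ H → v ∈ S.Q →
      (∃ s, pr D S.al s = 1 ∧ S.O.φ (S.kp s v) ≠ S.kp s v) →
      (Finset.univ.filter fun s => pr D S.al s = 1 ∧
        ∃ d, pr D S.al d = 1 ∧ S.O.φ (S.kp d v) ≠ S.kp d v ∧ hs C d ≤ hs C s).card ≤ k →
      ∃ w ∈ H, w ∈ S.Q ∧ S.O.φ (S.kp tT w) ≠ S.kp tT w ∧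
        ∀ s, pr D S.al s = 1 → (∀ j, (S.O.π : Rt D → Rt D)^[j] tT ≠ s) → S.O.φ (S.kp s w) = S.kp s w by
    exact main _ v hvH hv hne le_rfl
  intro k
  induction k with
  | zero =>
    intro v _ _ ⟨s, hs1, hs2⟩ hc
    have : s ∈ Finset.univ.filter fun s => pr D S.al s = 1 ∧
        ∃ d, pr D S.al d = 1 ∧ S.O.φ (S.kp d v) ≠ S.kp d v ∧ hs C d ≤ hs C s :=
      Finset.mem_filter.2 ⟨Finset.mem_univ _, hs1, s, hs1, hs2, le_rfl⟩
    rw [Finset.card_eq_zero.1 (Nat.le_zero.1 hc)] at this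
    simp at this
  | succ k ih =>
    intro v hvH hv hne hc
    have hΘ := (S.mem_G1.1 (hHW hvH)).2
    obtain ⟨s0, hs0, hmin⟩ := (Finset.univ.filter fun s => pr D S.al s = 1 ∧ S.O.φ (S.kp s v) ≠ S.kp s v).exists_min_image
      (hs C) (by obtain ⟨s, h⟩ := hne; exact ⟨s, by simpa using h⟩)
    simp only [Finset.mem_filter, Finset.mem_univ, true_and] at hs0 hmin
    have hmoved : ∀ s, pr D S.al s = 1 → S.O.φ (S.kp s v) ≠ S.kp s v → S.O.π s ≠ s := fun s h1 h2 h3 =>
      h2 (S.kp_good hv hΘ h1 h3)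
    have hsm := hmoved s0 hs0.1 hs0.2
    rcases le_or_gt (hs C tT) (hs C s0) with hle | hlt
    · obtain ⟨j, hj⟩ := R.topmax s0 hs0.1 hsm hle
      refine ⟨v, hvH, hv, fun h => hs0.2 ?_, fun s h1 h2 => ?_⟩
      · rw [← hj]; exact S.irr_iter hv hΘ R.t1 j h
      · by_contra h3
        obtain ⟨i, hi⟩ := R.topmax s h1 (hmoved s h1 h3) (hle.trans (hmin s ⟨h1, h3⟩))
        exact h2 _ hi
    obtain ⟨δ, a, T, ⟨j, hj⟩, hstep⟩ := R.raise s0 hs0.1 hsm hlt
    have hδ1 : pr D S.al δ = 1 := by rw [← S.π_prA' j.val δ, hj]; exact hs0.1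
    have hhs : ∀ j : ℕ, hs C ((S.O.π : Rt D → Rt D)^[j] δ) = hs C δ := fun j => by
      induction j with
      | zero => rfl
      | succ j ih => rw [Function.iterate_succ_apply', R.hπ, ih]
    have hhδ : hs C δ = hs C s0 := by rw [← hhs j.val, hj]
    have hδirr : S.O.φ (S.kp δ v) ≠ S.kp δ v := fun h => hs0.2 (by rw [← hj]; exact S.irr_iter hv hΘ hδ1 j h)
    set L := (orbL S.O.π S.O.ε S.O.n a).map fun p => (p.1, (p.2 : K))
    have hL : S.orbR a 1 = (L.map fun p => C.X K p.1 p.2).prod := by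
      simp only [L, orbL, List.map_map, orbR, szR]
      refine congrArg List.prod (List.map_congr_left fun i _ => ?_)
      rw [Function.comp_apply, Function.comp_apply, S.iter_X, S.O.φ_iter_one, mul_one]
    have hπpos : ∀ i : ℕ, (S.O.π : Rt D → Rt D)^[i] a ∈ C.Pos := fun i => by
      induction i with
      | zero => exact hstep.apos
      | succ i ih => rw [Function.iterate_succ_apply']; exact S.O.π_pos _ ih
    have hLpos : ∀ p ∈ orbL S.O.π S.O.ε S.O.n a, p.1 ∈ C.Pos := fun p hp => by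
      simp only [orbL, List.mem_map] at hp
      obtain ⟨i, -, rfl⟩ := hp
      exact hπpos i
    have hL0 : ∀ p ∈ L, pr D S.al p.1 = 0 := fun p hp => by
      simp only [L, orbL, List.mem_map] at hp
      obtain ⟨_, ⟨i, -, rfl⟩, rfl⟩ := hp
      rw [S.π_prA', hstep.a0]
    have hRM : S.orbR a 1 ∈ S.M := S.orbR_mem_M (map_one _)
    set w := S.orbR a 1 * v * (S.orbR a 1)⁻¹ * v⁻¹
    have hwH : w ∈ H := mul_mem (mul_mem (mul_mem (hMH hRM) hvH) (inv_mem (hMH hRM))) (inv_mem hvH)
    have hRQ : ∀ {s : Rt D}, pr D S.al s = 1 → S.orbR a 1 * v * (S.orbR a 1)⁻¹ ∈ S.Q ∧ S.kp s w =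
        ((pullR (R := ℤ) S.al (orbL S.O.π S.O.ε S.O.n a) s).map fun x => (x.2 : K) * S.kp x.1 v).sum := by
      intro s hs
      obtain ⟨h1, h2⟩ := S.kp_pull L hL0 hs hv
      rw [← hL] at h1 h2
      refine ⟨h1, ?_⟩
      rw [S.kp_mul h1 (inv_mem hv) hs, h2, S.kp_inv hv hs, S.pull_cast, List.map_map]
      simp [Function.comp_def]
    have hwQ : w ∈ S.Q := mul_mem (hRQ hδ1).1 (inv_mem hv)
    have hφsum : ∀ L : List (Rt D × ℤ), (∀ x ∈ L, S.O.φ (S.kp x.1 v) = S.kp x.1 v) →
        S.O.φ (L.map fun x => (x.2 : K) * S.kp x.1 v).sum = (L.map fun x => (x.2 : K) * S.kp x.1 v).sum := by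
      intro L hL
      induction L with
      | nil => simp
      | cons x L ih =>
        rw [List.map_cons, List.sum_cons, map_add, map_mul, map_intCast, hL x List.mem_cons_self,
          ih fun y hy => hL y (List.mem_cons_of_mem _ hy)]
    have hlow : ∀ s, pr D S.al s = 1 → hs C s ≤ hs C δ → S.O.φ (S.kp s w) = S.kp s w := by
      intro s h1 h2
      rw [(hRQ h1).2]
      refine hφsum _ fun x hx => ?_
      obtain ⟨h3, h4⟩ := S.pull_low _ hLpos s x hx
      by_contra h5
      have := hmin x.1 ⟨h3, h5⟩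
      omega
    have hT : S.O.φ (S.kp T w) ≠ S.kp T w := by
      rw [(hRQ hstep.T1).2]
      set P := pullR (R := ℤ) S.al (orbL S.O.π S.O.ε S.O.n a) T
      have hP : ∀ x ∈ P, pr D S.al x.1 = 1 := fun x hx => (S.pull_low _ hLpos T x hx).1
      have hsplit : ∀ L : List (Rt D × ℤ), (∀ x ∈ L, x ∈ P) → ∃ ρ : K, S.O.φ ρ = ρ ∧
          (L.map fun x => (x.2 : K) * S.kp x.1 v).sum = ρ + ((kList S.O.π S.O.ε S.O.n δ L).map fun y =>
            (y.2 : K) * (S.O.φ : K → K)^[y.1] (S.kp δ v)).sum := by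
        intro L hL
        induction L with
        | nil => exact ⟨0, map_zero _, by simp [kList]⟩
        | cons x L ih =>
          obtain ⟨ρ, hρ, he⟩ := ih fun y hy => hL y (List.mem_cons_of_mem _ hy)
          have hx := hL x List.mem_cons_self
          rcases hi : orbIdx S.O.π S.O.n δ x.1 with _ | i
          · have hk : S.O.φ (S.kp x.1 v) = S.kp x.1 v := by
              rcases hstep.src x hx hi with h | h
              · exact S.kp_good hv hΘ (hP x hx) h
              · by_contra h5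
                have := hmin x.1 ⟨hP x hx, h5⟩
                omega
            refine ⟨(x.2 : K) * S.kp x.1 v + ρ, by rw [map_add, map_mul, map_intCast, hk, hρ], ?_⟩
            simp only [List.map_cons, List.sum_cons, he, kList, List.filterMap_cons, hi, Option.map_none]
            ring
          · have hi' : (S.O.π : Rt D → Rt D)^[i] δ = x.1 := by
              have := List.find?_some hi
              simpa using this
            refine ⟨ρ, hρ, ?_⟩
            simp only [List.map_cons, List.sum_cons, he, kList, List.filterMap_cons, hi, Option.map_some, Int.cast_mul]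
            rw [← hi', S.kp_iter hv hΘ hδ1]
            ring
      obtain ⟨ρ, hρ, he⟩ := hsplit P fun x hx => hx
      rw [he]
      intro hfix
      rw [map_add, hρ, add_right_inj] at hfix
      apply hδirr
      set A := S.kp δ v
      rcases hstep.good with ⟨i, hi | hi⟩ | ⟨hn, i, l, hil, hi | hi⟩
      · rw [show kList S.O.π S.O.ε S.O.n δ P = [(i.val, 1)] from hi] at hfix
        simp at hfix
        exact S.φ_back i.val hfix
      · rw [show kList S.O.π S.O.ε S.O.n δ P = [(i.val, -1)] from hi] at hfix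
        simp at hfix
        exact S.φ_back i.val hfix
      all_goals
        rw [show kList S.O.π S.O.ε S.O.n δ P = _ from hi] at hfix
        simp only [List.map_cons, List.map_nil, List.sum_cons, List.sum_nil, add_zero, Int.cast_one, Int.cast_neg,
          one_mul, neg_mul, map_add, map_neg, ← neg_add_rev, neg_inj] at hfix
      · exact S.pair_back hn i l hil A hfix
      · exact S.pair_back hn i l hil A (by linear_combination hfix)
    refine ih w hwH hwQ ⟨T, hstep.T1, hT⟩ ?_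
    have hsub : (Finset.univ.filter fun s => pr D S.al s = 1 ∧
          ∃ d, pr D S.al d = 1 ∧ S.O.φ (S.kp d w) ≠ S.kp d w ∧ hs C d ≤ hs C s) ⊆
        (Finset.univ.filter fun s => pr D S.al s = 1 ∧
          ∃ d, pr D S.al d = 1 ∧ S.O.φ (S.kp d v) ≠ S.kp d v ∧ hs C d ≤ hs C s).erase δ := by
      intro s hs
      simp only [Finset.mem_filter, Finset.mem_univ, true_and] at hs
      obtain ⟨h1, d, hd1, hd2, hd3⟩ := hs
      have hd : hs C δ < hs C d := by
        by_contra h
        exact hd2 (hlow d hd1 (not_lt.1 h))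
      refine Finset.mem_erase.2 ⟨fun e => ?_, Finset.mem_filter.2 ⟨Finset.mem_univ _, h1, δ, hδ1, hδirr, (hd.le.trans hd3)⟩⟩
      rw [e] at hd3
      omega
    have := Finset.card_le_card hsub
    rw [Finset.card_erase_of_mem (Finset.mem_filter.2 ⟨Finset.mem_univ _, hδ1, δ, hδ1, hδirr, le_rfl⟩)] at this
    omega

/-- Extracting the top orbit. -/
theorem isolate {w : GL D.Idx K} (hwH : w ∈ H) (hwQ : w ∈ S.Q)
    (hoff : ∀ s, pr D S.al s = 1 → (∀ j, (S.O.π : Rt D → Rt D)^[j] tT ≠ s) →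
      S.orbR s (-S.kp s w) ∈ H) : S.orbR tT (S.kp tT w) ∈ H := by
  have hP : ∀ r, (∀ j, (S.O.π : Rt D → Rt D)^[j] tT ≠ r) → ∀ j, (S.O.π : Rt D → Rt D)^[j] tT ≠ S.O.π r := by
    intro r hr j hj
    obtain ⟨m, hm⟩ : ∃ m, S.O.n = m + 1 := ⟨S.O.n - 1, by have := S.O.two_le; omega⟩
    refine hr (m + j) ?_
    rw [Function.iterate_add_apply, hj, ← Function.iterate_succ_apply, show m.succ = S.O.n from hm.symm,
      (S.cert.per r).1]
  obtain ⟨u, A, hA, hu, huQ, huG, hz, hkeep⟩ :=
    S.exists_strip hwQ (hHW hwH) (fun r => ∀ j, (S.O.π : Rt D → Rt D)^[j] tT ≠ r) hP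
  have huH : u ∈ H := by
    rw [hu]
    refine mul_mem hwH (list_prod_mem fun g hg => ?_)
    rw [List.mem_map] at hg
    obtain ⟨x, hx, rfl⟩ := hg
    obtain ⟨h1, h2, h3, -⟩ := hA x hx
    rw [h3]
    exact hoff x.1 h2 h1
  set a := S.kp tT w
  have hat : S.kp tT u = a := hkeep tT R.t1 fun h => h 0 rfl
  have hgood : S.Good tT (-a) := fun h => absurd h R.tmoved
  have hQ' : S.orbR tT (-a) ∈ S.Q := S.orbR_mem_Q R.t1.ge _
  set x := u * S.orbR tT (-a)
  have hxQ : x ∈ S.Q := mul_mem huQ hQ'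
  have hxG : x ∈ S.O.G1 := mul_mem huG (S.orbR_mem hgood)
  obtain ⟨c, hc⟩ := S.exists_X hxQ fun s hs => by
    by_cases h : ∀ j, (S.O.π : Rt D → Rt D)^[j] tT ≠ s
    · rw [S.kp_mul huQ hQ' hs, hz s hs h, S.kp_orbR_off R.t1 hs _ h, add_zero]
    · push Not at h
      obtain ⟨j, rfl⟩ := h
      rw [S.kp_iter hxQ (S.mem_G1.1 hxG).2 R.t1, S.kp_mul huQ hQ' R.t1, hat, S.kp_orbR_self R.t1, add_neg_cancel,
        Function.iterate_fixed (map_zero S.O.φ), mul_zero]
  have hcf : S.O.φ c = c := by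
    have h2 := (S.mem_G1.1 hxG).2
    rw [hc, S.Θ_al] at h2
    exact S.X_inj h2
  have hxH : x ∈ H := by rw [hc]; exact hMH (S.X_mem S.cert.π_al hcf)
  have h1 : S.orbR tT (-a) ∈ H := by
    have : S.orbR tT (-a) = u⁻¹ * x := by simp only [x]; group
    rw [this]; exact mul_mem (inv_mem huH) hxH
  have h2 : (S.orbR tT (-a))⁻¹ = S.orbR tT a := by
    refine inv_eq_of_mul_eq_one_right ?_
    rw [S.orbR_add, neg_add_cancel]
    exact List.prod_eq_one fun g hg => by
      rw [List.mem_map] at hg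
      obtain ⟨j, -, rfl⟩ := hg
      rw [S.iter_X, Function.iterate_fixed (map_zero S.O.φ), mul_zero, C.X_zero]
  rw [← h2]; exact inv_mem h1

theorem exists_irr {v : GL D.Idx K} (hvH : v ∈ H) (hvQ : v ∈ S.Q) (hvM : v ∉ S.M) :
    ∃ a, S.O.φ a ≠ a ∧ S.orbR tT a ∈ H := by
  have hne : ∃ s, pr D S.al s = 1 ∧ S.O.φ (S.kp s v) ≠ S.kp s v := by
    by_contra h
    push Not at h
    exact hvM (S.rat_of_kp hvQ (hHW hvH) h)
  obtain ⟨w, hwH, hwQ, hirr, hoff⟩ := S.push R hMH hHW hvH hvQ hne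
  exact ⟨_, hirr, S.isolate R hMH hHW hwH hwQ fun s h1 h2 => hMH (S.orbR_mem_M (by rw [map_neg, hoff s h1 h2]))⟩

theorem scale {a x : K} (ha : S.orbR tT a ∈ H) (hx : S.O.φ x = x) : S.orbR tT (x * a) ∈ H := by
  by_cases hx0 : x = 0
  · rw [hx0, zero_mul]
    exact hMH (S.orbR_mem_M (map_zero _))
  set u : Kˣ := Units.mk0 x hx0
  set n := C.nR K β u * C.nR K β (-1)
  have hβr : S.O.π β.rev = β.rev := by rw [S.O.π_rev, R.β0]
  have hN : ∀ v : Kˣ, S.O.φ (v : K) = v → C.nR K β v ∈ S.M := fun v hv => by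
    unfold Core.nR
    exact mul_mem (mul_mem (S.X_mem R.β0 hv) (S.X_mem hβr (by simp [hv]))) (S.X_mem R.β0 hv)
  have hnM : n ∈ S.M := mul_mem (hN u hx) (hN (-1) (by simp))
  have hnX : ∀ r t, n * C.X K r t * n⁻¹ = C.X K r (((u ^ pr D β r : Kˣ) : K) * t) := by
    intro r t
    simp only [n]
    rw [C.hR_eq, C.hD_eq_HT, C.HT_X_conj, Core.chA]
    congr 3
    simp only [← zpow_mul]
    exact (C.zpow_fsum u (fun j => co D β j * A D j r) Finset.univ).symm
  have hna : C.Acts n 1 := fun r => ⟨_, hnX r⟩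
  obtain ⟨c, -, -, hc⟩ := S.orb_conj hnM hna tT
  have h1 := hc a
  have h2 : c = x := by
    have e1 := congrArg (S.kp tT) (hc 1)
    rw [show n * S.orbR tT 1 * n⁻¹ = MulAut.conj n (S.orbR tT 1) from rfl, orbR, map_list_prod, List.map_map] at e1
    have e2 : S.kp tT (S.orbR tT (x * 1)) = x * 1 := S.kp_orbR_self R.t1 _
    have hj : ∀ j < S.szR tT, pr D β ((S.O.π : Rt D → Rt D)^[j] tT) = 1 := by
      intro j _
      clear e1
      induction j with
      | zero => exact R.β1
      | succ j ih => rw [Function.iterate_succ_apply']; conv_lhs => rw [← R.β0]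
                     rw [S.cert.π_pr, ih (by omega)]
    rw [List.map_congr_left (g := fun j => (S.O.Θ : GL D.Idx K → GL D.Idx K)^[j] (C.X K tT (x * 1))) (fun j hjm => by
      rw [Function.comp_apply, MulAut.conj_apply, S.iter_X, hnX, hj j (List.mem_range.1 hjm), zpow_one, S.iter_X,
        S.O.φ_iter_mul, Function.iterate_fixed hx]
      congr 1
      simp only [u, Units.val_mk0]; ring)] at e1
    rw [show ((List.range (S.szR tT)).map fun j => (S.O.Θ : GL D.Idx K → GL D.Idx K)^[j] (C.X K tT (x * 1))).prod =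
      S.orbR tT (x * 1) from rfl, e2] at e1
    rw [Equiv.Perm.one_apply, S.kp_orbR_self R.t1, mul_one, mul_one] at e1
    exact e1.symm
  rw [Equiv.Perm.one_apply, h2] at h1
  rw [← h1]
  exact mul_mem (mul_mem (hMH hnM) ha) (inv_mem (hMH hnM))

variable (hJL : ∀ l ∈ JL, ∃ m, S.O.Jl m = l)
include hJL

theorem transport {r : Rt D} (W : List (List (Fin D.rank))) (hW : ∀ l ∈ W, l ∈ JL) (hr : C.pprod W.flatten tT = r) :
    ∃ c : K, c ≠ 0 ∧ S.O.φ c = c ∧ ∃ n ∈ S.M, ∀ a, n * S.orbR tT a * n⁻¹ = S.orbR r (c * a) := by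
  have hwM : C.wprod K W.flatten ∈ S.M := by
    clear hr
    induction W with
    | nil => simp [Core.wprod, one_mem]
    | cons l W ih =>
      obtain ⟨m, hm⟩ := hJL l (hW l List.mem_cons_self)
      rw [List.flatten_cons, C.wprod_append]
      refine mul_mem ?_ (ih fun x hx => hW x (List.mem_cons_of_mem _ hx))
      rw [← hm]
      exact S.mem_M.2 ⟨S.O.tw.nO_mem m, ChevFixed.Basic.map_wprod (C := C) _ _⟩
  obtain ⟨c, h1, h2, h3⟩ := S.orb_conj hwM (C.acts_wprod K W.flatten) tT
  exact ⟨c, h1, h2, _, hwM, fun a => by rw [h3 a, hr]⟩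

theorem eq_top_of_full (hfull : ∀ a, S.orbR tT a ∈ H) : H = S.O.G1 := by
  refine le_antisymm hHW ?_
  refine (Subgroup.closure_le _).2 ?_
  rintro g ⟨m, b, t, ht, rfl⟩
  set i := S.O.os m
  have hsd : ∀ k : ℕ, (S.O.Θ : GL D.Idx K → GL D.Idx K)^[k] (C.X K (sd b (C.p i)) t) =
      C.X K (sd b (C.p ((S.O.ρ : _ → _)^[k] i))) ((S.O.φ : K → K)^[k] t) := by
    intro k
    induction k with
    | zero => rfl
    | succ k ih => rw [Function.iterate_succ_apply', ih, S.O.Θ_sd, Function.iterate_succ_apply', Function.iterate_succ_apply']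
  have hπsd : ∀ j : Fin D.rank, S.O.π (sd b (C.p j)) = sd b (C.p (S.O.ρ j)) := fun j => by
    cases b <;> simp [sd, S.O.π_p, S.O.π_rev]
  have hiff : S.O.π (sd b (C.p i)) = sd b (C.p i) ↔ S.O.ρ i = i := by
    rw [hπsd]
    refine ⟨fun h => ?_, fun h => by rw [h]⟩
    cases b
    · exact C.p_inj h
    · exact C.p_inj (Fin.rev_inj.1 h)
  have hx : S.O.xS b i t = S.orbR (sd b (C.p i)) t := by
    rw [Orth.xS, Orth.oprod, orbR, szR, Orth.sz]
    simp only [hiff, hsd]
  rw [SetLike.mem_coe, hx]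
  by_cases hfix : S.O.ρ i = i
  · refine hMH (S.orbR_mem_M ?_)
    have := ht
    unfold Orth.Valid Orth.sz at this
    rw [if_pos hfix] at this
    exact this
  have hmoved : S.O.π (C.p i) ≠ C.p i := fun h => hfix (C.p_inj (by rw [← S.O.π_p]; exact h))
  obtain ⟨W, k, hW, hr⟩ := R.wit i hmoved b
  obtain ⟨c, hc, -, n, hn, hconj⟩ := S.transport R hMH hHW hJL W hW hr
  have h1 := hconj (c⁻¹ * ((eN S.O.π S.O.ε k.val (sd b (C.p i)) : K) * (S.O.φ : K → K)^[k.val] t))
  rw [mul_inv_cancel_left₀ hc] at h1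
  rw [← S.orbR_shift (fun h => absurd h fun e => hfix (hiff.1 e)) k.val, ← h1]
  exact mul_mem (mul_mem (hMH hn) (hfull _)) (inv_mem (hMH hn))

omit R hMH hHW hJL in
/-- The subfield points are maximal. -/
theorem maximal (R : Rad C S.O.π S.O.ε S.O.n S.al tT β JL) (hJL : ∀ l ∈ JL, ∃ m, S.O.Jl m = l)
    {opp : List (Fin D.rank)} (G : Gen C S.O.π S.al opp)
    {b ε0 : Rt D} (hb : S.O.π b = b) (hε : S.O.π ε0 = ε0) (hb1 : pr D S.al b = 1) (hε1 : pr D S.al ε0 = 1)
    (hsum : C.v S.al = C.v b + C.v ε0)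
    (grow : ∀ H : Subgroup (GL D.Idx K), S.M ≤ H → H ≤ S.O.G1 →
      ∀ a, S.O.φ a ≠ a → S.orbR tT a ∈ H → ∀ c, S.orbR tT c ∈ H) :
    S.M ≠ S.O.G1 ∧ ∀ H : Subgroup (GL D.Idx K), S.M ≤ H → H ≤ S.O.G1 → H = S.M ∨ H = S.O.G1 := by
  refine ⟨fun h => ?_, fun H hMH hHW => ?_⟩
  · obtain ⟨t, ht⟩ := S.O.φ_free 1 one_pos (by have := S.O.two_le; omega)
    have h1 : S.orbR tT t ∈ S.M := by rw [h]; exact S.orbR_mem fun e => absurd e R.tmoved
    have h2 := (S.mem_M.1 h1).2
    rw [S.sF_orbR] at h2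
    have h3 := congrArg (S.kp tT) h2
    rw [S.kp_orbR_self R.t1, S.kp_orbR_self R.t1] at h3
    exact ht (by simpa using h3)
  by_cases hQ : ∀ v ∈ H, v ∈ S.Q → v ∈ S.M
  · exact Or.inl (le_antisymm (S.le_M G hMH hHW hQ hb hε hb1 hε1 hsum) hMH)
  push Not at hQ
  obtain ⟨v, hvH, hvQ, hvM⟩ := hQ
  obtain ⟨a, ha, haH⟩ := S.exists_irr R hMH hHW hvH hvQ hvM
  exact Or.inr (S.eq_top_of_full R hMH hHW hJL (grow H hMH hHW a ha haH))

end Setting

end Cfsg.Agent.Lib.SubfieldTwist29
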