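import Cfsg.Agent.Lib.SubfieldTwist29.Base
import Cfsg.Agent.Lib.ChevFixed.Cell
import Cfsg.Agent.Lib.ChevStructure.CoxeterIso

/-!
The stabiliser of the long root group of the highest root: an element normalising the rational radical is
rational modulo the radical.
-/

set_option autoImplicit false
set_option linter.unusedSectionVars false

namespace Cfsg.Agent.Lib.SubfieldTwist29

open Cfsg.Lie ChevStructure LieTwisted.Twist
open scoped MatrixGroups Matrix

variable {D : ChevalleyDatum}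

/-- The facts giving generators of the Levi complement. -/
structure Gen (C : Core D) (π : Equiv.Perm (Rt D)) (al : Rt D) (opp : List (Fin D.rank)) : Prop where
  gen : ∀ i : Fin D.rank, pr D al (C.p i) = 0 → ∀ b : Bool, ∃ η δ : Rt D, π η = η ∧ pr D al η = -1 ∧
    pr D η δ = -1 ∧ C.v (sd b (C.p i)) = C.v η + C.v δ
  pgrade : ∀ i, pr D al (C.p i) ≤ 1
  opp_neg : ∀ r ∈ C.Pos, C.pprod opp r ∈ C.Neg
  opp_simple : ∀ i, ∃ j, C.pprod opp (C.p j).rev = C.p i

/-- The total height. -/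
def hwt (C : Core D) (a : D.Idx) : ℤ := ∑ m, C.wt a m

/-- The coordinate at a fundamental root. -/
def ks {K : Type*} [Field K] (C : Core D) (i : Fin D.rank) (g : GL D.Idx K) : K :=
  (g : Matrix D.Idx D.Idx K) (Sum.inl i) (Sum.inr (C.p i).rev)

section Simple

variable (C : Core D) {K : Type*} [Field K]

theorem hwt_one {r : Rt D} (hr : r ∈ C.Pos) : 1 ≤ ∑ m, C.v r m := by
  by_contra h
  push Not at h
  refine C.v_ne_zero r (funext fun m => le_antisymm ?_ (C.v_nonneg hr m))
  have h1 : C.v r m ≤ ∑ m, C.v r m := Finset.single_le_sum (fun j _ => C.v_nonneg hr j) (Finset.mem_univ m)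
  show C.v r m ≤ 0
  omega

theorem posUS_le_hwt : C.US K C.Pos ≤ upperU K (hwt C) 0 le_rfl := by
  refine (Subgroup.closure_le _).2 ?_
  rintro g ⟨r, hr, t, rfl⟩
  have key : ∀ t : K, Above (hwt C) 0 (xI D K r t - 1) := by
    intro t
    have e1 : xI D K r t - 1 = ∑ k ∈ Finset.range 3, t ^ (k + 1) • Ek D K (k + 1) r := by
      rw [xI, Finset.sum_range_succ' _ 3, C.Ek_zero]
      simp
    rw [e1]
    intro a b hab
    rw [Matrix.sum_apply] at hab
    obtain ⟨k, -, hk⟩ := Finset.exists_ne_zero_of_sum_ne_zero hab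
    have hE : E D (k + 1) r a b ≠ 0 := fun h0 => hk (by simp [Ek, h0])
    have hw := C.E_weight (k + 1) r a b hE
    show hwt C b + 0 < hwt C a
    simp only [hwt, hw, Pi.add_apply, Pi.smul_apply, smul_eq_mul, Finset.sum_add_distrib, ← Finset.mul_sum]
    have := hwt_one C hr
    push_cast
    nlinarith
  exact ⟨key t, by rw [C.X_inv]; exact key (-t)⟩

theorem hwt_p (i : Fin D.rank) : hwt C (Sum.inr (C.p i).rev : D.Idx) = -1 := by
  simp [hwt, Core.wt, C.v_rev, C.v_p]

theorem ks_mul {g h : GL D.Idx K} (hg : g ∈ C.US K C.Pos) (hh : h ∈ C.US K C.Pos) (i : Fin D.rank) :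
    ks C i (g * h) = ks C i g + ks C i h := by
  have hg' := posUS_le_hwt C hg
  have hh' := posUS_le_hwt C hh
  have hz : ∀ (g : GL D.Idx K), g ∈ upperU K (hwt C) 0 le_rfl → ∀ a b, hwt C a ≤ hwt C b →
      (g : Matrix D.Idx D.Idx K) a b = (1 : Matrix D.Idx D.Idx K) a b := by
    intro g hg a b hab
    by_contra hne
    have := hg.1 a b (by simpa [sub_eq_zero] using hne)
    omega
  have h0 : ∀ j : Fin D.rank, hwt C (Sum.inl j : D.Idx) = 0 := fun j => by simp [hwt, Core.wt]
  rw [ks, Units.val_mul, Matrix.mul_apply,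
    Finset.sum_eq_add (Sum.inl i : D.Idx) (Sum.inr (C.p i).rev) (by simp)]
  · rw [hz g hg' (Sum.inl i) (Sum.inl i) le_rfl, hz h hh' (Sum.inr (C.p i).rev) _ le_rfl, Matrix.one_apply_eq,
      Matrix.one_apply_eq, mul_one, one_mul, ks, ks, add_comm]
  · rintro z - ⟨h1, h2⟩
    rcases le_or_gt 0 (hwt C z) with hh0 | hh0
    · rw [hz g hg' (Sum.inl i) z (by rw [h0]; exact hh0), Matrix.one_apply_ne h1.symm, zero_mul]
    · rw [hz h hh' z _ (by rw [hwt_p]; omega), Matrix.one_apply_ne h2, mul_zero]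
  · simp
  · simp

theorem ks_X {r : Rt D} (hr : r ∈ C.Pos) (t : K) (i : Fin D.rank) :
    ks C i (C.X K r t) = if r = C.p i then t else 0 := by
  have e1 : ∀ k, E D k r (Sum.inl i) (Sum.inr (C.p i).rev) ≠ 0 → k = 1 ∧ r = C.p i := by
    intro k hk
    rcases k with _ | _ | k
    · simp [E, Matrix.one_apply] at hk
    · simp only [E, Matrix.of_apply] at hk
      split_ifs at hk with h
      · exact ⟨rfl, Fin.rev_inj.1 h.2.symm⟩
      · simp at hk
    · simp [E] at hk
  rw [ks, C.X_val, xI, Matrix.sum_apply, Finset.sum_eq_single 1]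
  · split_ifs with h
    · subst h; simp [Ek, E, C.co_p]
    · have : E D 1 r (Sum.inl i) (Sum.inr (C.p i).rev) = 0 := by_contra fun hh => h (e1 1 hh).2
      simp [Ek, this]
  · intro k _ hk
    have : E D k r (Sum.inl i) (Sum.inr (C.p i).rev) = 0 := by_contra fun hh => hk (e1 k hh).1
    simp [Ek, this]
  · simp

theorem ks_one (i : Fin D.rank) : ks C i (1 : GL D.Idx K) = 0 := by simp [ks]

theorem ks_list {α : Type*} (L : List α) (f : α → Rt D) (c : α → K) (hf : ∀ a ∈ L, f a ∈ C.Pos) (i : Fin D.rank) :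
    ks C i (L.map fun a => C.X K (f a) (c a)).prod = (L.map fun a => if f a = C.p i then c a else 0).sum := by
  induction L with
  | nil => simpa using ks_one C i
  | cons a L ih =>
    rw [List.map_cons, List.prod_cons, ks_mul C (C.X_mem_US K (hf a List.mem_cons_self) _) (list_prod_mem fun x hx => by
      rw [List.mem_map] at hx; obtain ⟨b, hb, rfl⟩ := hx
      exact C.X_mem_US K (hf b (List.mem_cons_of_mem _ hb)) _), ks_X C (hf a List.mem_cons_self),
      ih fun b hb => hf b (List.mem_cons_of_mem _ hb)]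
    simp

/-- An element conjugating, for every fundamental root, some element of `U` with nonzero coordinate there into `U`
lies in the Borel subgroup. -/
theorem mem_borel_of (H : CommOK C) {l : GL D.Idx K} (hl : l ∈ D.group K)
    (h : ∀ i, ∃ g ∈ C.US K C.Pos, ks C i g ≠ 0 ∧ l * g * l⁻¹ ∈ C.US K C.Pos) : l ∈ D.borelSubgroup K := by
  obtain ⟨L, b, hb, u, hu, rfl⟩ := ChevFixed.exists_form H hl
  set σ := C.pprod L with hσ
  suffices hσ1 : σ = 1 by
    have hu1 : u = 1 := by
      rw [← Subgroup.mem_bot]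
      refine (Subgroup.closure_le _).2 ?_ hu
      rintro x ⟨r, hr, -⟩
      rw [hσ1] at hr
      exact absurd hr.2 (fun hn => (C.neg_iff_not_pos _).1 hn hr.1)
    rw [hu1, mul_one]
    exact mul_mem hb (C.diagonal_le_borel (C.mem_diagonal_of_acts_one (C.wprod_mem_monomial L)
      (hσ1 ▸ C.acts_wprod K L)))
  by_contra hne
  obtain ⟨i, hi⟩ := C.exists_descent hne
  obtain ⟨g, hg, hk, hg'⟩ := h i
  have hbN : ∀ x ∈ C.US K C.Pos, b⁻¹ * x * b ∈ C.US K C.Pos := by
    intro x hx
    obtain ⟨v, hv, k, hk', e⟩ := C.mem_borel_iff.1 (inv_mem hb)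
    have h1 := (Subgroup.mem_normalizer_iff.1 (C.diag_le_normalizer C.Pos hk') x).1 hx
    have h2 : b⁻¹ * x * b = v * (k * x * k⁻¹) * v⁻¹ := by
      rw [show b = (b⁻¹)⁻¹ from (inv_inv b).symm, e]; group
    rw [h2]
    exact mul_mem (mul_mem hv h1) (inv_mem hv)
  have huP : u ∈ C.US K C.Pos := C.US_mono K (fun r hr => hr.1) hu
  set g'' := u * g * u⁻¹ with hg''
  have hg''P : g'' ∈ C.US K C.Pos := mul_mem (mul_mem huP hg) (inv_mem huP)
  have hconj : C.wprod K L * g'' * (C.wprod K L)⁻¹ ∈ C.US K C.Pos := by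
    have := hbN _ hg'
    convert this using 1
    rw [hg'']; group
  obtain ⟨a, ha, c, hc, hac⟩ := ChevFixed.Basic.exists_split H (A := {r | r ∈ C.Pos ∧ σ r ∈ C.Pos})
    (B := ChevFixed.Basic.invSet C σ) (fun r hr => hr.1)
    (fun r hr => (em (σ r ∈ C.Pos)).elim (fun h => Or.inl ⟨hr, h⟩) fun h => Or.inr ⟨hr, (C.neg_iff_not_pos _).2 h⟩)
    hg''P
  have hc1 : c = 1 := by
    have h1 : C.wprod K L * c * (C.wprod K L)⁻¹ ∈ C.US K C.Neg :=
      C.conj_mem_US K (C.acts_wprod K L) (fun r hr => hr.2) hc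
    have h2 : C.wprod K L * a * (C.wprod K L)⁻¹ ∈ C.US K C.Pos :=
      C.conj_mem_US K (C.acts_wprod K L) (fun r hr => hr.2) ha
    have h3 : C.wprod K L * c * (C.wprod K L)⁻¹ ∈ D.borelSubgroup K ⊓ C.US K C.Neg := by
      refine Subgroup.mem_inf.2 ⟨?_, h1⟩
      have h4 := mul_mem (inv_mem h2) hconj
      rw [hac] at h4
      have e : C.wprod K L * c * (C.wprod K L)⁻¹ =
          (C.wprod K L * a * (C.wprod K L)⁻¹)⁻¹ * (C.wprod K L * (a * c) * (C.wprod K L)⁻¹) := by group
      rw [e]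
      exact C.posUS_le_borel h4
    rw [C.borel_inf_negUS, Subgroup.mem_bot, conj_eq_one_iff] at h3
    exact h3
  rw [hc1, mul_one] at hac
  have hz : ks C i g'' = 0 := by
    rw [hac]
    clear hac
    induction ha using Subgroup.closure_induction with
    | mem x hx =>
      obtain ⟨r, hr, t, rfl⟩ := hx
      rw [ks_X C hr.1, if_neg]
      rintro rfl
      exact (C.neg_iff_not_pos _).1 hi hr.2
    | one => exact ks_one C i
    | mul x y hx hy ihx ihy =>
      rw [ks_mul C (C.US_mono K (fun r hr => hr.1) hx) (C.US_mono K (fun r hr => hr.1) hy), ihx, ihy, add_zero]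
    | inv x hx ih =>
      have hxP := C.US_mono K (fun r (hr : r ∈ {r | r ∈ C.Pos ∧ σ r ∈ C.Pos}) => hr.1) hx
      have := ks_mul C (inv_mem hxP) hxP i
      rw [inv_mul_cancel, ks_one, ih, add_zero] at this
      exact this.symm
  apply hk
  have h1 := ks_mul C (mul_mem huP hg) (inv_mem huP) i
  rw [← hg'', hz, ks_mul C huP hg] at h1
  have h2 := ks_mul C huP (inv_mem huP) i
  rw [mul_inv_cancel, ks_one] at h2
  linear_combination -h1 + h2

end Simple

/-- The elements preserving the grade. -/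
def Gr0 (K : Type*) [Field K] (e : Rt D) : Subgroup (GL D.Idx K) where
  carrier := {g | (∀ a b, gr e a ≠ gr e b → (g : Matrix D.Idx D.Idx K) a b = 0) ∧
    ∀ a b, gr e a ≠ gr e b → ((g⁻¹ : GL D.Idx K) : Matrix D.Idx D.Idx K) a b = 0}
  one_mem' := by
    refine ⟨fun a b h => ?_, fun a b h => ?_⟩ <;> simp [Matrix.one_apply_ne (fun e' => h (congrArg _ e'))]
  mul_mem' := by
    intro x y hx hy
    have key : ∀ (A B : Matrix D.Idx D.Idx K), (∀ a b, gr e a ≠ gr e b → A a b = 0) →
        (∀ a b, gr e a ≠ gr e b → B a b = 0) → ∀ a b, gr e a ≠ gr e b → (A * B) a b = 0 := by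
      intro A B hA hB a b hab
      rw [Matrix.mul_apply]
      refine Finset.sum_eq_zero fun z _ => ?_
      by_cases hz : gr e a = gr e z
      · rw [hB z b (hz ▸ hab), mul_zero]
      · rw [hA a z hz, zero_mul]
    exact ⟨by rw [Units.val_mul]; exact key _ _ hx.1 hy.1, by rw [mul_inv_rev, Units.val_mul]; exact key _ _ hy.2 hx.2⟩
  inv_mem' := fun {x} hx => ⟨hx.2, by rw [inv_inv]; exact hx.1⟩

namespace Setting

variable {C : Core D} {K : Type*} [Field K] (S : Setting C K)
include S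

theorem X_gr0 {r : Rt D} (hr : pr D S.al r = 0) (t : K) : C.X K r t ∈ Gr0 K S.al := by
  have key : ∀ t : K, ∀ a b, gr S.al a ≠ gr S.al b → xI D K r t a b = 0 := by
    intro t a b hab
    rw [xI, Matrix.sum_apply]
    refine Finset.sum_eq_zero fun k _ => ?_
    have : E D k r a b = 0 := by_contra fun h => hab (by
      rw [gr_of_wt C (e := S.al) (C.E_weight k r a b h), hr, mul_zero, add_zero])
    simp [Ek, this]
  exact ⟨key t, by rw [C.X_inv]; exact key (-t)⟩

theorem HT_gr0 (c : Fin D.rank → Kˣ) : C.HT K c ∈ Gr0 K S.al := by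
  have key : ∀ c : Fin D.rank → Kˣ, ∀ a b, gr S.al a ≠ gr S.al b →
      ((C.HT K c : GL D.Idx K) : Matrix D.Idx D.Idx K) a b = 0 := fun c a b h =>
    C.diag_entry K _ a b fun e => h (congrArg _ e)
  exact ⟨key c, by rw [C.HT_inv]; exact key c⁻¹⟩

theorem wprod_gr0 (L : List (Fin D.rank)) (hL : C.pprod L S.al = S.al) : C.wprod K L ∈ Gr0 K S.al := by
  have key : ∀ L : List (Fin D.rank), ∀ a b, ((C.wprod K L : GL D.Idx K) : Matrix D.Idx D.Idx K) a b ≠ 0 →
      (∀ i, a = Sum.inl i → ∃ j, b = Sum.inl j) ∧ (∀ u, a = Sum.inr u → ∃ s, b = Sum.inr s ∧ u = C.pprod L s) := by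
    intro L
    induction L with
    | nil =>
      intro a b h
      have : a = b := by
        by_contra hne; exact h (by simp [Core.wprod, Matrix.one_apply_ne hne])
      subst this
      exact ⟨fun i hi => ⟨i, hi⟩, fun u hu => ⟨u, hu, by simp [Core.pprod]⟩⟩
    | cons i L ih =>
      intro a b h
      rw [C.wprod_cons, Units.val_mul, Matrix.mul_apply] at h
      obtain ⟨z, -, hz⟩ := Finset.exists_ne_zero_of_sum_ne_zero h
      obtain ⟨h1, h2⟩ := mul_ne_zero_iff.1 hz
      rw [C.P_val, Matrix.map_apply] at h1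
      obtain ⟨g1, g2⟩ := ih z b h2
      refine ⟨fun j hj => ?_, fun u hu => ?_⟩
      · subst hj
        rcases z with z | z
        · exact g1 z rfl
        · simp [Pm] at h1
      · subst hu
        rcases z with z | z
        · simp [Pm] at h1
        · obtain ⟨s, rfl, rfl⟩ := g2 z rfl
          refine ⟨s, rfl, ?_⟩
          rw [C.pprod_cons, Equiv.Perm.mul_apply, Core.sref_apply]
          by_contra hne
          simp [Pm, hne] at h1
  have key2 : ∀ L : List (Fin D.rank), C.pprod L S.al = S.al → ∀ a b, gr S.al a ≠ gr S.al b →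
      ((C.wprod K L : GL D.Idx K) : Matrix D.Idx D.Idx K) a b = 0 := by
    intro L hL a b hab
    by_contra h
    obtain ⟨g1, g2⟩ := key L a b h
    rcases a with a | a
    · obtain ⟨j, rfl⟩ := g1 a rfl; exact hab rfl
    · obtain ⟨s, rfl, rfl⟩ := g2 a rfl
      refine hab ?_
      show pr D S.al (C.pprod L s) = pr D S.al s
      conv_lhs => rw [← hL]
      exact pr_pprod C L _ _
  refine ⟨key2 L hL, ?_⟩
  obtain ⟨c, hc⟩ := C.wprod_inv K L
  have hrev : C.pprod L.reverse S.al = S.al := by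
    rw [C.pprod_reverse]
    exact Equiv.Perm.inv_eq_iff_eq.2 hL.symm
  intro a b hab
  rw [hc, Units.val_mul, Matrix.mul_apply]
  refine Finset.sum_eq_zero fun z _ => ?_
  by_cases hz : gr S.al a = gr S.al z
  · rw [key2 _ hrev z b (hz ▸ hab), mul_zero]
  · rw [(S.HT_gr0 c).1 a z hz, zero_mul]

theorem Q_inf_gr0 {g : GL D.Idx K} (h1 : g ∈ S.Q) (h2 : g ∈ Gr0 K S.al) : g = 1 := by
  refine Units.ext ?_
  ext a b
  by_cases hab : gr S.al a = gr S.al b
  · have hg : ∀ x : D.Idx, gr S.al.rev x = -gr S.al x := fun x => by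
      rcases x with x | x <;> simp [gr, S.prR]
    rw [entry_eq C g (US_le_gr C S.al.rev h1) (by rw [hg, hg, hab]), Units.val_one]
  · rw [h2.1 a b hab, Units.val_one, Matrix.one_apply_ne fun e => hab (congrArg _ e)]

theorem commute_pos {r : Rt D} (hr : r ∈ C.Pos) (t u : K) : Commute (C.X K r t) (C.X K S.al u) := by
  show _ * _ = _ * _
  by_cases h : r = S.al
  · subst h; rw [C.X_add, C.X_add, add_comm]
  have h2 : r ≠ S.al.rev := fun e => (C.neg_iff_not_pos _).1 (C.rev_neg S.al_pos) (e ▸ hr)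
  have := S.O.comm.comm_X S.al r h h2 u t
  rw [S.cert.comm0 _ _ h h2 (S.cert.nonneg r hr)] at this
  simpa using this

theorem commute_posUS {v : GL D.Idx K} (hv : v ∈ C.US K C.Pos) (u : K) : Commute v (C.X K S.al u) := by
  induction hv using Subgroup.closure_induction with
  | mem x hx => obtain ⟨r, hr, t, rfl⟩ := hx; exact S.commute_pos hr t u
  | one => exact Commute.one_left _
  | mul x y _ _ hx hy => exact hx.mul_left hy
  | inv x _ hx => exact hx.inv_left

theorem commute_zero {v : GL D.Idx K} (hv : v ∈ C.US K {r | pr D S.al r = 0}) (u : K) :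
    Commute v (C.X K S.al.rev u) := by
  induction hv using Subgroup.closure_induction with
  | mem x hx =>
    obtain ⟨r, hr, t, rfl⟩ := hx
    have hr' : pr D S.al r = 0 := hr
    have h : r ≠ S.al.rev := fun e => by rw [e, S.pr_rev', S.al_pr] at hr'; omega
    have h2 : r ≠ S.al.rev.rev := fun e => by rw [C.rev_rev] at e; rw [e, S.al_pr] at hr'; omega
    have := S.O.comm.comm_X S.al.rev r h h2 u t
    rw [S.cert.comm0 _ _ h h2 (by rw [C.pr_rev, hr']; norm_num)] at this
    show _ * _ = _ * _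
    simpa using this
  | one => exact Commute.one_left _
  | mul x y _ _ hx hy => exact hx.mul_left hy
  | inv x _ hx => exact hx.inv_left

theorem zero_gr0 {v : GL D.Idx K} (hv : v ∈ C.US K {r | pr D S.al r = 0}) : v ∈ Gr0 K S.al := by
  refine (Subgroup.closure_le _).2 ?_ hv
  rintro x ⟨r, hr, t, rfl⟩
  exact S.X_gr0 hr t

theorem zero_normQ {v : GL D.Idx K} (hv : v ∈ C.US K {r | pr D S.al r = 0}) {x : GL D.Idx K} (hx : x ∈ S.Q) :
    v * x * v⁻¹ ∈ S.Q := by
  have : v ∈ Subgroup.normalizer (S.Q : Set (GL D.Idx K)) := by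
    refine (Subgroup.closure_le _).2 ?_ hv
    rintro y ⟨r, hr, t, rfl⟩
    rw [SetLike.mem_coe, Subgroup.mem_normalizer_iff]
    intro z
    have hr' : (0 : ℤ) ≤ pr D S.al r := le_of_eq (Eq.symm hr)
    refine ⟨fun hz => S.normalizes_Q hr' t hz, fun hz => ?_⟩
    have := S.normalizes_Q hr' (-t) hz
    rwa [← C.X_inv, show (C.X K r t)⁻¹ * (C.X K r t * z * (C.X K r t)⁻¹) * ((C.X K r t)⁻¹)⁻¹ = z by group] at this
  exact (Subgroup.mem_normalizer_iff.1 this x).1 hx

/-- The decomposition of the stabiliser of the root group. -/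
theorem levi {h : GL D.Idx K} (hh : h ∈ D.group K) {c1 c2 : K} (h1 : c1 ≠ 0)
    (e : h * C.X K S.al c1 * h⁻¹ = C.X K S.al c2) :
    ∃ q ∈ S.Q, ∃ l, h = q * l ∧ l ∈ D.group K ∧ l ∈ Gr0 K S.al ∧ (∀ v ∈ S.Q, l * v * l⁻¹ ∈ S.Q) ∧
      (∃ c, c ≠ 0 ∧ l * C.X K S.al.rev 1 * l⁻¹ = C.X K S.al.rev c) ∧
      (∃ c, c ≠ 0 ∧ ∀ t, l * C.X K S.al t * l⁻¹ = C.X K S.al (c * t)) := by
  obtain ⟨v, c, L, u, hv, hu, rfl⟩ := ChevFixed.Basic.exists_normalForm S.O.comm hh
  set σ := C.pprod L
  have huP : u ∈ C.US K C.Pos := C.US_mono K (fun r hr => hr.1) hu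
  have hact := C.acts_HT_wprod K c L
  obtain ⟨f, hf⟩ := hact S.al
  have hcu : ∀ t, u * C.X K S.al t * u⁻¹ = C.X K S.al t := fun t => by
    rw [(S.commute_posUS huP t).eq, mul_inv_cancel_right]
  have key : ∀ t, v * C.HT K c * C.wprod K L * u * C.X K S.al t * (v * C.HT K c * C.wprod K L * u)⁻¹ =
      v * C.X K (σ S.al) ((f : K) * t) * v⁻¹ := by
    intro t
    rw [← hf]
    conv_rhs => rw [← hcu t]
    group
  rw [key] at e
  have e2 : C.X K (σ S.al) ((f : K) * c1) = C.X K S.al c2 := by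
    have := S.commute_posUS hv c2
    calc C.X K (σ S.al) ((f : K) * c1) = v⁻¹ * (v * C.X K (σ S.al) ((f : K) * c1) * v⁻¹) * v := by group
      _ = v⁻¹ * (C.X K S.al c2 * v) := by rw [e, mul_assoc]
      _ = _ := by rw [← this.eq, inv_mul_cancel_left]
  have hσ : σ S.al = S.al := by
    by_contra hne
    exact mul_ne_zero (Units.ne_zero f) h1 (C.X_eq_X K e2 hne)
  have hσ0 : ∀ r, pr D S.al (σ r) = pr D S.al r := fun r => by
    conv_lhs => rw [← hσ]
    exact pr_pprod C L _ _
  have hu0 : u ∈ C.US K {r | pr D S.al r = 0} := by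
    refine C.US_mono K ?_ hu
    intro r hr
    have h1 := S.cert.nonneg r hr.1
    have h2 := S.cert.nonneg _ (C.rev_pos hr.2)
    rw [S.pr_rev', hσ0] at h2
    show pr D S.al r = 0
    omega
  obtain ⟨q, hq, v0, hv0, hvv⟩ := ChevFixed.Basic.exists_split S.O.comm (A := Qs S.al.rev)
    (B := {r | pr D S.al r = 0}) S.Qs_pos (fun r hr => by
      rcases (S.cert.nonneg r hr).eq_or_lt with h | h
      · exact Or.inr h.symm
      · exact Or.inl (S.mem_Qs.2 h)) hv
  set l := v0 * C.HT K c * C.wprod K L * u with hl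
  have hfl : ∀ t, l * C.X K S.al t * l⁻¹ = C.X K S.al ((f : K) * t) := by
    intro t
    have e3 : l * C.X K S.al t * l⁻¹ = q⁻¹ * (v * C.HT K c * C.wprod K L * u * C.X K S.al t *
        (v * C.HT K c * C.wprod K L * u)⁻¹) * q := by
      rw [hl, hvv]; group
    rw [e3, key, hσ]
    have h2 := S.commute_posUS hv ((f : K) * t)
    have h3 := S.commute_posUS (S.Q_le_pos hq) ((f : K) * t)
    rw [h2.eq, mul_inv_cancel_right, mul_assoc, ← h3.eq, inv_mul_cancel_left]
  refine ⟨q, hq, l, by rw [hl, hvv]; simp only [mul_assoc], ?_, ?_, ?_, ?_, ⟨f, Units.ne_zero f, hfl⟩⟩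
  · exact mul_mem (mul_mem (mul_mem (C.US_le_group _ hv0) (C.HT_mem_group c))
      (C.monomial_le_group (C.wprod_mem_monomial L))) (C.US_le_group _ hu0)
  · exact mul_mem (mul_mem (mul_mem (S.zero_gr0 hv0) (S.HT_gr0 c)) (S.wprod_gr0 L hσ)) (S.zero_gr0 hu0)
  · intro x hx
    have h1 := S.zero_normQ hu0 hx
    have h2 : C.HT K c * C.wprod K L * (u * x * u⁻¹) * (C.HT K c * C.wprod K L)⁻¹ ∈ S.Q := by
      refine C.conj_mem_US K hact ?_ h1
      intro r hr
      exact S.mem_Qs.2 (by rw [hσ0]; exact S.mem_Qs.1 hr)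
    have h3 := S.zero_normQ hv0 h2
    convert h3 using 1
    rw [hl]; group
  · have hσr : σ S.al.rev = S.al.rev := by rw [C.pprod_rev, hσ]
    obtain ⟨f', hf'⟩ := hact S.al.rev
    refine ⟨f', Units.ne_zero f', ?_⟩
    rw [hl, show v0 * C.HT K c * C.wprod K L * u * C.X K S.al.rev 1 * (v0 * C.HT K c * C.wprod K L * u)⁻¹ =
      v0 * ((C.HT K c * C.wprod K L) * (u * C.X K S.al.rev 1 * u⁻¹) * (C.HT K c * C.wprod K L)⁻¹) * v0⁻¹ by group,
      (S.commute_zero hu0 1).eq, mul_inv_cancel_right, hf', mul_one, hσr, (S.commute_zero hv0 _).eq,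
      mul_inv_cancel_right]

end Setting

end Cfsg.Agent.Lib.SubfieldTwist29
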