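import Cfsg.Agent.Lib.SubfieldTwist29.Rigid

/-!
Rigidity of the Levi complement: an element of it centralising the rational radical modulo the centre is
trivial, and the resulting rationality of the stabiliser of the long root group.
-/

set_option autoImplicit false
set_option linter.unusedSectionVars false
set_option maxHeartbeats 1000000

namespace Cfsg.Agent.Lib.SubfieldTwist29

open Cfsg.Lie ChevStructure LieTwisted.Twist
open scoped MatrixGroups Matrix

variable {D : ChevalleyDatum}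

namespace Setting

variable {C : Core D} {K : Type*} [Field K] [Finite K] (S : Setting C K)
include S

/-- n_α. -/
def nA : GL D.Idx K := C.nR K S.al 1

theorem φ_int (c : ℤ) : S.O.φ (c : K) = c := map_intCast S.O.φ c

theorem nA_mem : S.nA ∈ S.M := by
  have h1 : ∀ c : K, S.O.φ c = c → C.X K S.al c ∈ S.M := fun c hc => S.X_mem S.cert.π_al hc
  have h2 : ∀ c : K, S.O.φ c = c → C.X K S.al.rev c ∈ S.M := fun c hc => S.X_mem S.al_rev_fix hc
  unfold nA Core.nR
  exact mul_mem (mul_mem (h1 _ (by simp)) (h2 _ (by simp))) (h1 _ (by simp))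

theorem nA_X (t : K) : S.nA * C.X K S.al t * S.nA⁻¹ = C.X K S.al.rev (-t) := by
  rw [nA, C.nR_X_conj]; simp

theorem fix_Θ {g : GL D.Idx K} (hg : g ∈ S.M) : S.O.Θ g = g := (S.mem_G1.1 (S.mem_M.1 hg).1).2

theorem iter_fix {g : GL D.Idx K} (hg : S.O.Θ g = g) (k : ℕ) : (S.O.Θ : GL D.Idx K → GL D.Idx K)^[k] g = g :=
  Function.iterate_fixed hg k

theorem iter_mul (k : ℕ) (a b : GL D.Idx K) : (S.O.Θ : GL D.Idx K → GL D.Idx K)^[k] (a * b) =
    (S.O.Θ : GL D.Idx K → GL D.Idx K)^[k] a * (S.O.Θ : GL D.Idx K → GL D.Idx K)^[k] b :=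
  iterate_map_mul S.O.Θ k a b

/-- A reflected fixed root. -/
theorem nA_root (r : Rt D) : ∃ s : Rt D, C.v s = C.v r - pr D S.al r • C.v S.al ∧
    pr D S.al s = -pr D S.al r ∧ (S.O.π s = s ↔ S.O.π r = r) ∧
    ∃ c : K, c ≠ 0 ∧ ∀ t, S.nA * C.X K r t * S.nA⁻¹ = C.X K s (c * t) := by
  obtain ⟨s, hv, c, hc, h⟩ := nR_conj C K S.al 1 r
  refine ⟨s, hv, ?_, ?_, c, hc, h⟩
  · have e : C.v s = (1 : ℤ) • C.v r + (-pr D S.al r) • C.v S.al := by rw [hv]; module
    have := pr_lin C e S.al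
    rw [S.al_pr] at this
    rw [this]; ring
  · have hn := S.fix_Θ S.nA_mem
    have e : ∀ t, S.nA * C.X K (S.O.π r) ((S.O.ε r : K) * S.O.φ t) * S.nA⁻¹ =
        C.X K (S.O.π s) ((S.O.ε s : K) * S.O.φ (c * t)) := by
      intro t
      have := congrArg S.O.Θ (h t)
      rw [← nA, map_mul, map_mul, map_inv, hn, S.O.Θ_X, S.O.Θ_X] at this
      exact this
    have hne : (S.O.ε s : K) * S.O.φ (c * 1) ≠ 0 := mul_ne_zero (S.O.ε_ne s) (by simpa using hc)
    constructor
    · intro hs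
      by_contra hr
      obtain ⟨s', hv', c', hc', h'⟩ := nR_conj C K S.al 1 (S.O.π r)
      have h2 := e 1
      rw [hs] at h2
      have h3 : C.X K s' (c' * ((S.O.ε r : K) * S.O.φ 1)) = C.X K s ((S.O.ε s : K) * S.O.φ (c * 1)) :=
        (h' _).symm.trans h2
      have hss : s' = s := by
        by_contra hne'
        exact (mul_ne_zero hc' (mul_ne_zero (S.O.ε_ne r) (by simp))) (C.X_eq_X K h3 hne')
      refine hr (C.v_inj ?_)
      rw [hss, hv, S.π_prA] at hv'
      exact (sub_left_inj.1 hv'.symm)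
    · intro hr
      by_contra hs
      have h2 := e 1
      rw [hr, nA, h] at h2
      exact hne (C.X_eq_X K h2.symm hs)

theorem conj_one {a s : Rt D} (h : pr D a s = -1) : ∃ q : Rt D, ∃ c0 : ℤ, (c0 = 1 ∨ c0 = -1) ∧
    C.v q = C.v a + C.v s ∧ ∀ c u : K, C.X K a c * C.X K s u * (C.X K a c)⁻¹ = C.X K s u * C.X K q (c0 * c * u) := by
  have h1 : s ≠ a := fun e => by rw [e, C.pr_self] at h; omega
  have h2 : s ≠ a.rev := fun e => by rw [e, S.pr_rev', C.pr_self] at h; omega
  obtain ⟨q, hq⟩ := S.cert.comm1 a s h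
  have key : ∀ c0 : ℤ, D.commTerms a.val s.val = [(q.val, c0, 1, 1)] → C.v q = C.v a + C.v s ∧
      ∀ c u : K, C.X K a c * C.X K s u * (C.X K a c)⁻¹ = C.X K s u * C.X K q (c0 * c * u) := by
    intro c0 he
    constructor
    · obtain ⟨q', hq', -, -, hv⟩ := S.O.comm.terms a s h1 h2 (q.val, c0, 1, 1) (by rw [he]; exact List.mem_singleton_self _)
      have : q = q' := Fin.ext hq'
      subst this
      simpa using hv
    · intro c u
      have e := S.O.comm.comm_X a s h1 h2 (-c) u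
      rw [he] at e
      simp only [List.map_cons, List.map_nil, List.prod_cons, List.prod_nil, mul_one, C.XN_fin, pow_one, neg_neg] at e
      rw [C.X_inv, mul_assoc, e, ← mul_assoc, ← mul_assoc, C.X_add, add_neg_cancel, C.X_zero, one_mul]
  rcases hq with hq | hq
  · exact ⟨q, 1, Or.inl rfl, key 1 hq⟩
  · exact ⟨q, -1, Or.inr rfl, key (-1) hq⟩

/-- Root vectors of grade one have no component of grade zero on the lowest vector. -/
theorem col_zero {δ : Rt D} (h : pr D S.al δ = 1) (t : K) {z : D.Idx} (hz : gr S.al z = 0) :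
    ((C.X K δ t : GL D.Idx K) : Matrix D.Idx D.Idx K) z (Sum.inr S.al.rev) = 0 := by
  rw [C.X_val, xI, Matrix.sum_apply]
  refine Finset.sum_eq_zero fun k _ => ?_
  suffices E D k δ z (Sum.inr S.al.rev) = 0 by simp [Ek, this]
  by_contra hE
  have hw := C.E_weight k δ _ _ hE
  have hg := gr_of_wt C (e := S.al) hw
  rw [hz, h] at hg
  simp only [gr, Sum.elim_inr, S.pr_rev', S.al_pr] at hg
  obtain rfl : k = 2 := by omega
  rcases z with z | u
  · simp [E] at hE
  · have hv : C.v u = (-1 : ℤ) • C.v S.al + (2 : ℤ) • C.v δ := by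
      simp only [Core.wt, C.v_rev] at hw
      rw [hw]; push_cast; module
    have h3 := pr_lin C hv δ
    rw [S.cert.symm δ S.al, h, C.pr_self] at h3
    have h4 := S.cert.small δ u.rev (by rw [S.pr_rev']; omega)
    rw [Fin.rev_inj] at h4
    rw [h4, C.pr_self] at h3
    omega

/-- The hypotheses on an element of the Levi complement. -/
structure Lev (l : GL D.Idx K) : Prop where
  grp : l ∈ D.group K
  g0 : l ∈ Gr0 K S.al
  nQ : ∀ v ∈ S.Q, l * v * l⁻¹ ∈ S.Q
  cA : ∀ t, l * C.X K S.al t * l⁻¹ = C.X K S.al t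
  cR : l * C.X K S.al.rev 1 * l⁻¹ = C.X K S.al.rev 1
  hx : ∀ x ∈ S.M, x ∈ S.Q → ∃ d, l * x * l⁻¹ = x * C.X K S.al d

/-- An orbit product under a monomial element: the coordinate at the image of the first root. -/
theorem ks_orb {n : GL D.Idx K} {σ : Equiv.Perm (Rt D)} (hn : C.Acts n σ) {r : Rt D}
    (hpos : ∀ j, σ ((S.O.π : Rt D → Rt D)^[j] r) ∈ C.Pos) {i : Fin D.rank} (hi : σ r = C.p i) {c : K} (hc : c ≠ 0) :
    n * S.orbR r c * n⁻¹ ∈ C.US K C.Pos ∧ ks C i (n * S.orbR r c * n⁻¹) ≠ 0 := by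
  choose e he using hn
  have h1 : n * S.orbR r c * n⁻¹ = ((List.range (S.szR r)).map fun j => C.X K (σ ((S.O.π : Rt D → Rt D)^[j] r))
      ((e ((S.O.π : Rt D → Rt D)^[j] r) : K) * ((eN S.O.π S.O.ε j r : K) * (S.O.φ : K → K)^[j] c))).prod := by
    rw [show n * S.orbR r c * n⁻¹ = MulAut.conj n (S.orbR r c) from rfl, orbR, map_list_prod, List.map_map]
    refine congrArg List.prod (List.map_congr_left fun j _ => ?_)
    rw [Function.comp_apply, S.iter_X, MulAut.conj_apply, he]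
  rw [h1]
  refine ⟨list_prod_mem fun x hx => ?_, ?_⟩
  · rw [List.mem_map] at hx
    obtain ⟨j, -, rfl⟩ := hx
    exact C.X_mem_US K (hpos j) _
  rw [ks_list C _ _ _ (fun j _ => hpos j), List.sum_map_eq_nsmul_single 0]
  · simp [List.count_eq_one_of_mem List.nodup_range (List.mem_range.2 (S.szR_pos r)), hi, eN, hc]
  · intro j hj hjm
    refine if_neg fun h => ?_
    exact (S.iter_lt (List.mem_range.1 hjm) (S.szR_pos r) hj).1 (σ.injective (h.trans hi.symm))

variable {S}
variable {l : GL D.Idx K} (hl : S.Lev l)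
include hl

theorem Lev.comm_nA : l * S.nA * l⁻¹ = S.nA := by
  have h3 : l * C.X K S.al.rev (-1) * l⁻¹ = C.X K S.al.rev (-1) := by
    rw [← C.X_inv]
    conv_rhs => rw [← hl.cR]
    group
  unfold nA Core.nR
  simp only [inv_one, Units.val_one]
  calc l * (C.X K S.al 1 * C.X K S.al.rev (-1) * C.X K S.al 1) * l⁻¹
      = (l * C.X K S.al 1 * l⁻¹) * (l * C.X K S.al.rev (-1) * l⁻¹) * (l * C.X K S.al 1 * l⁻¹) := by group
    _ = _ := by rw [hl.cA, h3]

theorem Lev.exact {δ : Rt D} (h : pr D S.al δ = 1) {t : K} (hM : C.X K δ t ∈ S.M) :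
    l * C.X K δ t * l⁻¹ = C.X K δ t := by
  obtain ⟨d, hd⟩ := hl.hx _ hM (C.X_mem_US K (S.mem_Qs.2 h.ge) t)
  suffices d = 0 by rw [hd, this, C.X_zero, mul_one]
  set c : D.Idx := Sum.inr S.al.rev
  have hgc : gr S.al c = -2 := by simp [c, gr, S.pr_rev', S.al_pr]
  have hlc : ∀ z, z ≠ c → (l : Matrix D.Idx D.Idx K) z c = 0 := by
    intro z hz
    refine hl.g0.1 z c fun e => ?_
    rw [hgc] at e
    rcases z with z | z
    · simp [gr] at e
    · exact hz (by rw [S.cert.top.two z e])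
  have hb : (l : Matrix D.Idx D.Idx K) c c ≠ 0 := by
    intro h0
    have h1 : ((l⁻¹ * l : GL D.Idx K) : Matrix D.Idx D.Idx K) c c = 0 := by
      rw [Units.val_mul, Matrix.mul_apply]
      refine Finset.sum_eq_zero fun z _ => ?_
      by_cases hz : z = c
      · rw [hz, h0, mul_zero]
      · rw [hlc z hz, mul_zero]
    simp at h1
  refine C.eq_zero_of_co_mul K (k := S.al) fun j => ?_
  have e : l * C.X K δ t = C.X K δ t * C.X K S.al d * l := by rw [← hd]; group
  have e1 := congrArg (fun g : GL D.Idx K => (g : Matrix D.Idx D.Idx K) (Sum.inl j) c) e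
  rw [Units.val_mul, Matrix.mul_apply, Finset.sum_eq_zero] at e1
  · rw [Units.val_mul, Matrix.mul_apply, Finset.sum_eq_single c (fun z _ hz => by rw [hlc z hz, mul_zero])
      (by simp)] at e1
    have h2 := (mul_eq_zero.1 e1.symm).resolve_right hb
    rw [Units.val_mul, Matrix.mul_apply] at h2
    have hcol : ∀ z : D.Idx, ((C.X K S.al d : GL D.Idx K) : Matrix D.Idx D.Idx K) z c =
        Sum.elim (fun i => (co D S.al i : K) * d) (fun u => if u = S.al then -d ^ 2 else if u = S.al.rev then 1 else 0) z := by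
      intro z
      rw [C.X_val, xI, Matrix.sum_apply]
      rcases z with i | u
      · simp [Finset.sum_range_succ, Ek, E, c, mul_comm]
      · by_cases hu : u = S.al
        · subst hu; simp [Finset.sum_range_succ, Ek, E, c, Matrix.one_apply, (C.ne_rev S.al).symm]
        · by_cases hur : u = S.al.rev
          · subst hur; simp [Finset.sum_range_succ, Ek, E, c, hu]
          · simp [Finset.sum_range_succ, Ek, E, c, Matrix.one_apply, hu, hur]
    have hrow : ∀ i : Fin D.rank, ((C.X K δ t : GL D.Idx K) : Matrix D.Idx D.Idx K) (Sum.inl j) (Sum.inl i) =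
        if j = i then 1 else 0 := fun i => by
      rw [C.X_val, xI, Matrix.sum_apply]
      simp [Finset.sum_range_succ, Ek, E, Matrix.one_apply]
    simp only [hcol, Fintype.sum_sum_type, Sum.elim_inl, Sum.elim_inr, hrow] at h2
    rw [Finset.sum_eq_single j (fun i _ hi => by simp [Ne.symm hi]) (by simp), if_pos rfl, one_mul,
      Finset.sum_eq_zero, add_zero] at h2
    · exact h2
    · intro u _
      by_cases hu : u = S.al
      · subst hu
        have : ((C.X K δ t : GL D.Idx K) : Matrix D.Idx D.Idx K) (Sum.inl j) (Sum.inr S.al) = 0 := by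
          have h5 : S.al ≠ δ.rev := fun e => by
            have := congrArg (pr D S.al) e
            rw [S.al_pr, S.pr_rev', h] at this; omega
          rw [C.X_val, xI, Matrix.sum_apply]
          simp [Finset.sum_range_succ, Ek, E, Matrix.one_apply, h5]
        rw [this, zero_mul]
      · by_cases hur : u = S.al.rev
        · subst hur; rw [S.col_zero h t (z := Sum.inl j) rfl, zero_mul]
        · simp [hu, hur]
  · intro z _
    by_cases hz : gr S.al z = 0
    · rw [S.col_zero h t hz, mul_zero]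
    · rw [hl.g0.1 _ z (fun e => hz (e.symm.trans rfl)), zero_mul]

/-- The rational root element of a root of the Levi complement. -/
theorem Lev.comm_orb {r η δ : Rt D} (hr : pr D S.al r = 0) (hη : S.O.π η = η) (hη1 : pr D S.al η = -1)
    (hδη : pr D η δ = -1) (hv : C.v r = C.v η + C.v δ) :
    ∃ c : K, c ≠ 0 ∧ l * S.orbR r c * l⁻¹ = S.orbR r c := by
  have hvz : C.v r = (1 : ℤ) • C.v η + (1 : ℤ) • C.v δ := by rw [hv]; module
  have hδ : pr D S.al δ = 1 := by
    have := pr_lin C hvz S.al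
    omega
  obtain ⟨q, c0, hc0, hvq, hconj⟩ := S.conj_one hδη
  have hqr : q = r := C.v_inj (hvq.trans hv.symm)
  subst hqr
  have hc : (c0 : K) ≠ 0 := by rcases hc0 with h | h <;> simp [h]
  refine ⟨c0, hc, ?_⟩
  have hXη : C.X K η 1 ∈ S.M := S.X_mem hη (map_one _)
  have he : C.X K η 1 * C.X K δ 1 * (C.X K η 1)⁻¹ = C.X K δ 1 * C.X K q (c0 : K) := by
    rw [hconj, mul_one, mul_one]
  have hfix := S.fix_Θ hXη
  have he' := congrArg S.O.Θ he
  rw [map_mul, map_mul, map_inv, hfix, map_mul, S.O.Θ_X, S.O.Θ_X, map_one, mul_one, map_intCast] at he'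
  have hsz : S.szR δ = S.szR q := by
    have hiff : S.O.π δ = δ ↔ S.O.π q = q := by
      constructor
      · intro hd
        rw [hd, S.cert.ε_fix δ hd, Int.cast_one, he, mul_right_inj] at he'
        by_contra hne
        exact hc (C.X_eq_X K he' (Ne.symm hne))
      · intro hq
        rw [hq, S.cert.ε_fix q hq, Int.cast_one, one_mul] at he'
        by_contra hne
        obtain ⟨w, c1, hc1, hvw, h1⟩ := S.conj_one (K := K) (a := η) (s := S.O.π δ) (by
          have := S.cert.π_pr η δ; rwa [hη, hδη] at this)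
        rw [h1] at he'
        have hwq : w = q := by_contra fun hne' =>
          (by rcases hc1 with h | h <;> simp [h, S.O.ε_ne δ] : ((c1 : K) * 1 * (S.O.ε δ : K)) ≠ 0)
            (C.X_eq_X K (mul_left_cancel he') hne')
        subst hwq
        exact hne (C.v_inj (add_left_cancel (hvw.symm.trans hvq)))
    simp only [szR, hiff]
  set A := fun j => (S.O.Θ : GL D.Idx K → GL D.Idx K)^[j] (C.X K δ 1)
  set B := fun j => (S.O.Θ : GL D.Idx K → GL D.Idx K)^[j] (C.X K q (c0 : K))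
  have hE : C.X K η 1 * S.orbR δ 1 * (C.X K η 1)⁻¹ = ((List.range (S.szR δ)).map fun j => A j * B j).prod := by
    rw [show C.X K η 1 * S.orbR δ 1 * (C.X K η 1)⁻¹ = MulAut.conj (C.X K η 1) (S.orbR δ 1) from rfl, orbR,
      map_list_prod, List.map_map]
    refine congrArg List.prod (List.map_congr_left fun j _ => ?_)
    show C.X K η 1 * (S.O.Θ : GL D.Idx K → GL D.Idx K)^[j] (C.X K δ 1) * (C.X K η 1)⁻¹ = A j * B j
    rw [← S.iter_mul, ← he, S.iter_mul, S.iter_mul, S.iter_fix hfix, S.iter_fix (g := (C.X K η 1)⁻¹) (by rw [map_inv, hfix])]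
  have hAQ : ∀ j, A j ∈ S.Q := fun j => by
    show (S.O.Θ : GL D.Idx K → GL D.Idx K)^[j] _ ∈ _
    rw [S.iter_X]
    exact C.X_mem_US K (S.mem_Qs.2 (by rw [S.π_prA', hδ])) _
  have hBn : ∀ j, ∀ x ∈ S.Q, B j * x * (B j)⁻¹ ∈ S.Q := fun j x hx => by
    show (S.O.Θ : GL D.Idx K → GL D.Idx K)^[j] (C.X K q (c0 : K)) * x *
      ((S.O.Θ : GL D.Idx K → GL D.Idx K)^[j] (C.X K q (c0 : K)))⁻¹ ∈ S.Q
    rw [S.iter_X]
    exact S.normalizes_Q (by rw [S.π_prA', hr]) _ hx
  have hlist : ∀ L : List ℕ, (L.map fun j => A j * B j).prod * ((L.map B).prod)⁻¹ ∈ S.Q := by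
    intro L
    induction L with
    | nil => simp [one_mem]
    | cons j L ih =>
      rw [List.map_cons, List.prod_cons, List.map_cons, List.prod_cons, show
        A j * B j * (L.map fun j => A j * B j).prod * (B j * (L.map B).prod)⁻¹ =
          A j * (B j * ((L.map fun j => A j * B j).prod * ((L.map B).prod)⁻¹) * (B j)⁻¹) by group]
      exact mul_mem (hAQ j) (hBn j _ ih)
  have hR : S.orbR q (c0 : K) = ((List.range (S.szR δ)).map B).prod := by rw [orbR, hsz]
  set E := C.X K η 1 * S.orbR δ 1 * (C.X K η 1)⁻¹ with hEdef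
  set R := S.orbR q (c0 : K)
  have hq0 : E * R⁻¹ ∈ S.Q := by rw [hE, hR]; exact hlist _
  obtain ⟨δ0, hv0, hδ0, hfix0, cc, hcc, hconj0⟩ := S.nA_root η
  have hlη : l * C.X K η 1 * l⁻¹ = C.X K η 1 := by
    have hM : C.X K δ0 (cc * 1) ∈ S.M := by
      rw [← hconj0]; exact mul_mem (mul_mem S.nA_mem hXη) (inv_mem S.nA_mem)
    have h1 := hl.exact (by rw [hδ0, hη1]; rfl) hM
    rw [← hconj0] at h1
    have h2 := hl.comm_nA
    calc l * C.X K η 1 * l⁻¹ = (l * S.nA * l⁻¹)⁻¹ * (l * (S.nA * C.X K η 1 * S.nA⁻¹) * l⁻¹) * (l * S.nA * l⁻¹) := by group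
      _ = _ := by rw [h1, h2]; group
  obtain ⟨d, hd⟩ := hl.hx _ (S.orbR_mem_M (r := δ) (map_one _)) (S.orbR_mem_Q hδ.ge 1)
  set Y := C.X K η 1 * C.X K S.al d * (C.X K η 1)⁻¹ with hY
  have hlE : l * E * l⁻¹ = E * Y := by
    calc l * E * l⁻¹ = (l * C.X K η 1 * l⁻¹) * (l * S.orbR δ 1 * l⁻¹) * (l * C.X K η 1 * l⁻¹)⁻¹ := by
          rw [hEdef]; group
      _ = _ := by rw [hlη, hd, hEdef, hY]; group
  have hYQ : Y ∈ S.Q := by
    obtain ⟨w, c1, -, hvw, h1⟩ := S.conj_one (K := K) (a := η) (s := S.al) (by rw [S.cert.symm, hη1])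
    rw [hY, h1]
    refine mul_mem (C.X_mem_US K S.al_mem _) (C.X_mem_US K (S.mem_Qs.2 ?_) _)
    have := pr_lin C (show C.v w = (1 : ℤ) • C.v η + (1 : ℤ) • C.v S.al by rw [hvw]; module) S.al
    rw [hη1, S.al_pr] at this
    omega
  have hRG : R ∈ Gr0 K S.al := by
    refine list_prod_mem fun x hx => ?_
    rw [List.mem_map] at hx
    obtain ⟨j, -, rfl⟩ := hx
    rw [S.iter_X]
    exact S.X_gr0 (by rw [S.π_prA', hr]) _
  have hRn : ∀ x ∈ S.Q, R * x * R⁻¹ ∈ S.Q := by
    rw [hR]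
    induction (List.range (S.szR δ)) with
    | nil => simp
    | cons j L ih =>
      intro x hx
      rw [List.map_cons, List.prod_cons, show B j * (L.map B).prod * x * (B j * (L.map B).prod)⁻¹ =
        B j * ((L.map B).prod * x * ((L.map B).prod)⁻¹) * (B j)⁻¹ by group]
      exact hBn j _ (ih x hx)
  have h1 : l * R * l⁻¹ * R⁻¹ ∈ S.Q := by
    have e : l * R * l⁻¹ * R⁻¹ = (l * (E * R⁻¹) * l⁻¹)⁻¹ * ((E * R⁻¹) * (R * Y * R⁻¹)) := by
      rw [show (l * (E * R⁻¹) * l⁻¹)⁻¹ = (l * R * l⁻¹) * (l * E * l⁻¹)⁻¹ by group, hlE]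
      group
    rw [e]
    exact mul_mem (inv_mem (hl.nQ _ hq0)) (mul_mem hq0 (hRn _ hYQ))
  have h2 : l * R * l⁻¹ * R⁻¹ ∈ Gr0 K S.al :=
    mul_mem (mul_mem (mul_mem hl.g0 hRG) (inv_mem hl.g0)) (inv_mem hRG)
  exact mul_inv_eq_one.1 (S.Q_inf_gr0 h1 h2)

theorem Lev.eq_one {opp : List (Fin D.rank)} (G : Gen C S.O.π S.al opp) : l = 1 := by
  have hπpos : ∀ {r}, r ∈ C.Pos → ∀ j, (S.O.π : Rt D → Rt D)^[j] r ∈ C.Pos := fun {r} hr j => by
    induction j with
    | zero => exact hr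
    | succ j ih => rw [Function.iterate_succ_apply']; exact S.O.π_pos _ ih
  have hπrev : ∀ r j, (S.O.π : Rt D → Rt D)^[j] r.rev = ((S.O.π : Rt D → Rt D)^[j] r).rev := fun r j => by
    induction j with
    | zero => rfl
    | succ j ih => rw [Function.iterate_succ_apply', ih, S.O.π_rev, Function.iterate_succ_apply']
  have hn0 := C.acts_wprod K opp
  set σ0 := C.pprod opp
  have hopp : ∀ r ∈ C.Neg, σ0 r ∈ C.Pos := fun r hr => by
    have := C.rev_pos (G.opp_neg _ (C.rev_pos hr))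
    rwa [C.pprod_rev, C.rev_rev] at this
  have hpos : ∀ i, ∃ g ∈ C.US K C.Pos, ks C i g ≠ 0 ∧ l * g * l⁻¹ ∈ C.US K C.Pos ∧
      ks C i (l * g * l⁻¹) = ks C i g := by
    intro i
    have hp : ∀ j, ((1 : Equiv.Perm (Rt D))) ((S.O.π : Rt D → Rt D)^[j] (C.p i)) ∈ C.Pos :=
      fun j => hπpos (C.p_pos i) j
    rcases (S.cert.nonneg _ (C.p_pos i)).eq_or_lt with h0 | h1
    · obtain ⟨η, δ, a1, a2, a3, a4⟩ := G.gen i h0.symm false
      obtain ⟨c, hc, he⟩ := hl.comm_orb h0.symm a1 a2 a3 a4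
      obtain ⟨m1, m2⟩ := S.ks_orb (n := 1) (σ := 1) (fun r => ⟨1, fun t => by simp⟩) hp rfl hc
      rw [one_mul, inv_one, mul_one] at m1 m2
      exact ⟨_, m1, m2, by rw [he]; exact m1, by rw [he]⟩
    · have h1' : pr D S.al (C.p i) = 1 := le_antisymm (G.pgrade i) h1
      obtain ⟨d, hd⟩ := hl.hx _ (S.orbR_mem_M (r := C.p i) (map_one _)) (S.orbR_mem_Q h1'.ge 1)
      obtain ⟨m1, m2⟩ := S.ks_orb (n := 1) (σ := 1) (fun r => ⟨1, fun t => by simp⟩) hp rfl (c := (1 : K)) one_ne_zero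
      rw [one_mul, inv_one, mul_one] at m1 m2
      have hXd := C.X_mem_US K S.al_pos d
      refine ⟨_, m1, m2, by rw [hd]; exact mul_mem m1 hXd, ?_⟩
      rw [hd, ks_mul C m1 hXd, ks_X C S.al_pos, if_neg, add_zero]
      intro e
      rw [← e, S.al_pr] at h1'
      omega
  have hB : l ∈ D.borelSubgroup K := mem_borel_of C S.O.comm hl.grp fun i => by
    obtain ⟨g, a, b, c, -⟩ := hpos i; exact ⟨g, a, b, c⟩
  have hB' : C.wprod K opp * l * (C.wprod K opp)⁻¹ ∈ D.borelSubgroup K := by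
    set n0 := C.wprod K opp
    refine mem_borel_of C S.O.comm (mul_mem (mul_mem (C.monomial_le_group (C.wprod_mem_monomial opp)) hl.grp)
      (inv_mem (C.monomial_le_group (C.wprod_mem_monomial opp)))) fun i => ?_
    obtain ⟨j, hj⟩ := G.opp_simple i
    have hnegj : (C.p j).rev ∈ C.Neg := C.rev_neg (C.p_pos j)
    have hp : ∀ k, σ0 ((S.O.π : Rt D → Rt D)^[k] (C.p j).rev) ∈ C.Pos := fun k => by
      rw [hπrev]; exact hopp _ (C.rev_neg (hπpos (C.p_pos j) k))
    have key : ∀ g : GL D.Idx K, n0 * g * n0⁻¹ ∈ C.US K C.Pos → ks C i (n0 * g * n0⁻¹) ≠ 0 →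
        n0 * (l * g * l⁻¹) * n0⁻¹ ∈ C.US K C.Pos →
        ∃ g ∈ C.US K C.Pos, ks C i g ≠ 0 ∧ n0 * l * n0⁻¹ * g * (n0 * l * n0⁻¹)⁻¹ ∈ C.US K C.Pos := by
      intro g a b c
      refine ⟨_, a, b, ?_⟩
      convert c using 1
      group
    rcases (S.cert.nonneg _ (C.p_pos j)).eq_or_lt with h0 | h1
    · obtain ⟨η, δ, a1, a2, a3, a4⟩ := G.gen j h0.symm true
      obtain ⟨c, hc, he⟩ := hl.comm_orb (by
        show pr D S.al (C.p j).rev = 0
        rw [S.pr_rev', ← h0, neg_zero]) a1 a2 a3 a4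
      obtain ⟨m1, m2⟩ := S.ks_orb hn0 hp hj hc
      simp only [sd, cond_true] at he
      exact key _ m1 m2 (by rw [he]; exact m1)
    · have h1' : pr D S.al (C.p j) = 1 := le_antisymm (G.pgrade j) h1
      obtain ⟨δ, hv, hδ, hfix, cc, hcc, hconj⟩ := S.nA_root (C.p j).rev
      rw [S.pr_rev', h1', neg_neg] at hδ
      have hinv : S.nA⁻¹ * C.X K δ 1 * S.nA = C.X K (C.p j).rev cc⁻¹ := by
        have := hconj cc⁻¹
        rw [mul_inv_cancel₀ hcc] at this
        rw [← this]; group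
      have hg : S.nA⁻¹ * S.orbR δ 1 * S.nA = S.orbR (C.p j).rev cc⁻¹ := by
        have hsz : S.szR δ = S.szR (C.p j).rev := by simp only [szR, hfix]
        rw [show S.nA⁻¹ * S.orbR δ 1 * S.nA = MulAut.conj S.nA⁻¹ (S.orbR δ 1) by simp, orbR, orbR,
          map_list_prod, List.map_map, hsz]
        refine congrArg List.prod (List.map_congr_left fun k _ => ?_)
        have hn := S.fix_Θ S.nA_mem
        rw [Function.comp_apply, MulAut.conj_apply, inv_inv, ← hinv, S.iter_mul, S.iter_mul, S.iter_fix hn,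
          S.iter_fix (g := S.nA⁻¹) (by rw [map_inv, hn])]
      obtain ⟨d, hd⟩ := hl.hx _ (S.orbR_mem_M (r := δ) (map_one _)) (S.orbR_mem_Q hδ.ge 1)
      obtain ⟨m1, m2⟩ := S.ks_orb hn0 hp hj (inv_ne_zero hcc)
      refine key _ m1 m2 ?_
      have e1 : S.nA⁻¹ * C.X K S.al d * S.nA = C.X K S.al.rev (-d) := by
        have h2 := hl.comm_nA
        have e2 : S.nA * C.X K S.al.rev (-d) * S.nA⁻¹ = C.X K S.al d := by
          obtain ⟨s, hvs, -, -, c2, hc2, hc2'⟩ := S.nA_root S.al.rev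
          have hsA : s = S.al := C.v_inj (by rw [hvs, S.pr_rev', S.al_pr, C.v_rev]; module)
          subst hsA
          have h3 : S.nA * S.nA * C.X K S.al (-1) * (S.nA * S.nA)⁻¹ = C.X K S.al c2 := by
            rw [show S.nA * S.nA * C.X K S.al (-1) * (S.nA * S.nA)⁻¹ =
              S.nA * (S.nA * C.X K S.al (-1) * S.nA⁻¹) * S.nA⁻¹ by group, S.nA_X, neg_neg, hc2', mul_one]
          have h4 : S.nA * S.nA * C.X K S.al (-1) * (S.nA * S.nA)⁻¹ = C.X K S.al (-1) := by
            rw [nA, C.nR_mul, C.hD_eq_HT, C.HT_X_conj]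
            congr 1
            rw [Core.chA]
            simp [← zpow_mul, ← C.zpow_fsum, show ∑ j, co D S.al j * A D j S.al = 2 from C.pr_self _]
          have hc2v : c2 = -1 := by
            rw [h4] at h3
            by_contra hne
            have h5 : C.X K S.al (c2 - -1) = 1 := by
              rw [sub_eq_add_neg, ← C.X_add, ← h3, C.X_add, add_neg_cancel, C.X_zero]
            exact hne (sub_eq_zero.1 (C.X_eq_one h5))
          rw [hc2', hc2v]; congr 1; ring
        rw [← e2]; group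
      rw [← hg, show l * (S.nA⁻¹ * S.orbR δ 1 * S.nA) * l⁻¹ =
        (l * S.nA * l⁻¹)⁻¹ * (l * S.orbR δ 1 * l⁻¹) * (l * S.nA * l⁻¹) by group, hl.comm_nA, hd,
        show S.nA⁻¹ * (S.orbR δ 1 * C.X K S.al d) * S.nA =
          (S.nA⁻¹ * S.orbR δ 1 * S.nA) * (S.nA⁻¹ * C.X K S.al d * S.nA) by group, e1, hg,
        show n0 * (S.orbR (C.p j).rev cc⁻¹ * C.X K S.al.rev (-d)) * n0⁻¹ =
          (n0 * S.orbR (C.p j).rev cc⁻¹ * n0⁻¹) * (n0 * C.X K S.al.rev (-d) * n0⁻¹) by group]
      refine mul_mem m1 ?_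
      exact C.conj_mem_US K hn0 (S := {S.al.rev}) (fun r hr => by
        rw [Set.mem_singleton_iff] at hr; subst hr; exact hopp _ (C.rev_neg S.al_pos))
        (C.X_mem_US K (Set.mem_singleton _) _)
  obtain ⟨v, hv, k, hk, hlk⟩ := C.mem_borel_iff.1 hB
  have hv1 : v = 1 := by
    have h1 : C.wprod K opp * v * (C.wprod K opp)⁻¹ ∈ C.US K C.Neg :=
      C.conj_mem_US K hn0 (fun r hr => G.opp_neg r hr) hv
    have h2 : C.wprod K opp * v * (C.wprod K opp)⁻¹ ∈ D.borelSubgroup K := by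
      have hkd := C.conj_diagonal (C.wprod_mem_monomial opp) hk
      have e : C.wprod K opp * v * (C.wprod K opp)⁻¹ =
          (C.wprod K opp * l * (C.wprod K opp)⁻¹) * (C.wprod K opp * k * (C.wprod K opp)⁻¹)⁻¹ := by
        rw [hlk]; group
      rw [e]
      exact mul_mem hB' (inv_mem (C.diagonal_le_borel hkd))
    have h3 := Subgroup.mem_inf.2 ⟨h2, h1⟩
    rw [C.borel_inf_negUS, Subgroup.mem_bot, conj_eq_one_iff] at h3
    exact h3
  rw [hv1, one_mul] at hlk
  subst hlk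
  obtain ⟨c, rfl⟩ := C.mem_diagonal_iff.1 hk
  have hch : ∀ i, C.chA c (C.p i) = 1 := by
    intro i
    obtain ⟨g, hg, hne, -, heq⟩ := hpos i
    have : ks C i (C.HT K c * g * (C.HT K c)⁻¹) = (C.chA c (C.p i) : K) * ks C i g ∧
        C.HT K c * g * (C.HT K c)⁻¹ ∈ C.US K C.Pos := by
      clear heq hne
      induction hg using Subgroup.closure_induction with
      | mem x hx =>
        obtain ⟨r, hr, t, rfl⟩ := hx
        rw [C.HT_X_conj, ks_X C hr, ks_X C hr]
        refine ⟨?_, C.X_mem_US K hr _⟩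
        split_ifs with h
        · rw [h]
        · simp
      | one => simp [ks_one, one_mem]
      | mul x y hx hy ihx ihy =>
        rw [show C.HT K c * (x * y) * (C.HT K c)⁻¹ =
          (C.HT K c * x * (C.HT K c)⁻¹) * (C.HT K c * y * (C.HT K c)⁻¹) by group]
        exact ⟨by rw [ks_mul C ihx.2 ihy.2, ks_mul C hx hy, ihx.1, ihy.1, mul_add], mul_mem ihx.2 ihy.2⟩
      | inv x hx ih =>
        rw [show C.HT K c * x⁻¹ * (C.HT K c)⁻¹ = (C.HT K c * x * (C.HT K c)⁻¹)⁻¹ by group]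
        refine ⟨?_, inv_mem ih.2⟩
        have h1 := ks_mul C ih.2 (inv_mem ih.2) i
        have h2 := ks_mul C hx (inv_mem hx) i
        rw [mul_inv_cancel, ks_one] at h1 h2
        rw [ih.1] at h1
        linear_combination (C.chA c (C.p i) : K) * h2 - h1
    rw [this.1] at heq
    exact Units.ext (mul_right_cancel₀ hne (heq.trans (one_mul _).symm))
  rw [C.HT_eq_T]
  simp only [hch]
  rw [Core.T, show C.chr K (fun _ => 1) = 1 from funext fun s => by simp [Core.chr]]
  exact C.diag_one K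

end Setting

end Cfsg.Agent.Lib.SubfieldTwist29
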